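/-
Integer matrices of finite order: characteristic polynomials and kernels modulo integers.
-/
import Mathlib.RingTheory.Polynomial.Cyclotomic.Expand
import Mathlib.RingTheory.Polynomial.Cyclotomic.Roots
import Mathlib.LinearAlgebra.Matrix.Charpoly.Coeff
import Mathlib.LinearAlgebra.FreeModule.Finite.CardQuotient
import Mathlib.Data.ZMod.Basic
import Mathlib.FieldTheory.Finite.Basic

set_option autoImplicit false

namespace Cfsg.Agent.Chev.CyclTorus

open Polynomial

variable {n : ℕ}

/-- The cyclotomic polynomials dividing the characteristic polynomial. -/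
noncomputable def cycS (M : Matrix (Fin n) (Fin n) ℤ) (o : ℕ) : Finset ℕ := by
  classical exact o.divisors.filter fun e => cyclotomic e ℤ ∣ M.charpoly

theorem mem_cycS {M : Matrix (Fin n) (Fin n) ℤ} {o e : ℕ} :
    e ∈ cycS M o ↔ e ∈ o.divisors ∧ cyclotomic e ℤ ∣ M.charpoly := by
  classical simp [cycS]

/-- A matrix of finite order is killed by the cyclotomic factors of its characteristic polynomial. -/
theorem prod_cyclo {M : Matrix (Fin n) (Fin n) ℤ} {o : ℕ} (ho : 0 < o) (hM : M ^ o = 1) :
    aeval M (∏ e ∈ cycS M o, cyclotomic e ℤ) = 0 := by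
  classical
  set φ : Matrix (Fin n) (Fin n) ℤ →+* Matrix (Fin n) (Fin n) ℚ := (Int.castRingHom ℚ).mapMatrix
  have hφ : Function.Injective φ := fun A B e => by
    ext i j
    have := congrFun (congrFun e i) j
    simpa [φ, Matrix.map_apply] using this
  have hmap : ∀ f : ℤ[X], φ (aeval M f) = aeval (φ M) (f.map (Int.castRingHom ℚ)) := by
    intro f
    induction f using Polynomial.induction_on' with
    | add a b ha hb => simp [ha, hb, map_add]
    | monomial k a =>
      rw [Polynomial.map_monomial, aeval_monomial, aeval_monomial, map_mul, map_pow, eq_intCast, eq_intCast,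
        map_intCast]
      simp
  have hch : aeval (φ M) (M.charpoly.map (Int.castRingHom ℚ)) = 0 := by
    rw [← hmap, Matrix.aeval_self_charpoly, map_zero]
  set T := o.divisors \ cycS M o with hT
  have hunit : IsUnit (aeval (φ M) ((∏ e ∈ T, cyclotomic e ℤ).map (Int.castRingHom ℚ))) := by
    have hco : IsCoprime ((∏ e ∈ T, cyclotomic e ℤ).map (Int.castRingHom ℚ))
        (M.charpoly.map (Int.castRingHom ℚ)) := by
      rw [Polynomial.map_prod]
      refine IsCoprime.prod_left fun e he => ?_
      rw [hT, Finset.mem_sdiff, mem_cycS, not_and] at he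
      rw [map_cyclotomic_int, (cyclotomic.irreducible_rat (Nat.pos_of_mem_divisors he.1)).coprime_iff_not_dvd,
        ← map_cyclotomic_int, map_dvd_map _ (Int.cast_injective) (cyclotomic.monic e ℤ)]
      exact he.2 he.1
    obtain ⟨a, b, hab⟩ := hco
    have h1 := congrArg (aeval (φ M)) hab
    rw [map_add, map_mul, map_mul, hch, mul_zero, add_zero, map_one] at h1
    exact .of_mul_eq_one_right _ h1
  have h0 : aeval M ((∏ e ∈ T, cyclotomic e ℤ) * ∏ e ∈ cycS M o, cyclotomic e ℤ) = 0 := by
    rw [hT, Finset.prod_sdiff (fun e he => (mem_cycS.1 he).1), prod_cyclotomic_eq_X_pow_sub_one ho, map_sub,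
      map_pow, aeval_X, map_one, hM, sub_self]
  apply hφ
  rw [map_zero]
  have h2 := congrArg φ h0
  rw [hmap, map_zero, Polynomial.map_mul, map_mul] at h2
  rw [hmap]
  exact hunit.mul_right_eq_zero.1 h2

theorem aeval_mulVec {r : ℕ} (M : Matrix (Fin n) (Fin n) ℤ) {e : Fin n → ZMod r} {a : ZMod r}
    (he : (M.map (Int.castRingHom (ZMod r))).mulVec e = a • e) (f : ℤ[X]) :
    ((aeval M f).map (Int.castRingHom (ZMod r))).mulVec e = (f.map (Int.castRingHom (ZMod r))).eval a • e := by
  classical
  have hpow : ∀ k : ℕ, ((M ^ k).map (Int.castRingHom (ZMod r))).mulVec e = a ^ k • e := by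
    intro k
    induction k with
    | zero => simp
    | succ k ih =>
      rw [pow_succ', Matrix.map_mul, ← Matrix.mulVec_mulVec, ih, Matrix.mulVec_smul, he, smul_smul,
        pow_succ]
  induction f using Polynomial.induction_on' with
  | add p q hp hq =>
    rw [map_add, Matrix.map_add _ (map_add _), Matrix.add_mulVec, hp, hq, Polynomial.map_add, eval_add, add_smul]
  | monomial k c =>
    rw [aeval_monomial, Polynomial.map_monomial, eval_monomial, ← smul_smul, ← hpow, ← Algebra.smul_def,
      ← Matrix.smul_mulVec]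
    congr 1
    ext i j
    simp [Matrix.map_apply, ← zsmul_eq_mul]

/-- A matrix of finite order with an eigenvalue of order `m` modulo a large prime has characteristic
polynomial the cyclotomic polynomial, when the rank is its degree. -/
theorem charpoly_eq {M : Matrix (Fin n) (Fin n) ℤ} {o : ℕ} (ho : 0 < o) (hM : M ^ o = 1) {r m : ℕ}
    [Fact r.Prime] (hm : 0 < m) (hrm : ¬ r ∣ m) (hr : 2 < r) (hn : m.totient = n) {a : ZMod r}
    (ha : IsPrimitiveRoot a m) {e : Fin n → ZMod r} (he0 : e ≠ 0)
    (he : (M.map (Int.castRingHom (ZMod r))).mulVec e = a • e) : M.charpoly = cyclotomic m ℤ := by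
  classical
  have h0 := aeval_mulVec M he (∏ d ∈ cycS M o, cyclotomic d ℤ)
  rw [prod_cyclo ho hM, Matrix.map_zero _ (map_zero _), Matrix.zero_mulVec, eq_comm, smul_eq_zero,
    Polynomial.map_prod, eval_prod, Finset.prod_eq_zero_iff] at h0
  obtain ⟨d, hd, hda⟩ := h0.resolve_right he0
  obtain ⟨hdo, hdp⟩ := mem_cycS.1 hd
  rw [map_cyclotomic_int] at hda
  have hd0 := Nat.pos_of_mem_divisors hdo
  obtain ⟨k, d', hd', rfl⟩ := Nat.exists_eq_pow_mul_and_not_dvd hd0.ne' r (Fact.out : r.Prime).ne_one
  haveI : NeZero (d' : ZMod r) := ⟨fun e => hd' ((ZMod.natCast_eq_zero_iff _ _).1 e)⟩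
  have hprim := isRoot_cyclotomic_prime_pow_mul_iff_of_charP.1 hda
  obtain rfl : d' = m := hprim.unique ha
  have hdeg : (r ^ k * d').totient ≤ n := by
    have := natDegree_le_of_dvd hdp M.charpoly_monic.ne_zero
    rwa [natDegree_cyclotomic, Matrix.charpoly_natDegree_eq_dim, Fintype.card_fin] at this
  have hk : k = 0 := by
    by_contra hk
    rw [Nat.totient_mul ((Nat.Coprime.pow_left k) ((Fact.out : r.Prime).coprime_iff_not_dvd.2 hrm)),
      Nat.totient_prime_pow Fact.out (Nat.pos_of_ne_zero hk), hn] at hdeg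
    have h1 : 1 ≤ n := hn ▸ Nat.totient_pos.2 hm
    have h2 : 2 ≤ r ^ (k - 1) * (r - 1) := le_trans (by omega : 2 ≤ r - 1)
      (Nat.le_mul_of_pos_left _ (pow_pos (by omega) _))
    nlinarith
  subst hk
  rw [pow_zero, one_mul] at hdp
  refine eq_of_monic_of_dvd_of_natDegree_le (cyclotomic.monic _ _) M.charpoly_monic hdp ?_
  rw [natDegree_cyclotomic, Matrix.charpoly_natDegree_eq_dim, Fintype.card_fin, hn]

/-- No matrix has large prime order. -/
theorem eq_one_of_pow_prime {M : Matrix (Fin n) (Fin n) ℤ} {r : ℕ} (hr : r.Prime) (hn : n < r - 1)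
    (hM : M ^ r = 1) : M = 1 := by
  classical
  have hS : cycS M r ⊆ {1} := by
    intro e he
    obtain ⟨he1, he2⟩ := mem_cycS.1 he
    rw [hr.divisors, Finset.mem_insert, Finset.mem_singleton] at he1
    rcases he1 with rfl | rfl
    · simp
    · have h1 := natDegree_le_of_dvd he2 M.charpoly_monic.ne_zero
      rw [natDegree_cyclotomic, Matrix.charpoly_natDegree_eq_dim, Fintype.card_fin, Nat.totient_prime hr] at h1
      omega
  have h0 := prod_cyclo hr.pos hM
  rcases Finset.subset_singleton_iff.1 hS with e | e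
  · rw [e, Finset.prod_empty, map_one] at h0
    exact eq_of_zero_eq_one h0.symm _ _
  · rw [e, Finset.prod_singleton, cyclotomic_one, map_sub, aeval_X, map_one, sub_eq_zero] at h0
    exact h0

/-- The size of a cokernel of an integer matrix. -/
theorem card_coker {N : Matrix (Fin n) (Fin n) ℤ} (hN : Function.Injective N.mulVecLin) :
    Nat.card ((Fin n → ℤ) ⧸ LinearMap.range N.mulVecLin) = N.det.natAbs := by
  rw [← Submodule.natAbs_det_equiv (LinearMap.range N.mulVecLin) (LinearEquiv.ofInjective N.mulVecLin hN),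
    ← LinearMap.det_toLin' N]
  congr 1

/-- The size of a kernel modulo a multiple of the matrix. -/
theorem card_ker_mod {N N' : Matrix (Fin n) (Fin n) ℤ} {A : ℕ} [NeZero A] (h : N' * N = (A : ℤ) • 1) :
    Nat.card {x : Fin n → ZMod A // (N.map (Int.castRingHom (ZMod A))).mulVec x = 0} = N.det.natAbs := by
  classical
  have hA : (A : ℤ) ≠ 0 := by exact_mod_cast NeZero.ne A
  have hscal : ((A : ℤ) • (1 : Matrix (Fin n) (Fin n) ℤ)).det ≠ 0 := by
    rw [Matrix.det_smul, Matrix.det_one, mul_one]
    exact pow_ne_zero _ hA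
  rw [← h, Matrix.det_mul, mul_ne_zero_iff] at hscal
  have hinj' : Function.Injective N'.mulVec := fun x y e => by
    have h1 := congrArg N'.adjugate.mulVec e
    simp only [Matrix.mulVec_mulVec, Matrix.adjugate_mul, Matrix.smul_mulVec, Matrix.one_mulVec] at h1
    exact smul_right_injective _ hscal.1 h1
  have hinj : Function.Injective N.mulVecLin := fun x y e => by
    have h1 := congrArg N.adjugate.mulVec (show N.mulVec x = N.mulVec y from e)
    simp only [Matrix.mulVec_mulVec, Matrix.adjugate_mul, Matrix.smul_mulVec, Matrix.one_mulVec] at h1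
    exact smul_right_injective _ hscal.2 h1
  have h' : N * N' = (A : ℤ) • 1 := by
    have e := congrArg (fun X => N * X) h
    simp only [← Matrix.mul_assoc, Matrix.mul_smul, Matrix.mul_one] at e
    ext i j
    have e2 : (N * N' - (A : ℤ) • 1) * N = 0 := by rw [Matrix.sub_mul, e, Matrix.smul_mul, Matrix.one_mul, sub_self]
    have e3 := congrArg (fun X => X * N.adjugate) e2
    simp only [Matrix.mul_assoc, Matrix.mul_adjugate, Matrix.mul_smul, Matrix.mul_one, Matrix.zero_mul,
      smul_eq_zero] at e3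
    exact sub_eq_zero.1 (congrFun (congrFun (e3.resolve_left hscal.2) i) j)
  set π := Int.castRingHom (ZMod A)
  let red : (Fin n → ℤ) → (Fin n → ZMod A) := fun z i => π (z i)
  have hred : ∀ (Q : Matrix (Fin n) (Fin n) ℤ) z, (Q.map π).mulVec (red z) = red (Q.mulVec z) := fun Q z => by
    funext i
    exact (RingHom.map_mulVec π Q z i).symm
  have hz : ∀ z : Fin n → ℤ, red z = 0 ↔ ∃ w : Fin n → ℤ, z = (A : ℤ) • w := fun z => by
    constructor
    · intro e
      have hd : ∀ i, (A : ℤ) ∣ z i := fun i => (ZMod.intCast_zmod_eq_zero_iff_dvd _ _).1 (congrFun e i)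
      choose w hw using hd
      exact ⟨w, funext hw⟩
    · rintro ⟨w, rfl⟩
      funext i
      simp [red, π]
  let ker : AddSubgroup (Fin n → ZMod A) := (N.map π).mulVecLin.toAddMonoidHom.ker
  have hmem : ∀ x, x ∈ ker ↔ (N.map π).mulVec x = 0 := fun x => Iff.rfl
  let f : (Fin n → ℤ) →+ ker :=
    { toFun := fun z => ⟨red (N'.mulVec z), by
        rw [hmem, hred, Matrix.mulVec_mulVec, h', Matrix.smul_mulVec, Matrix.one_mulVec]
        exact (hz _).2 ⟨z, rfl⟩⟩
      map_zero' := by ext i; simp [red]
      map_add' := fun a b => by ext i; simp [red, Matrix.mulVec_add] }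
  have hs : Function.Surjective f := by
    rintro ⟨x, hx⟩
    have hlift : ∀ i, ∃ z : ℤ, π z = x i := fun i => ZMod.intCast_surjective (x i)
    choose z hzx using hlift
    have hz' : red z = x := funext hzx
    obtain ⟨w, hw⟩ := (hz (N.mulVec z)).1 (by rw [← hred, hz']; exact hx)
    refine ⟨w, Subtype.ext ?_⟩
    show red (N'.mulVec w) = x
    rw [← hz']
    congr 1
    refine smul_right_injective _ hA (?_ : (A : ℤ) • N'.mulVec w = (A : ℤ) • z)
    rw [← Matrix.mulVec_smul, ← hw, Matrix.mulVec_mulVec, h, Matrix.smul_mulVec, Matrix.one_mulVec]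
  have hk : ∀ z, z ∈ f.ker ↔ z ∈ LinearMap.range N.mulVecLin := fun z => by
    rw [AddMonoidHom.mem_ker, Subtype.ext_iff]
    show red (N'.mulVec z) = 0 ↔ _
    rw [hz, LinearMap.mem_range]
    refine exists_congr fun w => ⟨fun e => hinj' ?_, fun e => ?_⟩
    · show N'.mulVec (N.mulVec w) = N'.mulVec z
      rw [Matrix.mulVec_mulVec, h, Matrix.smul_mulVec, Matrix.one_mulVec, e]
    · rw [← e]
      show N'.mulVec (N.mulVec w) = _
      rw [Matrix.mulVec_mulVec, h, Matrix.smul_mulVec, Matrix.one_mulVec]
  rw [← card_coker hinj]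
  refine ((Nat.card_congr (Equiv.subtypeEquivRight hmem)).symm.trans ?_)
  rw [← Nat.card_congr (QuotientAddGroup.quotientKerEquivOfSurjective f hs).toEquiv]
  exact Nat.card_congr (QuotientAddGroup.quotientAddEquivOfEq (AddSubgroup.ext hk)).toEquiv

/-- A kernel modulo a prime is bounded by the determinant. -/
theorem card_prime_dvd {N : Matrix (Fin n) (Fin n) ℤ} (hN : N.det ≠ 0) (s : ℕ) [Fact s.Prime] :
    Nat.card {x : Fin n → ZMod s // (N.map (Int.castRingHom (ZMod s))).mulVec x = 0} ∣ N.det.natAbs := by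
  classical
  set π := Int.castRingHom (ZMod s)
  have hinj : Function.Injective N.mulVecLin := fun x y e => by
    have h1 := congrArg N.adjugate.mulVec (show N.mulVec x = N.mulVec y from e)
    simp only [Matrix.mulVec_mulVec, Matrix.adjugate_mul, Matrix.smul_mulVec, Matrix.one_mulVec] at h1
    exact smul_right_injective _ hN h1
  let g : (Fin n → ZMod s) →+ (Fin n → ZMod s) := (N.map π).mulVecLin.toAddMonoidHom
  have e1 := g.ker.card_mul_index
  rw [AddSubgroup.index_ker] at e1
  have e2 := g.range.card_mul_index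
  rw [← e2, mul_comm] at e1
  have e3 : Nat.card g.ker = g.range.index := Nat.eq_of_mul_eq_mul_left Nat.card_pos e1
  show Nat.card g.ker ∣ _
  rw [e3, AddSubgroup.index]
  let red : (Fin n → ℤ) →+ (Fin n → ZMod s) := π.toAddMonoidHom.compLeft (Fin n)
  have hle : (LinearMap.range N.mulVecLin).toAddSubgroup ≤ g.range.comap red := by
    rintro _ ⟨z, rfl⟩
    exact ⟨red z, funext fun i => (RingHom.map_mulVec π N z i).symm⟩
  have hsur : Function.Surjective
      (QuotientAddGroup.map (LinearMap.range N.mulVecLin).toAddSubgroup g.range red hle) := by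
    intro x
    obtain ⟨y, rfl⟩ := QuotientAddGroup.mk_surjective x
    have hlift : ∀ i, ∃ z : ℤ, π z = y i := fun i => ZMod.intCast_surjective (y i)
    choose z hz using hlift
    exact ⟨QuotientAddGroup.mk z, congrArg QuotientAddGroup.mk (funext hz)⟩
  have h4 := AddSubgroup.card_dvd_of_surjective _ hsur
  rwa [show Nat.card ((Fin n → ℤ) ⧸ (LinearMap.range N.mulVecLin).toAddSubgroup) = N.det.natAbs from
    card_coker hinj] at h4

/-- A kernel modulo a prime is small when the square of the prime does not divide the determinant. -/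
theorem card_prime_le {N : Matrix (Fin n) (Fin n) ℤ} (hN : N.det ≠ 0) (s : ℕ) [Fact s.Prime]
    (h2 : ¬ ((s : ℤ) ^ 2) ∣ N.det) :
    Nat.card {x : Fin n → ZMod s // (N.map (Int.castRingHom (ZMod s))).mulVec x = 0} ≤ s := by
  classical
  have hd := card_prime_dvd hN s
  have hp : IsPGroup s (Multiplicative (Fin n → ZMod s)) := IsPGroup.of_card (n := n) (by
    rw [Nat.card_congr Multiplicative.toAdd, Nat.card_fun, Nat.card_zmod, Nat.card_eq_fintype_card, Fintype.card_fin])
  let g : (Fin n → ZMod s) →+ (Fin n → ZMod s) :=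
    (N.map (Int.castRingHom (ZMod s))).mulVecLin.toAddMonoidHom
  obtain ⟨k, hk⟩ := IsPGroup.iff_card.1 (hp.to_subgroup (AddSubgroup.toSubgroup g.ker))
  have hk' : Nat.card {x : Fin n → ZMod s // (N.map (Int.castRingHom (ZMod s))).mulVec x = 0} = s ^ k := by
    rw [← hk]
    exact Nat.card_congr (Equiv.subtypeEquiv Multiplicative.ofAdd fun _ => Iff.rfl)
  rw [hk'] at hd ⊢
  by_contra hlt
  refine h2 (Int.natAbs_dvd_natAbs.1 ?_)
  rw [Int.natAbs_pow, Int.natAbs_natCast]
  refine (pow_dvd_pow s ?_).trans hd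
  by_contra hk2
  push Not at hk2
  apply hlt
  calc s ^ k ≤ s ^ 1 := Nat.pow_le_pow_right (Fact.out : s.Prime).pos (by omega)
    _ = s := pow_one s

end Cfsg.Agent.Chev.CyclTorus
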