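/-
Eigenvectors of Weyl elements modulo a prime are regular.
-/
import Cfsg.Agent.Lib.Chev.CyclTorus.Alg
import Cfsg.Agent.Lib.Chev.Weyl
import Cfsg.Agent.Lib.Chev.WeakClosed
import Mathlib.LinearAlgebra.Matrix.SchurComplement
import Mathlib.GroupTheory.OrderOfElement

set_option autoImplicit false
set_option linter.unusedSectionVars false

namespace Cfsg.Agent.Chev.CyclTorus

open Cfsg.Lie Cfsg.Agent.Chev

/-- The matrix of a Weyl element in simple-root coordinates. -/
def WM (P : Pk) (l : List ℕ) : Matrix (Fin P.rank) (Fin P.rank) ℤ :=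
  Matrix.of fun k j => P.rv (wl P l (P.sim k)) j

/-- The value of a functional at a root. -/
def dot {R : Type*} [CommRing R] (P : Pk) (e : Fin P.rank → R) (r : ℕ) : R :=
  ∑ j : Fin P.rank, (P.rv r j : R) * e j

/-- The transform of a functional by a Weyl element. -/
def tr {R : Type*} [CommRing R] (P : Pk) (l : List ℕ) (e : Fin P.rank → R) : Fin P.rank → R :=
  ((WM P l).map (Int.castRingHom R)).mulVec e

theorem tr_apply {R : Type*} [CommRing R] (P : Pk) (l : List ℕ) (e : Fin P.rank → R) (k : Fin P.rank) :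
    tr P l e k = dot P e (wl P l (P.sim k)) := rfl

/-- Iterates of a word. -/
def pw (k : ℕ) (l : List ℕ) : List ℕ := (List.replicate k l).flatten

variable {D : ChevalleyDatum} {P : Pk} (h : Ok D P)

theorem wordOk_pw {l : List ℕ} (hl : WordOk P l) (k : ℕ) : WordOk P (pw k l) := fun i hi => by
  obtain ⟨x, hx, hix⟩ := List.mem_flatten.1 hi
  rw [(List.mem_replicate.1 hx).2] at hix
  exact hl i hix

include h

theorem dot_sim {R : Type*} [CommRing R] (e : Fin P.rank → R) (k : Fin P.rank) : dot P e (P.sim k) = e k := by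
  rw [dot, Finset.sum_eq_single k]
  · rw [h.rv_sim k.isLt k.isLt, if_pos rfl, Int.cast_one, one_mul]
  · intro j _ hj
    rw [h.rv_sim k.isLt j.isLt, if_neg (fun e => hj (Fin.ext e.symm)), Int.cast_zero, zero_mul]
  · simp

theorem dot_wl {R : Type*} [CommRing R] {l : List ℕ} (hl : WordOk P l) (e : Fin P.rank → R) {r : ℕ}
    (hr : r < P.nroots) : dot P e (wl P l r) = dot P (tr P l e) r := by
  simp only [dot, tr_apply]
  simp only [Finset.mul_sum]
  rw [Finset.sum_comm]
  refine Finset.sum_congr rfl fun j _ => ?_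
  rw [h.rv_wl l hl r hr j j.isLt, Int.cast_sum, Finset.sum_mul,
    ← Fin.sum_univ_eq_sum_range (fun k => ((P.rv r k * P.rv (wl P l (P.sim k)) j : ℤ) : R) * e j)]
  exact Finset.sum_congr rfl fun k _ => by push_cast; ring

theorem dot_ng {R : Type*} [CommRing R] (e : Fin P.rank → R) {r : ℕ} (hr : r < P.nroots) :
    dot P e (P.ng r) = -dot P e r := by
  rw [dot, dot, ← Finset.sum_neg_distrib]
  exact Finset.sum_congr rfl fun j _ => by rw [h.rv_ng hr j.isLt, Int.cast_neg, neg_mul]

theorem WM_nil : WM P [] = 1 := by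
  ext k j
  show P.rv (P.sim k) j = _
  rw [h.rv_sim k.isLt j.isLt, Matrix.one_apply]
  simp [Fin.ext_iff]

theorem WM_append {a b : List ℕ} (ha : WordOk P a) (hb : WordOk P b) :
    WM P (a ++ b) = WM P b * WM P a := by
  ext k j
  rw [Matrix.mul_apply]
  show P.rv (wl P (a ++ b) (P.sim k)) j = _
  rw [wl_append, h.rv_wl a ha _ (h.wl_lt b hb _ (h.sim_lt k.isLt)) j j.isLt,
    ← Fin.sum_univ_eq_sum_range (fun i => P.rv (wl P b (P.sim k)) i * P.rv (wl P a (P.sim i)) j)]
  rfl

theorem tr_append {R : Type*} [CommRing R] {a b : List ℕ} (ha : WordOk P a) (hb : WordOk P b)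
    (e : Fin P.rank → R) : tr P (a ++ b) e = tr P b (tr P a e) := by
  rw [tr, tr, tr, Matrix.mulVec_mulVec, ← Matrix.map_mul, WM_append h ha hb]

theorem WM_pw {l : List ℕ} (hl : WordOk P l) : ∀ k, WM P (pw k l) = WM P l ^ k
  | 0 => by rw [pow_zero]; exact WM_nil h
  | k + 1 => by
    rw [show pw (k + 1) l = l ++ pw k l by simp [pw, List.replicate_succ],
      WM_append h hl (wordOk_pw hl k), pow_succ, WM_pw hl k]

theorem WM_congr {l l' : List ℕ} (e : ∀ r < P.nroots, wl P l r = wl P l' r) : WM P l = WM P l' := by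
  ext k j
  show P.rv _ j = P.rv _ j
  rw [e _ (h.sim_lt k.isLt)]

theorem wl_eq_of_WM {l : List ℕ} (hl : WordOk P l) (e : WM P l = 1) : ∀ r < P.nroots, wl P l r = r := by
  intro r hr
  refine h.rv_inj (h.wl_lt l hl r hr) hr fun i hi => ?_
  rw [h.rv_wl l hl r hr i hi, Finset.sum_eq_single i]
  · rw [show P.rv (wl P l (P.sim i)) i = WM P l ⟨i, hi⟩ ⟨i, hi⟩ from rfl, e, Matrix.one_apply_eq, mul_one]
  · intro k hk hne
    rw [show P.rv (wl P l (P.sim k)) i = WM P l ⟨k, Finset.mem_range.1 hk⟩ ⟨i, hi⟩ from rfl, e,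
      Matrix.one_apply_ne (fun e => hne (congrArg Fin.val e)), mul_zero]
  · intro hn; exact absurd (Finset.mem_range.2 hi) hn

/-- A Weyl element has finite order. -/
theorem exists_order {l : List ℕ} (hl : WordOk P l) : ∃ o, 0 < o ∧ WM P l ^ o = 1 := by
  classical
  let π : Equiv.Perm (Fin P.nroots) := Equiv.ofBijective (act P l) (Finite.injective_iff_bijective.1 fun a b e => by
    apply Fin.ext
    have e' := congrArg Fin.val e
    rw [h.act_val hl, h.act_val hl] at e'
    have := congrArg (wl P l.reverse) e'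
    rwa [h.wl_reverse l hl _ a.isLt, h.wl_reverse l hl _ b.isLt] at this)
  have hpow : ∀ k, ∀ r : Fin P.nroots, ((π ^ k) r).val = wl P (pw k l) r := by
    intro k
    induction k with
    | zero => exact fun r => rfl
    | succ k ih =>
      intro r
      rw [pow_succ', Equiv.Perm.mul_apply, pw, List.replicate_succ, List.flatten_cons, wl_append]
      show (act P l _).val = _
      rw [h.act_val hl, ih r]
      rfl
  refine ⟨orderOf π, orderOf_pos π, ?_⟩
  rw [← WM_pw h hl, ← WM_nil h]
  refine WM_congr h fun r hr => ?_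
  rw [← hpow _ ⟨r, hr⟩, pow_orderOf_eq_one]
  rfl

theorem WM_reverse_mul {a : List ℕ} (ha : WordOk P a) : WM P a.reverse * WM P a = 1 := by
  have har : WordOk P a.reverse := fun x hx => ha x (List.mem_reverse.1 hx)
  rw [← WM_append h ha har, ← WM_nil h]
  refine WM_congr h fun r hr => ?_
  have := h.wl_reverse a.reverse har r hr
  rwa [List.reverse_reverse, ← wl_append] at this

theorem det_single {i : ℕ} (hi : i < P.rank) : (WM P [i]).det = -1 := by
  classical
  have e : WM P [i] = 1 + Matrix.replicateCol Unit (fun k : Fin P.rank => -P.A i (P.sim k)) *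
      Matrix.replicateRow Unit (Pi.single (⟨i, hi⟩ : Fin P.rank) (1 : ℤ)) := by
    ext k j
    show P.rv (P.w i (P.sim k)) j = _
    rw [((h.w_spec hi (h.sim_lt k.isLt)).2.2.2.2.2.1 j j.isLt).1, h.rv_sim k.isLt j.isLt]
    simp only [Matrix.add_apply, Matrix.one_apply, Matrix.mul_apply, Matrix.replicateCol_apply,
      Matrix.replicateRow_apply, Finset.univ_unique, Finset.sum_singleton, Pi.single_apply, Fin.ext_iff]
    split_ifs <;> simp_all <;> ring
  rw [e, Matrix.det_one_add_replicateCol_mul_replicateRow]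
  simp [h.A_self hi]

theorem tr_single {R : Type*} [CommRing R] {i : ℕ} (hi : i < P.rank) (e : Fin P.rank → R)
    (he : e ⟨i, hi⟩ = 0) : tr P [i] e = e := by
  funext k
  rw [tr_apply, show wl P [i] (P.sim k) = P.w i (P.sim k) from rfl]
  rw [← dot_sim h e k, dot, dot]
  refine Finset.sum_congr rfl fun j _ => ?_
  rw [((h.w_spec hi (h.sim_lt k.isLt)).2.2.2.2.2.1 j j.isLt).1]
  by_cases hj : (j : ℕ) = i
  · obtain rfl : j = ⟨i, hi⟩ := Fin.ext hj
    rw [he, mul_zero, mul_zero]
  · rw [if_neg hj, sub_zero]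

theorem exists_conj_sim {r : ℕ} (hr : r < P.nroots) :
    ∃ a i, WordOk P a ∧ i < P.rank ∧ wl P a (P.sim i) = r := by
  refine h.root_induction (Q := fun r => ∃ a i, WordOk P a ∧ i < P.rank ∧ wl P a (P.sim i) = r)
    (fun i hi => ⟨[], i, fun _ hx => absurd hx List.not_mem_nil, hi, rfl⟩) (fun j hj r _ hQ => ?_) r hr
  obtain ⟨a, i, ha, hi, rfl⟩ := hQ
  exact ⟨j :: a, i, List.forall_mem_cons.2 ⟨hj, ha⟩, hi, rfl⟩

/-- A Weyl element fixing an integral regular functional is trivial. -/
theorem regular_fix : ∀ (c : ℕ) (E : Fin P.rank → ℤ) (l : List ℕ), WordOk P l →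
    (∀ r < P.nroots, dot P E r ≠ 0) →
    ((Finset.range P.nroots).filter fun r => P.isPos r = true ∧ dot P E r < 0).card ≤ c →
    tr P l E = E → ∀ r < P.nroots, wl P l r = r := by
  intro c
  induction c with
  | zero =>
    intro E l hl hreg hc hfix
    have hpos : ∀ r < P.nroots, P.isPos r = true → 0 < dot P E r := fun r hr hp => by
      rcases lt_trichotomy (dot P E r) 0 with e | e | e
      · exfalso
        have hr' : r ∈ (Finset.range P.nroots).filter fun r => P.isPos r = true ∧ dot P E r < 0 :=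
          Finset.mem_filter.2 ⟨Finset.mem_range.2 hr, hp, e⟩
        have := Finset.card_pos.2 ⟨r, hr'⟩
        omega
      · exact absurd e (hreg r hr)
      · exact e
    refine h.wl_eq_id l.length l le_rfl hl fun i hi => ?_
    have hlt := h.wl_lt l hl _ (h.sim_lt hi)
    have h1 : dot P E (wl P l (P.sim i)) = dot P E (P.sim i) := by
      rw [dot_wl h hl E (h.sim_lt hi), hfix]
    have h2 := hpos _ (h.sim_lt hi) (h.sim_pos hi)
    by_contra hne
    simp only [Bool.not_eq_true] at hne
    have h3 := hpos _ (Ok.ng_lt hlt) ((h.ng_pos_iff hlt).2 hne)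
    rw [dot_ng h E hlt, h1] at h3
    omega
  | succ c ih =>
    intro E l hl hreg hc hfix
    by_cases hall : ∀ i < P.rank, 0 < dot P E (P.sim i)
    · refine ih E l hl hreg ?_ hfix
      refine le_trans (le_of_eq (Finset.card_eq_zero.2 (Finset.filter_eq_empty_iff.2 fun r hr ⟨hp, hn⟩ => ?_)))
        (Nat.zero_le _)
      have : 0 ≤ dot P E r := Finset.sum_nonneg fun j _ => by
        have h2 := hall j j.isLt
        rw [dot_sim h E j] at h2
        exact mul_nonneg ((h.rv_sign (Finset.mem_range.1 hr) j.isLt).1 hp) h2.le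
      omega
    push Not at hall
    obtain ⟨i, hi, hle⟩ := hall
    have hneg : dot P E (P.sim i) < 0 := lt_of_le_of_ne hle (hreg _ (h.sim_lt hi))
    have hw : WordOk P [i] := by simpa [WordOk] using hi
    set E' := tr P [i] E with hE'
    have hd : ∀ r < P.nroots, dot P E' r = dot P E (P.w i r) := fun r hr => (dot_wl h hw E hr).symm
    have hl' : WordOk P ([i] ++ l ++ [i]) := fun x hx => by
      simp only [List.mem_append, List.mem_singleton] at hx
      rcases hx with (rfl | hx) | rfl
      exacts [hi, hl x hx, hi]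
    have hw2 : ∀ r < P.nroots, wl P ([i] ++ [i]) r = r := fun r hr => h.w_w hi hr
    have hcount : ((Finset.range P.nroots).filter fun r => P.isPos r = true ∧ dot P E' r < 0).card ≤ c := by
      have hsub : ((Finset.range P.nroots).filter fun r => P.isPos r = true ∧ dot P E' r < 0).image (P.w i) ⊆
          ((Finset.range P.nroots).filter fun r => P.isPos r = true ∧ dot P E r < 0).erase (P.sim i) := by
        intro s hs
        obtain ⟨r, hr, rfl⟩ := Finset.mem_image.1 hs
        obtain ⟨hr1, hp, hn⟩ := Finset.mem_filter.1 hr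
        have hr' := Finset.mem_range.1 hr1
        rw [hd r hr'] at hn
        have hne : r ≠ P.sim i := by
          rintro rfl
          rw [h.w_sim hi, dot_ng h E (h.sim_lt hi)] at hn
          omega
        have hp' := h.isPos_w_of_ne_sim hi hp hne
        refine Finset.mem_erase.2 ⟨fun e => ?_, Finset.mem_filter.2 ⟨Finset.mem_range.2 (h.w_lt hi hr'), hp', hn⟩⟩
        have e2 := congrArg (P.w i) e
        rw [h.w_w hi hr', h.w_sim hi] at e2
        rw [e2, h.ng_pos_iff (h.sim_lt hi), h.sim_pos hi] at hp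
        simp at hp
      have h1 := Finset.card_le_card hsub
      rw [Finset.card_image_of_injOn (fun a ha b hb e => h.w_inj hi
          (Finset.mem_range.1 (Finset.mem_filter.1 ha).1) (Finset.mem_range.1 (Finset.mem_filter.1 hb).1) e),
        Finset.card_erase_of_mem (Finset.mem_filter.2 ⟨Finset.mem_range.2 (h.sim_lt hi), h.sim_pos hi, hneg⟩)] at h1
      omega
    have hEE : tr P [i] E' = E := by
      funext k
      rw [tr_apply, show wl P [i] (P.sim k) = P.w i (P.sim k) from rfl, hd _ (h.w_lt hi (h.sim_lt k.isLt)),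
        h.w_w hi (h.sim_lt k.isLt), dot_sim h E k]
    have hres := ih E' ([i] ++ l ++ [i]) hl' (fun r hr => by rw [hd r hr]; exact hreg _ (h.w_lt hi hr)) hcount (by
      rw [tr_append h (fun x hx => hl' x (List.mem_append_left _ hx)) hw, tr_append h hw hl, hEE, hfix])
    intro r hr
    have h1 := hres (P.w i r) (h.w_lt hi hr)
    rw [wl_append, wl_append] at h1
    simp only [wl] at h1
    rw [h.w_w hi hr] at h1
    have h2 := congrArg (P.w i) h1
    rwa [h.w_w hi hr, h.w_w hi (h.wl_lt l hl r hr)] at h2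

/-- An eigenvector of a Weyl element modulo a prime is regular, when the characteristic polynomial is determined by it. -/
theorem regular_eigen' {r : ℕ} [Fact r.Prime] (hr : P.rank < r - 1) {a : ZMod r} {P0 : Polynomial ℤ}
    (hP0 : P0.coeff 0 ≠ 0) {e : Fin P.rank → ZMod r} {l : List ℕ} (hl : WordOk P l) (he : tr P l e = a • e)
    (key : ∀ l, WordOk P l → tr P l e = a • e → (WM P l).charpoly = P0) :
    (WM P l).charpoly = P0 ∧ (∀ α < P.nroots, dot P e α ≠ 0) ∧
      ∀ l', WordOk P l' → tr P l' e = e → ∀ α < P.nroots, wl P l' α = α := by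
  classical
  -- elements fixing the eigenvector have determinant one
  have hdet : ∀ l', WordOk P l' → tr P l' e = e → (WM P l').det = 1 := by
    intro l' hl' hfix
    have hll : WordOk P (l' ++ l) := fun x hx => (List.mem_append.1 hx).elim (hl' x) (hl x)
    have h1 := key _ hll (by rw [tr_append h hl' hl, hfix, he])
    have h2 := key _ hl he
    have e1 := congrArg (fun p => Polynomial.coeff p 0) (h1.trans h2.symm)
    rw [WM_append h hl' hl] at e1
    have e3 : (WM P l).det * (WM P l').det = (WM P l).det * 1 := by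
      rw [mul_one, ← Matrix.det_mul, Matrix.det_eq_sign_charpoly_coeff, Matrix.det_eq_sign_charpoly_coeff, e1]
    refine mul_left_cancel₀ (fun e0 => ?_) e3
    rw [Matrix.det_eq_sign_charpoly_coeff, h2, mul_eq_zero] at e0
    exact e0.elim (pow_ne_zero _ (by norm_num)) hP0
  have hreg : ∀ α < P.nroots, dot P e α ≠ 0 := by
    intro α hα h0
    obtain ⟨b, i, hb, hi, rfl⟩ := exists_conj_sim h hα
    have hbr : WordOk P b.reverse := fun x hx => hb x (List.mem_reverse.1 hx)
    have hwi : WordOk P [i] := by simpa [WordOk] using hi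
    have hzero : tr P b e ⟨i, hi⟩ = 0 := h0
    have hbi : WordOk P (b ++ [i]) := fun x hx => (List.mem_append.1 hx).elim (hb x) (hwi x)
    have hfix : tr P (b ++ [i] ++ b.reverse) e = e := by
      rw [tr_append h hbi hbr, tr_append h hb hwi, tr_single h hi _ hzero, tr, tr, Matrix.mulVec_mulVec,
        ← Matrix.map_mul, WM_reverse_mul h hb, Matrix.map_one _ (map_zero _) (map_one _), Matrix.one_mulVec]
    have h1 := hdet _ (fun x hx => (List.mem_append.1 hx).elim (hbi x) (hbr x)) hfix
    rw [WM_append h hbi hbr, WM_append h hb hwi, Matrix.det_mul, Matrix.det_mul, det_single h hi,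
      mul_left_comm, ← Matrix.det_mul, WM_reverse_mul h hb, Matrix.det_one] at h1
    norm_num at h1
  refine ⟨key l hl he, hreg, fun l' hl' hfix α hα => ?_⟩
  obtain ⟨o, ho, hMo⟩ := exists_order h hl'
  by_contra hne
  have hM1 : WM P l' ≠ 1 := fun e => hne (wl_eq_of_WM h hl' e α hα)
  have hfin : IsOfFinOrder (WM P l') := isOfFinOrder_iff_pow_eq_one.2 ⟨o, ho, hMo⟩
  obtain ⟨s, hs, hsd⟩ := Nat.exists_prime_and_dvd (n := orderOf (WM P l')) (by rwa [Ne, orderOf_eq_one_iff])
  set k := orderOf (WM P l') / s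
  have hks : k * s = orderOf (WM P l') := Nat.div_mul_cancel hsd
  set l2 := pw k l' with hl2
  have hl2w : WordOk P l2 := wordOk_pw hl' k
  have hM2 : WM P l2 ≠ 1 := by
    rw [hl2, WM_pw h hl']
    refine pow_ne_one_of_lt_orderOf ?_ ?_
    · intro e0
      rw [e0, zero_mul] at hks
      exact (hfin.orderOf_pos).ne' hks.symm
    · have := hs.two_le
      have := hfin.orderOf_pos
      nlinarith
  have hM2s : WM P l2 ^ s = 1 := by rw [hl2, WM_pw h hl', ← pow_mul, hks, pow_orderOf_eq_one]
  have hfix2 : tr P l2 e = e := by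
    have : ∀ j, tr P (pw j l') e = e := by
      intro j
      induction j with
      | zero => rw [tr, show WM P (pw 0 l') = 1 from WM_nil h, Matrix.map_one _ (map_zero _) (map_one _),
          Matrix.one_mulVec]
      | succ j ih =>
        rw [show pw (j + 1) l' = l' ++ pw j l' by simp [pw, List.replicate_succ],
          tr_append h hl' (wordOk_pw hl' j), hfix]
        exact ih
    exact this k
  have hsr : s ≠ r := fun e => hM2 (eq_one_of_pow_prime hs (e ▸ hr) hM2s)
  set et : Fin P.rank → ℤ := fun i => (e i).val with het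
  set E : Fin P.rank → ℤ := ∑ j ∈ Finset.range s, (WM P l2 ^ j).mulVec et with hE
  have hEfix : tr P l2 E = E := by
    rw [tr, show (WM P l2).map (Int.castRingHom ℤ) = WM P l2 by ext; simp [Matrix.map_apply], hE,
      Matrix.mulVec_sum]
    simp only [Matrix.mulVec_mulVec, ← pow_succ']
    apply add_right_cancel (b := (WM P l2 ^ 0).mulVec et)
    rw [← Finset.sum_range_succ' (fun j => (WM P l2 ^ j).mulVec et), Finset.sum_range_succ, hM2s, pow_zero]
  have hEr : ∀ i, ((E i : ℤ) : ZMod r) = (s : ZMod r) * e i := by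
    intro i
    have hj : ∀ j, (((WM P l2 ^ j).mulVec et i : ℤ) : ZMod r) = e i := by
      intro j
      have h1 : ((WM P l2 ^ j).map (Int.castRingHom (ZMod r))).mulVec e = e := by
        induction j with
        | zero => simp
        | succ j ih =>
          rw [pow_succ', Matrix.map_mul, ← Matrix.mulVec_mulVec, ih]
          exact hfix2
      have h2 := RingHom.map_mulVec (Int.castRingHom (ZMod r)) (WM P l2 ^ j) et i
      rw [show Int.castRingHom (ZMod r) ∘ et = e from funext fun i => by simp [het], h1] at h2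
      exact h2
    rw [hE, Finset.sum_apply, Int.cast_sum, Finset.sum_congr rfl fun j _ => hj j, Finset.sum_const,
      Finset.card_range, nsmul_eq_mul]
  have hEreg : ∀ β < P.nroots, dot P E β ≠ 0 := by
    intro β hβ h0
    have h1 : ((dot P E β : ℤ) : ZMod r) = (s : ZMod r) * dot P e β := by
      rw [dot, dot, Int.cast_sum, Finset.mul_sum]
      refine Finset.sum_congr rfl fun j _ => ?_
      rw [Int.cast_mul, hEr]
      simp only [Int.cast_id]
      ring
    rw [h0, Int.cast_zero, eq_comm, mul_eq_zero] at h1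
    refine h1.elim (fun hs0 => ?_) (hreg β hβ)
    exact hsr ((Nat.prime_dvd_prime_iff_eq Fact.out hs).1 ((ZMod.natCast_eq_zero_iff _ _).1 hs0)).symm
  refine hM2 ?_
  rw [← WM_nil h]
  exact WM_congr h (regular_fix h _ E l2 hl2w hEreg le_rfl hEfix)


/-- An eigenvector of a Weyl element modulo a prime with eigenvalue of large order: the characteristic
polynomial is cyclotomic, and the eigenvector is regular. -/
theorem regular_eigen {r m : ℕ} [Fact r.Prime] (hm : 1 < m) (hrm : ¬ r ∣ m) (hr : P.rank < r - 1)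
    (hn : m.totient = P.rank) {a : ZMod r} (ha : IsPrimitiveRoot a m) {e : Fin P.rank → ZMod r} (he0 : e ≠ 0)
    {l : List ℕ} (hl : WordOk P l) (he : tr P l e = a • e) :
    (WM P l).charpoly = Polynomial.cyclotomic m ℤ ∧ (∀ α < P.nroots, dot P e α ≠ 0) ∧
      ∀ l', WordOk P l' → tr P l' e = e → ∀ α < P.nroots, wl P l' α = α := by
  have hr2 : 2 < r := by
    have h1 : 0 < m.totient := Nat.totient_pos.2 (by omega)
    omega
  refine regular_eigen' h hr (by rw [Polynomial.cyclotomic_coeff_zero ℤ hm]; exact one_ne_zero) hl he fun l hl he => ?_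
  obtain ⟨o, ho, hMo⟩ := exists_order h hl
  exact charpoly_eq ho hMo (by omega) hrm hr2 hn ha he0 he

end Cfsg.Agent.Chev.CyclTorus
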