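/-
Self-centralizing cyclic tori attached to a regular eigenvalue, by Sylow's theorem over an extension field.
-/
import Cfsg.Agent.Lib.Chev.CyclTorus.Weyl
import Cfsg.Agent.Lib.Chev.G2SL3
import Cfsg.Agent.Lib.Chev.G2Singer
import Cfsg.Agent.Lib.Chev.FieldAut
import Cfsg.Agent.Lib.Chev.Order
import Mathlib.GroupTheory.Sylow
import Mathlib.GroupTheory.SpecificGroups.Cyclic
import Mathlib.RingTheory.RootsOfUnity.PrimitiveRoots

set_option autoImplicit false
set_option linter.unusedSectionVars false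
set_option maxHeartbeats 800000

namespace Cfsg.Agent.Chev.CyclTorus

open Cfsg.Lie Cfsg.Agent.Chev

theorem pev_cast {r : ℕ} {Q : ℕ} (hQ : (Q : ZMod r) = 1) : ∀ l : List ℕ, (pev Q l : ZMod r) = (pev 1 l : ℕ)
  | [] => rfl
  | x :: l => by simp [pev, hQ, pev_cast hQ l]

theorem pow_add_mod_sq (x s : ℤ) : ∀ k : ℕ,
    s ^ 2 ∣ (x + s) ^ (k + 1) - x ^ (k + 1) - ((k : ℤ) + 1) * x ^ k * s
  | 0 => ⟨0, by push_cast; ring⟩
  | k + 1 => by
    obtain ⟨c, hc⟩ := pow_add_mod_sq x s k
    refine ⟨c * (x + s) + ((k : ℤ) + 1) * x ^ k, ?_⟩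
    push_cast
    linear_combination (x + s) * hc

/-- A lift of `q` at which the cyclotomic value is not divisible by the square of a prime. -/
theorem exists_lift {q m s : ℕ} (hm : 0 < m) (hs : s.Prime) (hsm : ¬ s ∣ m) :
    ∃ a : ℤ, (a : ZMod s) = (q : ZMod s) ∧ ¬ ((s : ℤ) ^ 2) ∣ (Polynomial.cyclotomic m ℤ).eval a := by
  have hd : ∀ a : ℤ, (Polynomial.cyclotomic m ℤ).eval a ∣ a ^ m - 1 := fun a => by
    have := Polynomial.eval_dvd (x := a) (Polynomial.cyclotomic.dvd_X_pow_sub_one m ℤ)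
    simpa using this
  by_cases h0 : ((s : ℤ) ^ 2) ∣ (Polynomial.cyclotomic m ℤ).eval (q : ℤ)
  · refine ⟨(q : ℤ) + s, by simp, fun h1 => ?_⟩
    have e0 := h0.trans (hd _)
    have e1 := h1.trans (hd _)
    obtain ⟨k, rfl⟩ : ∃ k, m = k + 1 := ⟨m - 1, by omega⟩
    have e2 := pow_add_mod_sq (q : ℤ) s k
    have e3 : ((s : ℤ) ^ 2) ∣ ((k : ℤ) + 1) * (q : ℤ) ^ k * s := by
      have := dvd_sub (dvd_sub e1 e0) e2
      ring_nf at this ⊢
      exact this
    rw [sq, mul_dvd_mul_iff_right (by exact_mod_cast hs.ne_zero)] at e3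
    have hp : Prime (s : ℤ) := Nat.prime_iff_prime_int.1 hs
    rcases hp.dvd_or_dvd e3 with e | e
    · exact hsm (by exact_mod_cast e)
    · have e4 : (s : ℤ) ∣ (q : ℤ) ^ (k + 1) := (hp.dvd_of_dvd_pow e).trans (dvd_pow_self _ k.succ_ne_zero)
      have e5 : (s : ℤ) ∣ (1 : ℤ) := by
        have := dvd_sub e4 ((dvd_pow_self (s : ℤ) two_ne_zero).trans e0)
        simpa using this
      exact hp.not_dvd_one e5
  · exact ⟨q, by simp, h0⟩

variable {D : ChevalleyDatum} {P : Pk} (h : Ok D P) {L : Type*} [Field L]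

/-- The characters at the simple roots. -/
def simChar (P : Pk) (c : Fin P.rank → Lˣ) : Fin P.rank → Lˣ := fun k => ∏ i : Fin P.rank, c i ^ P.A i (P.sim k)

theorem coe_prod_zpow (c : Fin P.rank → Lˣ) (r : ℕ) :
    ((∏ i : Fin P.rank, c i ^ P.A i r : Lˣ) : L) = hchar P c r := by
  rw [Units.coe_prod, hchar]
  exact Finset.prod_congr rfl fun i _ => Units.val_zpow_eq_zpow_val _ _

include h

theorem hchar_eq (c : Fin P.rank → Lˣ) {r : ℕ} (hr : r < P.nroots) :
    hchar P c r = ((∏ j : Fin P.rank, simChar P c j ^ P.rv r j : Lˣ) : L) := by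
  rw [← coe_prod_zpow]
  congr 1
  simp only [simChar, Finset.prod_zpow, ← zpow_mul]
  simp_rw [← Finset.prod_zpow, ← zpow_mul]
  rw [Finset.prod_comm]
  refine Finset.prod_congr rfl fun i _ => ?_
  rw [h.A_eq_sum hr i.isLt, ← Fin.sum_univ_eq_sum_range (fun j => P.rv r j * P.A i (P.sim j))]
  induction (Finset.univ : Finset (Fin P.rank)) using Finset.induction_on with
  | empty => simp
  | insert a S ha ih => rw [Finset.sum_insert ha, Finset.prod_insert ha, zpow_add, ih, mul_comm (P.A i _)]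

/-- A character written with exponents. -/
theorem hchar_dot {R : Type*} [CommRing R] (Z : Multiplicative R →* Lˣ) (c : Fin P.rank → Lˣ)
    (x : Fin P.rank → R) (hx : ∀ k, simChar P c k = Z (Multiplicative.ofAdd (x k))) {r : ℕ} (hr : r < P.nroots) :
    hchar P c r = (Z (Multiplicative.ofAdd (dot P x r)) : L) := by
  rw [hchar_eq h c hr, dot, ofAdd_sum, map_prod]
  congr 1
  refine Finset.prod_congr rfl fun j _ => ?_
  rw [hx, ← map_zpow, ← ofAdd_zsmul, zsmul_eq_mul]

theorem hHom_ext_char {c c' : Fin P.rank → Lˣ}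
    (e : ∀ r < P.nroots, hchar P c r = hchar P c' r) : h.hHom c = h.hHom c' := by
  apply Units.ext
  rw [h.coe_hHom, h.coe_hHom, dM, dM]
  congr 1
  funext x
  rcases x with i | s
  · rfl
  · exact e s.val (h.slt s)

theorem simChar_bij [Finite L] (hinj : Function.Injective (h.hHom (F := L))) :
    Function.Bijective (simChar (L := L) P) := by
  refine Finite.injective_iff_bijective.1 fun c c' e => hinj (hHom_ext_char h fun r hr => ?_)
  rw [hchar_eq h c hr, hchar_eq h c' hr, e]

/-- A conjugation between torus elements gives a Weyl element carrying one to the other. -/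
theorem weyl_of_conj (hC : P.ckComm = true) {g t t' : GL D.Idx L} (hg : g ∈ D.group L)
    (ht : t ∈ D.diagonalSubgroup L) (ht' : t' ∈ D.diagonalSubgroup L) (e : g * t' * g⁻¹ = t) :
    ∃ l, WordOk P l ∧ h.nW l * t' * (h.nW l)⁻¹ = t := by
  obtain ⟨b, hb, l, hl, u, hu, rfl⟩ := h.bruhat_exists hC hg
  set n := h.nW (F := L) l
  have hn0 : n * t' * n⁻¹ ∈ D.diagonalSubgroup L := (Subgroup.mem_normalizer_iff.1 (h.nW_normalizer l hl) t').1 ht'
  have key : ∀ x ∈ h.genR (F := L) (negS P l), t' * x * t'⁻¹ ∈ h.genR (negS P l) := by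
    obtain ⟨c, rfl⟩ := h.mem_diagonal_iff.1 ht'
    intro x hx
    induction hx using Subgroup.closure_induction with
    | mem x hx =>
      obtain ⟨r, s, hr, rfl⟩ := hx
      rw [h.hHom_xG c (P.isPos_iff.1 hr.1).2]
      exact h.xG_mem_genR hr _
    | one => simpa using one_mem _
    | mul x y hx hy ihx ihy =>
      rw [show h.hHom c * (x * y) * (h.hHom c)⁻¹ = (h.hHom c * x * (h.hHom c)⁻¹) * (h.hHom c * y * (h.hHom c)⁻¹) by
        group]
      exact mul_mem ihx ihy
    | inv x hx ih =>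
      rw [show h.hHom c * x⁻¹ * (h.hHom c)⁻¹ = (h.hHom c * x * (h.hHom c)⁻¹)⁻¹ by group]
      exact inv_mem ih
  have hb' : t * b * (n * t' * n⁻¹)⁻¹ ∈ D.borelSubgroup L :=
    mul_mem (mul_mem (Subgroup.mem_sup_right ht) hb) (inv_mem (Subgroup.mem_sup_right hn0))
  have e1 : b * (n * 1) * u = t * b * (n * t' * n⁻¹)⁻¹ * (n * 1) * (t' * u * t'⁻¹) := by
    rw [show t * b * (n * t' * n⁻¹)⁻¹ * (n * 1) * (t' * u * t'⁻¹) = t * (b * n * u) * t'⁻¹ by group, mul_one,
      eq_mul_inv_iff_mul_eq, ← mul_inv_eq_iff_eq_mul.1 e]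
  obtain ⟨eb, -⟩ := h.bruhat_factor hl (one_mem _) hb hb' hu (key u hu) e1
  obtain ⟨v, hv, d, hd, rfl⟩ := h.mem_borel hb
  have hdc : t * d = d * t := by
    obtain ⟨cd, rfl⟩ := h.mem_diagonal_iff.1 hd
    obtain ⟨ct, rfl⟩ := h.mem_diagonal_iff.1 ht
    rw [← map_mul, ← map_mul, mul_comm]
  have e2 : (t * v * t⁻¹)⁻¹ * v = d * (t * (n * t' * n⁻¹)⁻¹) * d⁻¹ := by
    have : v * d = t * v * t⁻¹ * (d * (t * (n * t' * n⁻¹)⁻¹)) := by
      rw [← mul_assoc d, ← hdc]
      conv_lhs => rw [eb]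
      group
    rw [eq_mul_inv_iff_mul_eq, mul_assoc, this]
    group
  have h0 : (t * v * t⁻¹)⁻¹ * v ∈ D.posUnipotent L ⊓ D.diagonalSubgroup L :=
    Subgroup.mem_inf.2 ⟨mul_mem (inv_mem ((Subgroup.mem_normalizer_iff.1 (h.diagonal_normalizes ht) _).1 hv)) hv,
      e2 ▸ mul_mem (mul_mem hd (mul_mem ht (inv_mem hn0))) (inv_mem hd)⟩
  rw [h.pos_inf_diagonal, Subgroup.mem_bot] at h0
  refine ⟨l, hl, ?_⟩
  have h3 := e2.symm.trans h0
  rw [conj_eq_one_iff, mul_inv_eq_one] at h3
  exact h3.symm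

theorem char_wl {l : List ℕ} (hl : WordOk P l) {c c' : Fin P.rank → Lˣ}
    (e : h.nW l * h.hHom c' * (h.nW l)⁻¹ = h.hHom c) {r : ℕ} (hr : r < P.nroots) :
    hchar P c (wl P l r) = hchar P c' r := by
  obtain ⟨a, hae, hx3⟩ := h.nW_xG (F := L) l hl r hr
  have ha : a ≠ 0 := fun e => by simp [e] at hae
  have e3 := fun s : L => (hx3 s).1
  have hlt : wl P l r < P.nroots := h.wl_lt l hl r hr
  have e4 : h.xG (wl P l r) (hchar P c (wl P l r) * (a * 1)) = h.xG (wl P l r) (a * (hchar P c' r * 1)) := by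
    rw [← h.hHom_xG c hlt, ← e3, ← e3, ← h.hHom_xG c' hr, ← e]
    group
  have e5 : (hchar P c (wl P l r) - hchar P c' r) * a = 0 := by linear_combination h.xG_inj_param hlt e4
  exact sub_eq_zero.1 ((mul_eq_zero.1 e5).resolve_right ha)

variable {F : Type*} [Field F] [Fintype F] [Fintype L]

/-- The self-centralizing cyclic subgroup. -/
theorem exists_torus (ι : F →+* L) (hC : P.ckComm = true) {J : List ℕ} (hJ : ∀ i < P.rank, i ∈ J) (hO : P.ckOrb J = true)
    {ds : List ℕ} (hp : P.poinP J = pgeom ds) (hds : ds.length = P.rank)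
    {U U' V V' : List (List ℤ)} {d : List ℤ} (hck : ckSmith P U U' V V' d = true)
    (hd1 : ((List.range P.rank).all fun k => Nat.beq (d.getD k 0).natAbs 1) = true)
    {q m : ℕ} (hq : Fintype.card F = q) (hL : Fintype.card L = q ^ m) (hm : 1 < m) (hn : m.totient = P.rank)
    {d0 : ℕ} (hd0 : d0 ∈ ds) (hmd : m ∣ d0)
    {r : ℕ} [Fact r.Prime] (hrN : (r : ℤ) ∣ (Polynomial.cyclotomic m ℤ).eval (q : ℤ)) (hrm : ¬ r ∣ m)
    (hW : m < r → ¬ r ∣ pev 1 (P.poinP J))
    (hsep : ∀ s : ℕ, s.Prime → s ∣ m → s ∣ q ^ m - 1 →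
      ∃ a : ℤ, (a : ZMod s) = (q : ZMod s) ∧ ¬ ((s : ℤ) ^ 2) ∣ (Polynomial.cyclotomic m ℤ).eval a) :
    ∃ H : Subgroup ↥(D.group F), IsCyclic ↥H ∧
      Nat.card ↥H = ((Polynomial.cyclotomic m ℤ).eval (q : ℤ)).natAbs ∧
      Subgroup.centralizer (H : Set ↥(D.group F)) = H := by
  classical
  set Φ := Polynomial.cyclotomic m ℤ with hΦ
  have hq2 : 2 ≤ q := hq ▸ Fintype.one_lt_card
  -- the prime
  haveI : NeZero (m : ZMod r) := ⟨fun e => hrm ((ZMod.natCast_eq_zero_iff _ _).1 e)⟩
  have hprim : IsPrimitiveRoot (q : ZMod r) m := by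
    rw [← Polynomial.isRoot_cyclotomic_iff, ← Polynomial.map_cyclotomic_int m (ZMod r), Polynomial.IsRoot,
      Polynomial.eval_map, show (q : ZMod r) = Int.castRingHom (ZMod r) (q : ℤ) by simp, Polynomial.eval₂_at_apply]
    exact (ZMod.intCast_zmod_eq_zero_iff_dvd _ _).2 hrN
  have hq0 : (q : ZMod r) ≠ 0 := hprim.ne_zero (by omega)
  have hm1 : m ∣ r - 1 := hprim.eq_orderOf ▸ ZMod.orderOf_dvd_card_sub_one hq0
  have hr1 : m ≤ r - 1 := Nat.le_of_dvd (by have := (Fact.out : r.Prime).two_le; omega) hm1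
  have hrank : P.rank < r - 1 := hn ▸ lt_of_lt_of_le (Nat.totient_lt m hm) hr1
  have hQ1 : ((q ^ m : ℕ) : ZMod r) = 1 := by rw [Nat.cast_pow, hprim.pow_eq_one]
  have hr2 : 2 < r := by omega
  -- an element of order r
  have hcardF : r ∣ Nat.card ↥(D.group F) := by
    have e := h.order_formula (F := F) hC hJ hO hp hds hck
    have h1 : ((List.range P.rank).map fun k => (Fintype.card F - 1).gcd (d.getD k 0).natAbs).prod = 1 := by
      refine List.prod_eq_one fun x hx => ?_
      obtain ⟨k, hk, rfl⟩ := List.mem_map.1 hx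
      rw [Nat.eq_of_beq_eq_true (List.all_eq_true.1 hd1 k hk), Nat.gcd_one_right]
    rw [h1, one_mul, hq] at e
    rw [e]
    refine dvd_mul_of_dvd_right (dvd_trans ?_ (List.dvd_prod (List.mem_map.2 ⟨d0, hd0, rfl⟩))) _
    rw [← ZMod.natCast_eq_zero_iff, Nat.cast_sub (Nat.one_le_pow _ _ (by omega)), Nat.cast_pow, Nat.cast_one,
      sub_eq_zero]
    obtain ⟨j, rfl⟩ := hmd
    rw [pow_mul, hprim.pow_eq_one, one_pow]
  obtain ⟨g, hg⟩ := exists_prime_orderOf_dvd_card' r hcardF
  -- the extension field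
  set A := q ^ m - 1 with hA
  have hQ2 : 2 ≤ q ^ m := le_trans hq2 (Nat.le_self_pow (by omega) q)
  haveI : NeZero A := ⟨by omega⟩
  have hcardU : Nat.card Lˣ = A := by rw [Nat.card_eq_fintype_card, Fintype.card_units, hL]
  obtain ⟨Z, hZ⟩ : ∃ Z : Multiplicative (ZMod A) →* Lˣ, Function.Bijective Z := by
    rw [← hcardU]
    exact ⟨(zmodCyclicMulEquiv inferInstance).toMonoidHom, (zmodCyclicMulEquiv inferInstance).bijective⟩
  obtain ⟨σ, hσ⟩ : ∃ σ : L →+* L, ∀ x, σ x = x ^ q := by
    obtain ⟨p, hp⟩ := CharP.exists L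
    haveI := hp
    haveI : Fact p.Prime := ⟨CharP.char_is_prime L p⟩
    haveI : CharP F p := (ι.charP_iff ι.injective p).2 hp
    obtain ⟨k, -, hk⟩ := FiniteField.card F p
    exact ⟨iterateFrobenius L p k, fun x => by rw [iterateFrobenius_def, ← hk, hq]⟩
  have hσι : ∀ a, σ (ι a) = ι a := fun a => by rw [hσ, ← map_pow, ← hq, FiniteField.pow_card]
  have hgσ : ∀ x : GL D.Idx F, gmap D σ (gmap D ι x) = gmap D ι x := fun x => by
    apply Units.ext
    rw [coe_gmap, coe_gmap, Matrix.map_map]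
    congr 1
    funext z
    exact hσι z
  have hinjL := h.hHom_injective (F := L) hck hd1
  have hσh : ∀ c : Fin P.rank → Lˣ, gmap D σ (h.hHom c) = h.hHom (c ^ q) := fun c => by
    rw [h.gmap_hHom σ]
    exact congrArg _ (funext fun i => Units.ext (by simp [hσ]))
  have hmap : ∀ x : ↥(D.group F), gmap D ι (x : GL D.Idx F) ∈ D.group L := fun x =>
    h.map_group_le ι ⟨_, x.2, rfl⟩
  -- conjugate it into the torus
  set GL' := D.group L
  let TL : Subgroup ↥GL' := (D.diagonalSubgroup L).subgroupOf GL'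
  have hidxT : ¬ r ∣ TL.index := by
    have e := h.card_group (F := L) hC hJ
    have e1 := TL.card_mul_index
    rw [Nat.card_congr (Subgroup.subgroupOfEquivOfLe h.diagonal_le_group).toEquiv, e, h.poin_eq J hO, hL,
      mul_comm _ (Nat.card ↥(D.diagonalSubgroup L)), mul_assoc] at e1
    have e2 := Nat.eq_of_mul_eq_mul_left Nat.card_pos e1
    intro hdvd
    rw [e2, ← ZMod.natCast_eq_zero_iff, Nat.cast_mul, Nat.cast_pow, hQ1, one_pow, one_mul, pev_cast hQ1,
      ZMod.natCast_eq_zero_iff] at hdvd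
    exact hW (by omega) hdvd
  obtain ⟨S0⟩ : Nonempty (Sylow r ↥TL) := inferInstance
  have hS1 : IsPGroup r ((S0 : Subgroup ↥TL).map TL.subtype) := S0.isPGroup'.map _
  have hS1i : ¬ r ∣ ((S0 : Subgroup ↥TL).map TL.subtype).index := by
    rw [Subgroup.index_map_subtype]
    exact fun hd => ((Fact.out : r.Prime).dvd_mul.1 hd).elim S0.not_dvd_index hidxT
  set g' : ↥GL' := ⟨gmap D ι (g : GL D.Idx F), hmap g⟩
  have hg' : orderOf g' = r := by
    rw [← Subgroup.orderOf_coe, ← hg, ← Subgroup.orderOf_coe g]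
    exact orderOf_injective (gmap D ι) (gmap_injective ι) _
  have hgp : IsPGroup r (Subgroup.zpowers g') := IsPGroup.of_card (n := 1) (by rw [Nat.card_zpowers, hg', pow_one])
  obtain ⟨S2, hS2⟩ := hgp.exists_le_sylow
  obtain ⟨z, hz⟩ := MulAction.exists_smul_eq ↥GL' S2 (hS1.toSylow hS1i)
  have hzg : z * g' * z⁻¹ ∈ TL := by
    have h1 : z * g' * z⁻¹ ∈ ((z • S2 : Sylow r ↥GL') : Subgroup ↥GL') :=
      ⟨g', hS2 (Subgroup.mem_zpowers g'), rfl⟩
    rw [hz] at h1
    obtain ⟨w, -, hw⟩ := h1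
    rw [← hw]
    exact w.2
  obtain ⟨c, hc⟩ := h.mem_diagonal_iff.1 (Subgroup.mem_subgroupOf.1 hzg)
  set y : GL D.Idx L := ((z⁻¹ : ↥GL') : GL D.Idx L) with hy
  have hyG : y ∈ GL' := (z⁻¹ : ↥GL').2
  have hgy : gmap D ι (g : GL D.Idx F) = y * h.hHom c * y⁻¹ := by
    rw [hc, hy]
    simp only [Subgroup.coe_mul, Subgroup.coe_inv, g']
    group
  -- the Weyl element
  set n' := y⁻¹ * gmap D σ y with hn'
  have hn'G : n' ∈ GL' := mul_mem (inv_mem hyG) (h.map_group_le σ ⟨y, hyG, rfl⟩)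
  have hrel : n' * h.hHom (c ^ q) * n'⁻¹ = h.hHom c := by
    have h1 := hgσ g
    rw [hgy, map_mul, map_mul, map_inv, hσh] at h1
    rw [hn', show y⁻¹ * gmap D σ y * h.hHom (c ^ q) * (y⁻¹ * gmap D σ y)⁻¹ =
      y⁻¹ * (gmap D σ y * h.hHom (c ^ q) * (gmap D σ y)⁻¹) * y by group, h1]
    group
  obtain ⟨l, hl, hlrel⟩ := weyl_of_conj h hC hn'G (h.mem_diagonal_iff.2 ⟨c, rfl⟩)
    (h.mem_diagonal_iff.2 ⟨c ^ q, rfl⟩) hrel
  -- exponents modulo r
  have hhr : (h.hHom c) ^ r = 1 := by
    have h1 : gmap D ι (g : GL D.Idx F) ^ r = 1 := by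
      rw [← map_pow, ← hg, ← SubgroupClass.coe_pow, pow_orderOf_eq_one, OneMemClass.coe_one, map_one]
    rwa [hgy, conj_pow, conj_eq_one_iff] at h1
  have hcr : c ^ r = 1 := hinjL (by rw [map_pow, hhr, map_one])
  have hh1 : h.hHom c ≠ 1 := by
    intro e
    have h1 : gmap D ι (g : GL D.Idx F) = 1 := by rw [hgy, e, mul_one, mul_inv_cancel]
    have h2 : g = 1 := Subtype.ext (gmap_injective ι (h1.trans (map_one _).symm))
    rw [h2, orderOf_one] at hg
    exact (Fact.out : r.Prime).one_lt.ne hg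
  obtain ⟨ζ, hζ⟩ : ∃ ζ : Lˣ, IsPrimitiveRoot ζ r := by
    obtain ⟨ζ, hζ⟩ := exists_prime_orderOf_dvd_card' (G := Lˣ) r (by
      rw [hcardU, ← ZMod.natCast_eq_zero_iff, hA, Nat.cast_sub (by omega), hQ1, Nat.cast_one, sub_self])
    exact ⟨ζ, hζ ▸ IsPrimitiveRoot.orderOf ζ⟩
  let Zr : Multiplicative (ZMod r) →* Lˣ :=
    { toFun := fun v => ((Additive.toMul (hζ.zmodEquivZPowers v.toAdd) : Subgroup.zpowers ζ) : Lˣ)
      map_one' := by simp
      map_mul' := fun a b => by simp }
  have hZri : Function.Injective Zr := fun a b e => by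
    have e1 : hζ.zmodEquivZPowers a.toAdd = hζ.zmodEquivZPowers b.toAdd := by
      apply Additive.toMul.injective
      exact Subtype.ext e
    exact Multiplicative.toAdd.injective (hζ.zmodEquivZPowers.injective e1)
  have hex : ∀ k, ∃ e : ZMod r, simChar P c k = Zr (Multiplicative.ofAdd e) := fun k => by
    have h1 : simChar P c k ^ r = 1 := by
      rw [simChar, ← Finset.prod_pow]
      refine Finset.prod_eq_one fun i _ => ?_
      have := congrFun hcr i
      rw [Pi.pow_apply, Pi.one_apply] at this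
      rw [← zpow_natCast, ← zpow_mul, mul_comm, zpow_mul, zpow_natCast, this, one_zpow]
    have h2 : simChar P c k ∈ Subgroup.zpowers ζ := by
      rw [hζ.zpowers_eq]
      exact h1
    refine ⟨hζ.zmodEquivZPowers.symm (Additive.ofMul ⟨_, h2⟩), ?_⟩
    simp [Zr]
  choose e he using hex
  have hχ : ∀ s < P.nroots, hchar P c s = (Zr (Multiplicative.ofAdd (dot P e s)) : L) := fun s hs =>
    hchar_dot h Zr c e he hs
  have he0 : e ≠ 0 := by
    intro e0
    refine hh1 ?_
    rw [← map_one (h.hHom (F := L))]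
    refine hHom_ext_char h fun s hs => ?_
    rw [hχ s hs, e0]
    simp [hchar, dot]
  have hpowq : ∀ s, hchar P (c ^ q) s = hchar P c s ^ q := fun s => by
    simp only [hchar, ← Finset.prod_pow, Pi.pow_apply, Units.val_pow_eq_pow_val]
    exact Finset.prod_congr rfl fun i _ => by rw [← zpow_natCast, ← zpow_natCast, zpow_comm]
  have hZinj : ∀ a b : ZMod r, ((Zr (Multiplicative.ofAdd a) : Lˣ) : L) = Zr (Multiplicative.ofAdd b) → a = b :=
    fun a b e => Multiplicative.ofAdd.injective (hZri (Units.ext e))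
  have heig : tr P l e = (q : ZMod r) • e := by
    funext k
    refine hZinj _ _ ?_
    rw [tr_apply, ← hχ _ (h.wl_lt l hl _ (h.sim_lt k.isLt)), char_wl h hl hlrel (h.sim_lt k.isLt), hpowq,
      hχ _ (h.sim_lt k.isLt), dot_sim h e k, ← Units.val_pow_eq_pow_val, ← map_pow, ← ofAdd_nsmul]
    simp [nsmul_eq_mul]
  obtain ⟨hchp, hreg, hstab⟩ := regular_eigen h hm hrm hrank hn hprim he0 hl heig
  -- the centralizer over the extension
  have hcent : ∀ x ∈ GL', Commute x (h.hHom c) → x ∈ D.diagonalSubgroup L := fun x hx hxc => by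
    refine h.centralizer_of_stab hC c (fun s hs e1 => ?_) (fun l' hl' he' => hstab l' hl' ?_) hx hxc
    · refine hreg s hs (hZinj _ _ ?_)
      rw [← hχ s hs, e1]
      simp
    · funext k
      refine hZinj _ _ ?_
      rw [tr_apply, ← hχ _ (h.wl_lt l' hl' _ (h.sim_lt k.isLt)), he' _ (h.sim_lt k.isLt),
        hχ _ (h.sim_lt k.isLt), dot_sim h e k]
  set d1 := n' * (h.nW (F := L) l)⁻¹ with hd1'
  have hd1d : d1 ∈ D.diagonalSubgroup L := by
    refine hcent _ (mul_mem hn'G (inv_mem (h.monomial_le_group (h.nW_mem l hl)))) ?_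
    show d1 * h.hHom c = h.hHom c * d1
    rw [hd1']
    nth_rewrite 1 [← hlrel]
    nth_rewrite 1 [← hrel]
    group
  have hfixiff : ∀ c' : Fin P.rank → Lˣ, gmap D σ (y * h.hHom c' * y⁻¹) = y * h.hHom c' * y⁻¹ ↔
      ∀ s < P.nroots, hchar P c' (wl P l s) = hchar P c' s ^ q := by
    intro c'
    obtain ⟨cd, hcd⟩ := h.mem_diagonal_iff.1 hd1d
    have hcom : ∀ x ∈ D.diagonalSubgroup L, d1 * x * d1⁻¹ = x := fun x hx => by
      obtain ⟨cx, rfl⟩ := h.mem_diagonal_iff.1 hx
      rw [← hcd, ← map_mul, mul_comm cd, map_mul, mul_inv_cancel_right]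
    have hnd : h.nW l * h.hHom (c' ^ q) * (h.nW l)⁻¹ ∈ D.diagonalSubgroup L :=
      (Subgroup.mem_normalizer_iff.1 (h.nW_normalizer l hl) _).1 (h.mem_diagonal_iff.2 ⟨_, rfl⟩)
    have e1 : gmap D σ (y * h.hHom c' * y⁻¹) = y * (h.nW l * h.hHom (c' ^ q) * (h.nW l)⁻¹) * y⁻¹ := by
      rw [map_mul, map_mul, map_inv, hσh, show gmap D σ y = y * (d1 * h.nW l) by rw [hd1', hn']; group]
      conv_rhs => rw [← hcom _ hnd]
      group
    have hpow' : ∀ s, hchar P (c' ^ q) s = hchar P c' s ^ q := fun s => by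
      simp only [hchar, ← Finset.prod_pow, Pi.pow_apply, Units.val_pow_eq_pow_val]
      exact Finset.prod_congr rfl fun i _ => by rw [← zpow_natCast, ← zpow_natCast, zpow_comm]
    rw [e1]
    constructor
    · intro e2 s hs
      rw [char_wl h hl (mul_left_cancel (mul_right_cancel e2)) hs, hpow']
    · intro e2
      obtain ⟨c'', hc''⟩ := h.mem_diagonal_iff.1 hnd
      rw [← hc'']
      congr 2
      refine hHom_ext_char h fun s hs => ?_
      have hl' : WordOk P l.reverse := fun x hx => hl x (List.mem_reverse.1 hx)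
      set s' := wl P l.reverse s with hs'
      have hs'' : s' < P.nroots := h.wl_lt _ hl' s hs
      have es : wl P l s' = s := by
        have := h.wl_reverse l.reverse hl' s hs
        rwa [List.reverse_reverse] at this
      rw [← es, char_wl h hl hc''.symm hs'', e2 s' hs'', hpow']
  -- the lattice
  set N : Matrix (Fin P.rank) (Fin P.rank) ℤ := WM P l - (q : ℤ) • 1 with hN
  have hMm : WM P l ^ m = 1 := by
    obtain ⟨Q0, hQ0⟩ := Polynomial.cyclotomic.dvd_X_pow_sub_one m ℤ
    have h1 := congrArg (Polynomial.aeval (WM P l)) hQ0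
    rw [map_mul, ← hchp, Matrix.aeval_self_charpoly, zero_mul, map_sub, map_pow, Polynomial.aeval_X, map_one,
      sub_eq_zero] at h1
    exact h1
  obtain ⟨N', hN'⟩ : ∃ N' : Matrix (Fin P.rank) (Fin P.rank) ℤ, N' * N = (A : ℤ) • 1 := by
    have hcomm : Commute (WM P l) ((q : ℤ) • (1 : Matrix (Fin P.rank) (Fin P.rank) ℤ)) :=
      (Commute.one_right _).smul_right _
    refine ⟨-∑ i ∈ Finset.range m, WM P l ^ i * ((q : ℤ) • (1 : Matrix (Fin P.rank) (Fin P.rank) ℤ)) ^ (m - 1 - i), ?_⟩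
    rw [hN, Matrix.neg_mul, hcomm.geom_sum₂_mul, hMm, neg_sub, smul_pow, one_pow, hA, Nat.cast_sub (by omega),
      sub_smul, Nat.cast_pow, Nat.cast_one, one_smul]
  have hdetN : ∀ a : ℤ, (WM P l - a • 1).det.natAbs = (Φ.eval a).natAbs := fun a => by
    rw [hΦ, ← hchp, Matrix.eval_charpoly, ← neg_sub, Matrix.det_neg, Int.natAbs_mul, Int.natAbs_pow,
      Int.natAbs_neg, Int.natAbs_one, one_pow, one_mul]
    congr 3
    rw [Matrix.scalar_apply, Matrix.smul_one_eq_diagonal]
  set π := Int.castRingHom (ZMod A)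
  let K : AddSubgroup (Fin P.rank → ZMod A) := (N.map π).mulVecLin.toAddMonoidHom.ker
  have hKcard : Nat.card K = (Φ.eval (q : ℤ)).natAbs := by
    rw [← hdetN, ← hN, ← card_ker_mod hN']
    rfl
  have hKmem : ∀ x, x ∈ K ↔ ∀ k : Fin P.rank, dot P x (wl P l (P.sim k)) = (q : ZMod A) * x k := by
    intro x
    show (N.map π).mulVec x = 0 ↔ _
    rw [hN, Matrix.map_sub _ (map_sub _), Matrix.sub_mulVec, sub_eq_zero, funext_iff]
    refine forall_congr' fun k => ?_
    rw [show ((WM P l).map π).mulVec x k = dot P x (wl P l (P.sim k)) from rfl]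
    have e1 : (((q : ℤ) • (1 : Matrix (Fin P.rank) (Fin P.rank) ℤ)).map π).mulVec x k = (q : ZMod A) * x k := by
      rw [Matrix.smul_one_eq_diagonal, Matrix.diagonal_map (map_zero _), Matrix.mulVec_diagonal]
      simp [π]
    rw [e1]
  -- K is cyclic
  have hpr : ∀ s : ℕ, s.Prime → Nat.card {x : K // s • x = 0} ≤ s := by
    intro s hs
    haveI := Fact.mk hs
    by_cases hsA : s ∣ A
    · obtain ⟨a, ha, ha2⟩ : ∃ a : ℤ, (a : ZMod s) = (q : ZMod s) ∧ ¬ ((s : ℤ) ^ 2) ∣ Φ.eval a := by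
        by_cases hsm : s ∣ m
        · exact hsep s hs hsm hsA
        · exact exists_lift (by omega) hs hsm
      have hΦ0 : Φ.eval a ≠ 0 := fun e => ha2 (e ▸ dvd_zero _)
      have hdet0 : (WM P l - a • 1).det ≠ 0 := fun e => hΦ0 (Int.natAbs_eq_zero.1 (by rw [← hdetN, e, Int.natAbs_zero]))
      have h2 : ¬ ((s : ℤ) ^ 2) ∣ (WM P l - a • 1).det := by
        rw [← Int.natAbs_dvd_natAbs, hdetN, Int.natAbs_dvd_natAbs]
        exact ha2
      refine le_trans ?_ (card_prime_le hdet0 s h2)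
      have hmap : (N.map (Int.castRingHom (ZMod s))) = (WM P l - a • 1).map (Int.castRingHom (ZMod s)) := by
        ext i j
        simp only [hN, Matrix.map_apply, Matrix.sub_apply, Matrix.smul_apply, smul_eq_mul, map_sub, map_mul,
          eq_intCast, Int.cast_natCast, ha]
      rw [← hmap]
      obtain ⟨B, hB⟩ := hsA
      let emb : ZMod s →+ ZMod A := ZMod.lift s ⟨(Int.castAddHom (ZMod A)).comp (AddMonoidHom.mulLeft (B : ℤ)), by
        show (((B : ℤ) * (s : ℤ) : ℤ) : ZMod A) = 0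
        rw [ZMod.intCast_zmod_eq_zero_iff_dvd, hB]
        exact ⟨1, by push_cast; ring⟩⟩
      have hemb : ∀ z : ℤ, emb (z : ZMod s) = ((B * z : ℤ) : ZMod A) := fun z => by
        simp [emb]
      have hB0 : B ≠ 0 := fun e => NeZero.ne A (by rw [hB, e, mul_zero])
      have hembi : Function.Injective emb := (injective_iff_map_eq_zero _).2 fun v hv => by
        obtain ⟨z, rfl⟩ := ZMod.intCast_surjective v
        rw [hemb, ZMod.intCast_zmod_eq_zero_iff_dvd, hB, Nat.cast_mul, mul_comm (s : ℤ)] at hv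
        rw [ZMod.intCast_zmod_eq_zero_iff_dvd]
        exact (mul_dvd_mul_iff_left (by exact_mod_cast hB0)).1 hv
      have hsurj : ∀ v : ZMod A, s • v = 0 → ∃ w, emb w = v := fun v hv => by
        obtain ⟨z, rfl⟩ := ZMod.intCast_surjective v
        rw [nsmul_eq_mul, ← Int.cast_natCast, ← Int.cast_mul, ZMod.intCast_zmod_eq_zero_iff_dvd, hB,
          Nat.cast_mul] at hv
        obtain ⟨w, rfl⟩ := (mul_dvd_mul_iff_left (by exact_mod_cast hs.ne_zero)).1 hv
        exact ⟨w, hemb w⟩
      have hlift : ∀ x : {x : K // s • x = 0}, ∃ w : Fin P.rank → ZMod s,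
          (N.map (Int.castRingHom (ZMod s))).mulVec w = 0 ∧ ∀ i, emb (w i) = (x.1.1 : Fin P.rank → ZMod A) i := by
        rintro ⟨⟨x, hx⟩, hsx⟩
        have hsx' : ∀ i, s • x i = 0 := fun i => congrFun (congrArg Subtype.val hsx) i
        choose w hw using fun i => hsurj (x i) (hsx' i)
        refine ⟨w, funext fun i => hembi ?_, hw⟩
        have hx' : (N.map π).mulVec x i = 0 := congrFun hx i
        rw [Pi.zero_apply, map_zero, ← hx']
        simp only [Matrix.mulVec, dotProduct, map_sum]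
        refine Finset.sum_congr rfl fun j _ => ?_
        rw [← hw j]
        simp only [Matrix.map_apply, eq_intCast, π, ← zsmul_eq_mul, map_zsmul]
      choose w hw1 hw2 using hlift
      refine Nat.card_le_card_of_injective (fun x => ⟨w x, hw1 x⟩) fun x x' e => ?_
      apply Subtype.ext
      apply Subtype.ext
      funext i
      rw [← hw2 x i, ← hw2 x' i, show w x = w x' from congrArg Subtype.val e]
    · have : Subsingleton {x : K // s • x = 0} := by
        have key : ∀ x : {x : K // s • x = 0}, ((x.1 : K) : Fin P.rank → ZMod A) = 0 := fun x => funext fun i => by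
          have h1 : s • ((x.1 : K) : Fin P.rank → ZMod A) i = 0 := congrFun (congrArg Subtype.val x.2) i
          have hu : IsUnit ((s : ℕ) : ZMod A) := (ZMod.isUnit_iff_coprime _ _).2 (hs.coprime_iff_not_dvd.2 hsA)
          rw [nsmul_eq_mul] at h1
          exact hu.mul_right_eq_zero.1 h1
        exact ⟨fun a b => Subtype.ext (Subtype.ext ((key a).trans (key b).symm))⟩
      exact le_trans (Finite.card_le_one_iff_subsingleton.2 this) hs.one_le
  haveI hKc : IsAddCyclic K := by
    haveI : Fintype K := Fintype.ofFinite _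
    refine isAddCyclic_of_card_nsmul_eq_zero_le fun k hk => ?_
    rw [← Fintype.card_subtype, ← Nat.card_eq_fintype_card]
    induction k using Nat.strong_induction_on with
    | _ k ih =>
      rcases Nat.lt_or_ge k 2 with h1 | h1
      · obtain rfl : k = 1 := by omega
        have : Subsingleton {x : K // 1 • x = 0} :=
          ⟨fun a b => Subtype.ext (by have ha := a.2; have hb := b.2; rw [one_smul] at ha hb; rw [ha, hb])⟩
        exact Finite.card_le_one_iff_subsingleton.2 this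
      · obtain ⟨s, hs, hsk⟩ := Nat.exists_prime_and_dvd (n := k) (by omega)
        obtain ⟨j, rfl⟩ := hsk
        have hj : j < s * j := by nlinarith [hs.two_le, (show 0 < j by rcases j with _ | j <;> simp_all)]
        have hj0 : 0 < j := by rcases j with _ | j <;> simp_all
        let f : K →+ K := (nsmulAddMonoidHom s : K →+ K)
        let B : AddSubgroup K := (nsmulAddMonoidHom (s * j) : K →+ K).ker
        let fB : B →+ K := f.comp B.subtype
        have e1 := fB.ker.card_mul_index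
        rw [AddSubgroup.index_ker] at e1
        have hB : Nat.card {x : K // (s * j) • x = 0} = Nat.card B := Nat.card_congr (Equiv.refl _)
        rw [hB, ← e1]
        refine Nat.mul_le_mul ?_ ?_
        · refine le_trans (Nat.card_le_card_of_injective
            (fun x : fB.ker => (⟨x.1.1, x.2⟩ : {x : K // s • x = 0})) fun a b e => ?_) (hpr s hs)
          exact Subtype.ext (Subtype.ext (congrArg Subtype.val e : _))
        · refine le_trans (Nat.card_le_card_of_injective
            (fun x : fB.range => (⟨x.1, ?_⟩ : {x : K // j • x = 0})) fun a b e => ?_) (ih j hj hj0)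
          · obtain ⟨b, hb⟩ := x.2
            rw [← hb]
            show j • (s • (b : K)) = 0
            rw [← mul_nsmul]
            exact b.2
          · exact Subtype.ext (congrArg Subtype.val e : _)
  haveI : IsCyclic (Multiplicative K) := isCyclic_multiplicative_iff.2 hKc
  -- the embedding of the lattice
  obtain ⟨hVi, hVs⟩ := simChar_bij h hinjL
  choose cof hcof using fun x : Fin P.rank → ZMod A => hVs fun k => Z (Multiplicative.ofAdd (x k))
  have hcofmul : ∀ x x', cof (x + x') = cof x * cof x' := fun x x' => hVi (by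
    rw [hcof]
    funext k
    rw [Pi.add_apply, ofAdd_add, map_mul, ← congrFun (hcof x) k, ← congrFun (hcof x') k]
    simp [simChar, mul_zpow, Finset.prod_mul_distrib])
  let ψ : Multiplicative K →* GL D.Idx L := MonoidHom.mk' (fun x => y * h.hHom (cof x.toAdd.1) * y⁻¹) fun a b => by
    show y * h.hHom (cof ((a.toAdd + b.toAdd : K) : Fin P.rank → ZMod A)) * y⁻¹ = _
    rw [AddSubgroup.coe_add, hcofmul, map_mul]
    group
  have hψi : Function.Injective ψ := fun a b e => by
    have e1 := congrArg (simChar P) (hinjL (mul_left_cancel (mul_right_cancel e)))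
    rw [hcof, hcof] at e1
    refine Multiplicative.toAdd.injective (Subtype.ext (funext fun k => ?_))
    exact Multiplicative.ofAdd.injective (hZ.1 (congrFun e1 k))
  have hKchar : ∀ x : Fin P.rank → ZMod A, x ∈ K ↔
      ∀ s < P.nroots, hchar P (cof x) (wl P l s) = hchar P (cof x) s ^ q := by
    intro x
    have hx : ∀ s < P.nroots, hchar P (cof x) s = (Z (Multiplicative.ofAdd (dot P x s)) : L) := fun s hs =>
      hchar_dot h Z (cof x) x (fun k => congrFun (hcof x) k) hs
    rw [hKmem]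
    constructor
    · intro hk s hs
      rw [hx _ (h.wl_lt l hl s hs), hx s hs, ← Units.val_pow_eq_pow_val, ← map_pow, ← ofAdd_nsmul,
        dot_wl h hl x hs]
      congr 3
      rw [show tr P l x = fun k => (q : ZMod A) * x k from funext fun k => by rw [tr_apply]; exact hk k,
        nsmul_eq_mul, dot, dot, Finset.mul_sum]
      exact Finset.sum_congr rfl fun j _ => by ring
    · intro hk k
      have h1 := hk _ (h.sim_lt k.isLt)
      rw [hx _ (h.wl_lt l hl _ (h.sim_lt k.isLt)), hx _ (h.sim_lt k.isLt), dot_sim h x k,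
        ← Units.val_pow_eq_pow_val, ← map_pow, ← ofAdd_nsmul] at h1
      rw [Multiplicative.ofAdd.injective (hZ.1 (Units.ext h1)), nsmul_eq_mul]
  -- descend
  set C := Subgroup.centralizer ({g} : Set ↥(D.group F))
  let em : ↥(D.group F) →* GL D.Idx L := (gmap D ι).comp (D.group F).subtype
  have hemi : Function.Injective em := fun a b e => Subtype.ext (gmap_injective ι e)
  have hcomy : ∀ u v : GL D.Idx L, Commute u v → Commute (y * u * y⁻¹) (y * v * y⁻¹) := fun u v huv => by
    simpa using huv.map (MulAut.conj y).toMonoidHom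
  have himg : C.map em = ψ.range := by
    ext x'
    constructor
    · rintro ⟨x, hx, rfl⟩
      have hxg : Commute (em x) (em g) :=
        (show Commute x g from (Subgroup.mem_centralizer_iff.1 hx g (Set.mem_singleton g)).symm).map em
      rw [show em g = y * h.hHom c * y⁻¹ from hgy] at hxg
      have h1 : Commute (y⁻¹ * em x * y) (h.hHom c) := by
        have := hxg.map (MulAut.conj y⁻¹).toMonoidHom
        simpa [mul_assoc] using this
      obtain ⟨c', hc'⟩ := h.mem_diagonal_iff.1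
        (hcent _ (mul_mem (mul_mem (inv_mem hyG) (hmap x)) hyG) h1)
      have hxy : em x = y * h.hHom c' * y⁻¹ := by rw [hc']; group; rfl
      choose x0 hx0 using fun k => hZ.2 (simChar P c' k)
      have hcc : cof (fun k => (x0 k).toAdd) = c' := hVi (by rw [hcof]; funext k; simp [hx0])
      have hK' : (fun k => (x0 k).toAdd) ∈ K := by
        rw [hKchar, hcc, ← hfixiff, ← hxy]
        exact hgσ x
      exact ⟨Multiplicative.ofAdd ⟨_, hK'⟩, by rw [hxy, ← hcc]; rfl⟩
    · rintro ⟨a, rfl⟩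
      have hfx := (hfixiff (cof a.toAdd.1)).2 ((hKchar _).1 a.toAdd.2)
      have hmem : ψ a ∈ D.group L :=
        mul_mem (mul_mem hyG (h.diagonal_le_group (h.mem_diagonal_iff.2 ⟨_, rfl⟩))) (inv_mem hyG)
      obtain ⟨x0, hx0, ex0⟩ := h.mem_map_of_fixed hC hinjL ι σ
        (fun z hz => G2Singer.fixed_range ι hq (by rw [← hσ]; exact hz)) hmem hfx
      refine ⟨⟨x0, hx0⟩, ?_, ex0⟩
      show _ ∈ Subgroup.centralizer _
      rw [Subgroup.mem_centralizer_iff]
      intro z hz
      rw [Set.mem_singleton_iff.1 hz]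
      refine hemi ?_
      rw [map_mul, map_mul, show em ⟨x0, hx0⟩ = ψ a from ex0, show em g = y * h.hHom c * y⁻¹ from hgy]
      exact (hcomy _ _ ((Commute.all c (cof a.toAdd.1)).map (h.hHom (F := L)))).eq
  have eC : ↥C ≃* Multiplicative K :=
    (C.equivMapOfInjective em hemi).trans ((MulEquiv.subgroupCongr himg).trans (MonoidHom.ofInjective hψi).symm)
  haveI hCc : IsCyclic ↥C := isCyclic_of_surjective eC.symm eC.symm.surjective
  refine ⟨C, hCc, ?_, ?_⟩
  · rw [Nat.card_congr eC.toEquiv, Nat.card_congr Multiplicative.toAdd]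
    exact hKcard
  · refine le_antisymm (fun x hx => ?_) (fun x hx => ?_)
    · rw [Subgroup.mem_centralizer_iff]
      intro z hz
      rw [Set.mem_singleton_iff.1 hz]
      refine Subgroup.mem_centralizer_iff.1 hx g ?_
      show g ∈ C
      rw [Subgroup.mem_centralizer_iff]
      intro z hz
      rw [Set.mem_singleton_iff.1 hz]
    · rw [Subgroup.mem_centralizer_iff]
      intro z hz
      letI := IsCyclic.commGroup (α := ↥C)
      exact congrArg Subtype.val (mul_comm (⟨z, hz⟩ : ↥C) ⟨x, hx⟩)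

end Cfsg.Agent.Chev.CyclTorus
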