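/-
The torus of Steinberg's group, the action of the Weyl group on it, and the twist by a field endomorphism.
-/
import Cfsg.Agent.Lib.Chev.CyclTorus.Main
import Cfsg.Agent.Lib.CurtisTits.MinRep

set_option autoImplicit false
set_option linter.unusedSectionVars false
set_option maxHeartbeats 800000

namespace Cfsg.Agent.Chev.CyclTorus

open Cfsg.Lie Cfsg.Agent.Chev Cfsg.Agent.Chev.CT

variable {D : ChevalleyDatum} {P : Pk} {K : Type*} [Field K]

/-- The action of a simple reflection on coroot coordinates. -/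
def R1 (P : Pk) (i : ℕ) : Matrix (Fin P.rank) (Fin P.rank) ℤ :=
  Matrix.of fun a j => (if a = j then 1 else 0) - (if (a : ℕ) = i then P.A j (P.sim i) else 0)

/-- The action of a word on coroot coordinates. -/
def RM (P : Pk) (l : List ℕ) : Matrix (Fin P.rank) (Fin P.rank) ℤ := (l.map (R1 P)).prod

/-- The Cartan matrix. -/
def Bm (P : Pk) : Matrix (Fin P.rank) (Fin P.rank) ℤ := Matrix.of fun k j => P.A j (P.sim k)

/-- Units from exponents. -/
def cofx {A : ℕ} (Z : Multiplicative (ZMod A) →* Kˣ) (x : Fin P.rank → ZMod A) : Fin P.rank → Kˣ :=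
  fun a => Z (Multiplicative.ofAdd (x a))

section Mat

variable (h : Ok D P)
include h

theorem Bm_R1 {i : ℕ} (hi : i < P.rank) : Bm P * R1 P i = WM P [i] * Bm P := by
  ext k j
  have e : ∀ a : Fin P.rank, WM P [i] k a =
      (if k = a then 1 else 0) - (if (a : ℕ) = i then P.A i (P.sim k) else 0) := fun a => by
    show P.rv (P.w i (P.sim k)) a = _
    rw [((h.w_spec hi (h.sim_lt k.isLt)).2.2.2.2.2.1 a a.isLt).1, h.rv_sim k.isLt a.isLt]
    simp only [Fin.ext_iff]
  simp only [Matrix.mul_apply, e]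
  simp only [Bm, R1, Matrix.of_apply, mul_sub, sub_mul, Finset.sum_sub_distrib, mul_ite, mul_one, mul_zero, ite_mul,
    one_mul, zero_mul, Finset.sum_ite_eq', Finset.sum_ite_eq, Finset.mem_univ, if_true]
  have e2 : ∀ g : Fin P.rank → ℤ, ∑ a : Fin P.rank, (if (a : ℕ) = i then g a else 0) = g ⟨i, hi⟩ := fun g => by
    rw [Finset.sum_eq_single ⟨i, hi⟩ (fun b _ hb => if_neg (fun e => hb (Fin.ext e))) (by simp)]
    simp
  rw [e2, e2]

theorem Bm_RM : ∀ {l : List ℕ}, WordOk P l → Bm P * RM P l.reverse = WM P l * Bm P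
  | [], _ => by simp [RM, WM_nil h]
  | i :: l, hl => by
    have hi : i < P.rank := hl i (List.mem_cons_self ..)
    have hl' : WordOk P l := fun x hx => hl x (List.mem_cons_of_mem _ hx)
    rw [show i :: l = [i] ++ l from rfl, WM_append h (by simpa [WordOk] using hi) hl', List.reverse_append,
      RM, List.map_append, List.prod_append, ← mul_assoc, ← RM, Bm_RM hl', mul_assoc, mul_assoc]
    congr 1
    simp [Bm_R1 h hi]

theorem RM_inverse (hB : (Bm P).det ≠ 0) {l : List ℕ} (hl : WordOk P l) : RM P l.reverse * RM P l = 1 := by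
  have hlr : WordOk P l.reverse := fun x hx => hl x (List.mem_reverse.1 hx)
  have e : Bm P * (RM P l.reverse * RM P l) = Bm P * 1 := by
    have e1 := Bm_RM h hlr
    rw [List.reverse_reverse] at e1
    have e2 := WM_reverse_mul h hlr
    rw [List.reverse_reverse] at e2
    rw [← mul_assoc, Bm_RM h hl, mul_assoc, e1, ← mul_assoc, e2, one_mul, mul_one]
  have e' := congrArg (fun X => (Bm P).adjugate * X) e
  simp only [← mul_assoc, Matrix.adjugate_mul, Matrix.smul_mul, Matrix.one_mul, Matrix.mul_one] at e'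
  exact smul_right_injective _ hB e'

theorem RM_charpoly (hB : (Bm P).det ≠ 0) {l : List ℕ} (hl : WordOk P l) :
    (RM P l.reverse).charpoly = (WM P l).charpoly := by
  set C : ℤ →+* Polynomial ℤ := Polynomial.C
  have e : (Bm P).map C * Matrix.charmatrix (RM P l.reverse) = Matrix.charmatrix (WM P l) * (Bm P).map C := by
    rw [Matrix.charmatrix, Matrix.charmatrix, mul_sub, sub_mul, RingHom.mapMatrix_apply, RingHom.mapMatrix_apply,
      ← Matrix.map_mul, ← Matrix.map_mul, Bm_RM h hl]
    congr 1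
    exact ((Matrix.scalar_commute _ (fun r => Commute.all _ r) _).eq).symm
  have e' := congrArg Matrix.det e
  rw [Matrix.det_mul, Matrix.det_mul, mul_comm] at e'
  refine mul_right_cancel₀ ?_ e'
  rw [← RingHom.mapMatrix_apply, ← RingHom.map_det]
  exact (map_ne_zero_iff _ Polynomial.C_injective).2 hB

end Mat

variable (h : Full D P)
include h

/-- The endomorphism of Steinberg's group given by a field endomorphism. -/
theorem exists_stMap [Finite K] (σ : K →+* K) : ∃ τ : D.SteinbergGroup K →* D.SteinbergGroup K,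
    ∀ r < P.nroots, ∀ t, τ (D.stGen K r t) = D.stGen K r (σ t) := by
  set y : ℕ → K → D.SteinbergGroup K := fun r t => D.stGen K r (σ t) with hy'
  have hx := (cov_St (K := K) h).rel
  have hy : Rel P (okAll P) y := by
    refine ⟨fun r hr t u => ?_, fun r s hc t u => ?_⟩
    · simp only [hy', map_add]
      exact hx.add r hr _ _
    · simp only [hy', hx.comm r s hc]
      simp only [rhsW]
      refine congrArg List.prod (List.map_congr_left fun c _ => ?_)
      simp
  set f : FreeGroup (Fin D.nroots × K) →* D.SteinbergGroup K := FreeGroup.lift fun p => y p.1 p.2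
  have hf : ∀ r < P.nroots, ∀ t, f (D.stX r t) = y r t := by
    intro r hr t
    have hr' : r < D.nroots := h.okD.nroots ▸ hr
    simp [f, ChevalleyDatum.stX, hr']
  have hrel : ∀ g ∈ D.steinbergRelsAB K, f g = 1 := by
    intro g hg
    rcases hg with ⟨r, t, u, hr, rfl⟩ | ⟨r, s, t, u, hr, hs, hsr, hsn, rfl⟩ <;> rw [h.okD.nroots] at hr
    · rw [map_mul, map_mul, map_inv, mul_inv_eq_one, hf r hr, hf r hr, hf r hr]
      exact hy.add r (by simp [okAll, hr]) t u
    · rw [h.okD.nroots] at hs
      rw [h.okD.neg_eq hr] at hsn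
      rw [map_mul, map_inv, mul_inv_eq_one, map_commWord h _ hr hs, map_mul, map_mul, map_mul, map_inv,
        map_inv, hf r hr, hf s hs, hy.comm r s (cOk_iff.2 ⟨by simp [okAll, hr, hs], hsr, hsn⟩) t u]
      refine congrArg List.prod (List.map_congr_left fun c hc => ?_)
      exact (hf _ (h.okD.cterms_lt hr hs c hc) _).symm
  obtain ⟨e, he⟩ := exists_sc_iso (K := K) h
  refine ⟨(PresentedGroup.toGroup hrel).comp e.symm.toMonoidHom, fun r hr t => ?_⟩
  rw [MonoidHom.comp_apply, MulEquiv.coe_toMonoidHom, ← he, e.symm_apply_apply]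
  exact hf r hr t

theorem map_nWC {τ : D.SteinbergGroup K →* D.SteinbergGroup K} {σ : K →+* K}
    (hτ : ∀ r < P.nroots, ∀ t, τ (D.stGen K r t) = D.stGen K r (σ t)) {l : List ℕ} (hl : WordOk P l) :
    τ (nWC P (D.stGen K) l) = nWC P (D.stGen K) l := by
  rw [nWC, map_list_prod, List.map_map]
  refine congrArg List.prod (List.map_congr_left fun i hi => ?_)
  have hs := h.okD.sim_lt (hl i hi)
  simp [nS, nEl, map_mul, hτ _ hs, hτ _ (Ok.ng_lt hs)]

theorem map_thSt {τ : D.SteinbergGroup K →* D.SteinbergGroup K} {σ : K →+* K}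
    (hτ : ∀ r < P.nroots, ∀ t, τ (D.stGen K r t) = D.stGen K r (σ t)) (g : D.SteinbergGroup K) :
    thSt K h (τ g) = gmap D σ (thSt K h g) := by
  have e := (cov_St (K := K) h).gen (MonoidHom.eqLocus ((thSt K h).comp τ) ((gmap D σ).comp (thSt K h)))
    fun r hr t => by
      show thSt K h (τ _) = gmap D σ (thSt K h _)
      rw [hτ r hr, thSt_gen h hr, thSt_gen h hr, h.okD.gmap_xG σ hr]
  exact (e ▸ Subgroup.mem_top g :)

/-- The torus of Steinberg's group is faithfully parametrised. -/
theorem exists_tor [Finite K] {M : MinData} (hM : MinOk P M) {sel : List ℕ} {inv : List (List ℤ)}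
    (hW : ckMinW P M sel inv = true) (hlen : sel.length = P.rank) :
    ∃ f : (Fin P.rank → Kˣ) →* D.SteinbergGroup K, Function.Injective f ∧
      torC P (D.stGen K) ≤ f.range ∧ (∀ c, f c ∈ torC P (D.stGen K)) ∧ (∀ c, thSt K h (f c) = h.okD.hHom c) ∧
      ∀ (i : Fin P.rank) (t : Kˣ), f (Pi.mulSingle i t) = hEl P (D.stGen K) (P.sim i) (t : K) := by
  classical
  obtain ⟨ρ, hρ⟩ := exists_rep (K := K) h hM
  obtain ⟨f, hrange, himg, hsing⟩ := exists_torHom (K := K) h
  simp only [ckMinW, Bool.and_eq_true, List.all_eq_true, List.mem_range, decide_eq_true_eq, Nat.blt_eq] at hW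
  have hdiag : ∀ c : Fin P.rank → Kˣ, ((ρ (f c) : GL (Fin M.dim) K) : Matrix _ _ K) =
      Matrix.diagonal fun v : Fin M.dim => ∏ i : Fin P.rank, (c i : K) ^ wtM P M i v := by
    intro c
    let g : (Fin P.rank → Kˣ) →* Matrix (Fin M.dim) (Fin M.dim) K :=
      { toFun := fun c => Matrix.diagonal fun v : Fin M.dim => ∏ i : Fin P.rank, (c i : K) ^ wtM P M i v
        map_one' := by simp
        map_mul' := fun a b => by
          rw [Matrix.diagonal_mul_diagonal]; congr 1; funext v
          rw [← Finset.prod_mul_distrib]; simp [mul_zpow] }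
    have e : (Units.coeHom _).comp (ρ.comp f) = g := by
      refine MonoidHom.pi_ext fun i t => ?_
      show (ρ (f (Pi.mulSingle i t))).val = _
      have hp := h.okD.sim_lt i.isLt
      rw [hsing, map_hEl ρ _ (mX hM) (fun t => hρ _ hp t) (fun t => hρ _ (Ok.ng_lt hp) t),
        mX_hEl hM h i.isLt t.ne_zero]
      show _ = Matrix.diagonal fun v : Fin M.dim =>
        ∏ j : Fin P.rank, ((Pi.mulSingle i t : Fin P.rank → Kˣ) j : K) ^ wtM P M j v
      congr 1; funext v
      rw [Finset.prod_eq_single i (fun j _ hj => by simp [Pi.mulSingle_eq_of_ne hj]) (by simp),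
        Pi.mulSingle_eq_same]
    exact DFunLike.congr_fun e c
  have hinj : Function.Injective f := by
    refine (injective_iff_map_eq_one f).2 fun c hc => ?_
    have hd := hdiag c
    rw [hc, map_one, Units.val_one, ← Matrix.diagonal_one] at hd
    have hv := fun v => congrFun (Matrix.diagonal_injective hd) v
    funext m
    apply Units.ext
    have e1 : ∏ a : Fin P.rank, (∏ j : Fin P.rank, (c j : K) ^ wtM P M j (sel.getD a 0)) ^
        ((inv.getD m []).getD a 0) = 1 := by
      refine Finset.prod_eq_one fun a _ => ?_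
      have hs : sel.getD a 0 < M.dim := by
        rw [List.getD_eq_getElem _ _ (by omega)]
        exact hW.1 _ (List.getElem_mem _)
      rw [← hv ⟨_, hs⟩]
      simp
    simp only [← Finset.prod_zpow, ← zpow_mul] at e1
    rw [Finset.prod_comm] at e1
    have hj : ∀ j : Fin P.rank, ∏ a : Fin P.rank,
        (c j : K) ^ (wtM P M j (sel.getD a 0) * (inv.getD m []).getD a 0) =
          (c j : K) ^ (if (j : ℕ) = m then 1 else 0 : ℤ) := by
      intro j
      rw [← hW.2 m m.2 j j.2, sum_range_list, Chev.prod_zpow (c j).ne_zero]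
      simp only [mul_comm]
    simp only [hj] at e1
    rw [Finset.prod_eq_single m (fun j _ hne => by rw [if_neg (fun e' => hne (Fin.ext e')), zpow_zero])
      (fun hn => absurd (Finset.mem_univ m) hn), if_pos rfl, zpow_one] at e1
    simpa using e1
  refine ⟨f, hinj, hrange, fun c => ?_, fun c => DFunLike.congr_fun himg c, hsing⟩
  rw [← Finset.univ_prod_mulSingle c]
  refine Subgroup.mem_comap.1 (prod_mem (S := Subgroup.comap f (torC P (D.stGen K))) fun i _ => ?_)
  rw [Subgroup.mem_comap, hsing]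
  exact hEl_mem_torC i.isLt (c i).ne_zero

variable {f : (Fin P.rank → Kˣ) →* D.SteinbergGroup K} (hfT : ∀ c, f c ∈ torC P (D.stGen K))
  (hfθ : ∀ c, thSt K h (f c) = h.okD.hHom c)
  (hfs : ∀ (i : Fin P.rank) (t : Kˣ), f (Pi.mulSingle i t) = hEl P (D.stGen K) (P.sim i) (t : K))

include hfT hfθ hfs

/-- A simple reflection on the torus of Steinberg's group. -/
theorem tor_refl {i : Fin P.rank} (c : Fin P.rank → Kˣ) :
    nS P (D.stGen K) i * f c * (nS P (D.stGen K) i)⁻¹ = f (c * Pi.mulSingle i (simChar P c i)⁻¹) := by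
  have H := cov_St (K := K) h
  have hp := h.okD.sim_lt i.isLt
  obtain ⟨a, -, a1, a2⟩ := tor_scalar H (hfT c) _ hp
  have ea : a = (simChar P c i : K) := by
    have e := h.okD.hHom_xG c hp (1 : K)
    rw [← hfθ, ← thSt_gen h hp, ← map_inv, ← map_mul, ← map_mul, a1, thSt_gen h hp] at e
    have := h.okD.xG_inj_param hp e
    simp only [mul_one] at this
    rw [this, simChar, coe_prod_zpow]
  subst ea
  set g := f c
  have e : g * nS P (D.stGen K) i * g⁻¹ = f (Pi.mulSingle i (simChar P c i)) * nS P (D.stGen K) i := by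
    rw [hfs, ← nEl_eq H i.isLt, nS, nEl, nEl,
      show ∀ g x y : D.SteinbergGroup K, g * (x * y * x) * g⁻¹ = g * x * g⁻¹ * (g * y * g⁻¹) * (g * x * g⁻¹)
        from fun g x y => by group, a1, a2, mul_one, inv_one, mul_neg_one]
  have e2 : g * nS P (D.stGen K) i = f (Pi.mulSingle i (simChar P c i)) * nS P (D.stGen K) i * g :=
    mul_inv_eq_iff_eq_mul.1 e
  rw [map_mul, Pi.mulSingle_inv, map_inv, mul_inv_eq_iff_eq_mul]
  have hcomm : g * (f (Pi.mulSingle i (simChar P c i)))⁻¹ = (f (Pi.mulSingle i (simChar P c i)))⁻¹ * g := by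
    rw [← map_inv, ← map_mul, ← map_mul, mul_comm c]
  rw [hcomm, mul_assoc, e2]
  group

/-- The Weyl group on the torus of Steinberg's group. -/
theorem tor_word {A : ℕ} (Z : Multiplicative (ZMod A) →* Kˣ) : ∀ {l : List ℕ}, WordOk P l →
    ∀ x : Fin P.rank → ZMod A, nWC P (D.stGen K) l * f (cofx Z x) * (nWC P (D.stGen K) l)⁻¹ =
      f (cofx Z (((RM P l).map (Int.castRingHom (ZMod A))).mulVec x))
  | [], _, x => by simp [nWC, RM, Matrix.map_one]
  | j :: l, hl, x => by
    have hj : j < P.rank := hl j (List.mem_cons_self ..)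
    have hl' : WordOk P l := fun y hy => hl y (List.mem_cons_of_mem _ hy)
    rw [show nWC P (D.stGen K) (j :: l) = nS P (D.stGen K) j * nWC P (D.stGen K) l by simp [nWC],
      show ∀ a b c : D.SteinbergGroup K, a * b * c * (a * b)⁻¹ = a * (b * c * b⁻¹) * a⁻¹ from
        fun a b c => by group, tor_word Z hl' x, tor_refl h hfT hfθ hfs (i := ⟨j, hj⟩),
      show RM P (j :: l) = R1 P j * RM P l by simp [RM], Matrix.map_mul, ← Matrix.mulVec_mulVec]
    set z := ((RM P l).map (Int.castRingHom (ZMod A))).mulVec x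
    congr 1
    funext a
    have hs : simChar P (cofx Z z) ⟨j, hj⟩ =
        Z (Multiplicative.ofAdd (∑ b : Fin P.rank, (P.A b (P.sim j) : ZMod A) * z b)) := by
      rw [ofAdd_sum, map_prod]
      refine Finset.prod_congr rfl fun b _ => ?_
      rw [cofx, ← map_zpow]
      congr 1
      rw [← ofAdd_zsmul, zsmul_eq_mul]
    have hm : ((R1 P j).map (Int.castRingHom (ZMod A))).mulVec z a =
        z a - (if (a : ℕ) = j then ∑ b : Fin P.rank, (P.A b (P.sim j) : ZMod A) * z b else 0) := by
      simp only [Matrix.mulVec, dotProduct, Matrix.map_apply, R1, Matrix.of_apply, eq_intCast, Int.cast_sub,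
        Int.cast_ite, Int.cast_one, Int.cast_zero, sub_mul, Finset.sum_sub_distrib, ite_mul, one_mul, zero_mul,
        Finset.sum_ite_eq, Finset.mem_univ, if_true]
      split_ifs <;> simp
    show _ = Z (Multiplicative.ofAdd _)
    rw [hm, ofAdd_sub, map_div, Pi.mul_apply, hs]
    by_cases ha : (a : ℕ) = j
    · obtain rfl : a = ⟨j, hj⟩ := Fin.ext ha
      rw [Pi.mulSingle_eq_same, if_pos rfl, div_eq_mul_inv]
      rfl
    · rw [Pi.mulSingle_eq_of_ne (fun e => ha (congrArg Fin.val e)), if_neg ha, ofAdd_zero, map_one, div_one, mul_one]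
      rfl

end Cfsg.Agent.Chev.CyclTorus
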