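/-
Self-centralizing cyclic tori, through Steinberg's group when the Chevalley group is not simply connected.
-/
import Cfsg.Agent.Lib.Chev.CyclTorus.Sc

set_option autoImplicit false
set_option linter.unusedSectionVars false
set_option maxHeartbeats 800000

namespace Cfsg.Agent.Chev.CyclTorus

open Cfsg.Lie Cfsg.Agent.Chev Cfsg.Agent.Chev.CT

/-- A lift of `q` at which the cyclotomic value is not divisible by the square of a prime. -/
theorem exists_lift' {q m s : ℕ} {P0 : Polynomial ℤ} (hP : P0 ∣ Polynomial.X ^ m - 1) (hm : 0 < m) (hs : s.Prime)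
    (hsm : ¬ s ∣ m) :
    ∃ a : ℤ, (a : ZMod s) = (q : ZMod s) ∧ ¬ ((s : ℤ) ^ 2) ∣ P0.eval a := by
  have hd : ∀ a : ℤ, P0.eval a ∣ a ^ m - 1 := fun a => by
    have := Polynomial.eval_dvd (x := a) hP
    simpa using this
  by_cases h0 : ((s : ℤ) ^ 2) ∣ P0.eval (q : ℤ)
  · refine ⟨(q : ℤ) + s, by simp, fun h1 => ?_⟩
    have e0 := h0.trans (hd _)
    have e1 := h1.trans (hd _)
    obtain ⟨k, rfl⟩ : ∃ k, m = k + 1 := ⟨m - 1, by omega⟩
    have e2 := pow_add_mod_sq (q : ℤ) s k
    have e3 : ((s : ℤ) ^ 2) ∣ ((k : ℤ) + 1) * (q : ℤ) ^ k * s := by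
      have := dvd_sub (dvd_sub e1 e0) e2
      ring_nf at this ⊢
      exact this
    rw [sq, mul_dvd_mul_iff_right (by exact_mod_cast hs.ne_zero)] at e3
    have hp : Prime (s : ℤ) := Nat.prime_iff_prime_int.1 hs
    rcases hp.dvd_or_dvd e3 with e | e
    · exact hsm (by exact_mod_cast e)
    · have e4 : (s : ℤ) ∣ (q : ℤ) ^ (k + 1) := (hp.dvd_of_dvd_pow e).trans (dvd_pow_self _ k.succ_ne_zero)
      have e5 : (s : ℤ) ∣ (1 : ℤ) := by
        have := dvd_sub e4 ((dvd_pow_self (s : ℤ) two_ne_zero).trans e0)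
        simpa using this
      exact hp.not_dvd_one e5
  · exact ⟨q, by simp, h0⟩

/-- An element with a fixed lift is defined over the fixed field. -/
theorem mem_map_of_lift {D : ChevalleyDatum} {P : Pk} (h : Ok D P) {E F : Type*} [Field E] [Field F]
    (hC : P.ckComm = true) (ι : E →+* F) (σ : F →+* F) (hfix : ∀ x : F, σ x = x → ∃ y, ι y = x)
    (S : Subgroup (GL D.Idx F)) (hMS : (D.group E).map (gmap D ι) ≤ S)
    (hT : ∀ c : Fin P.rank → Fˣ, h.hHom c ∈ S →
      ∃ y : Fin P.rank → Eˣ, h.hHom c = h.hHom fun i => Units.map ι.toMonoidHom (y i))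
    {g : GL D.Idx F} (hg : g ∈ D.group F) (hgS : g ∈ S) (e : gmap D σ g = g) :
    g ∈ (D.group E).map (gmap D ι) := by
  set M := (D.group E).map (gmap D ι)
  have hU : ∀ u ∈ D.posUnipotent F, gmap D σ u = u → u ∈ M := by
    intro u hu eu
    obtain ⟨t, rfl⟩ := h.pos_normal_form hC hu
    have e1 : ((posL P).map fun r => h.xG r (σ (t r))).prod = ((posL P).map fun r => h.xG r (t r)).prod := by
      refine Eq.trans ?_ eu
      rw [map_list_prod, List.map_map]
      refine congrArg List.prod (List.map_congr_left fun r hr => ?_)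
      exact (h.gmap_xG σ (P.isPos_iff.1 (mem_posL.1 hr)).2 _).symm
    have e2 := h.prod_unique _ posL_sorted (fun _ hr => mem_posL.1 hr) _ _ e1
    refine list_prod_mem fun x hx => ?_
    obtain ⟨r, hr, rfl⟩ := List.mem_map.1 hx
    obtain ⟨y, hy⟩ := hfix _ (e2 r hr)
    exact ⟨h.xG r y, h.mem_group_of_xG r y, by rw [h.gmap_xG ι (P.isPos_iff.1 (mem_posL.1 hr)).2, hy]⟩
  obtain ⟨b, hb, l, hl, u, hu, rfl⟩ := h.bruhat_exists hC hg
  rw [map_mul, map_mul, h.gmap_nW σ l hl] at e
  obtain ⟨eb, eu⟩ := h.bruhat_factor hl (one_mem _) (h.gmap_borel σ hb) hb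
    (h.map_genR_le σ (fun r hr => (P.isPos_iff.1 hr.1).2) ⟨u, hu, rfl⟩) hu
    (by rw [mul_one]; exact e)
  obtain ⟨v, hv, d, hd, rfl⟩ := h.mem_borel hb
  rw [map_mul] at eb
  have e1 : (gmap D σ v)⁻¹ * v = gmap D σ d * d⁻¹ := by
    rw [eq_mul_inv_iff_mul_eq, mul_assoc, inv_mul_eq_iff_eq_mul]; exact eb.symm
  have h2 : (gmap D σ v)⁻¹ * v ∈ D.posUnipotent F ⊓ D.diagonalSubgroup F :=
    Subgroup.mem_inf.2 ⟨mul_mem (inv_mem (h.gmap_pos σ hv)) hv,
      e1 ▸ mul_mem (h.gmap_diagonal σ hd) (inv_mem hd)⟩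
  rw [h.pos_inf_diagonal, Subgroup.mem_bot] at h2
  have hvM := hU v hv (inv_mul_eq_one.1 h2)
  have huM := hU u (h.negS_le_pos l hu) eu
  have hnM : h.nW l ∈ M := ⟨h.nW l, h.monomial_le_group (h.nW_mem l hl), h.gmap_nW ι l hl⟩
  obtain ⟨c, rfl⟩ := h.mem_diagonal_iff.1 hd
  have hcS : h.hHom c ∈ S := by
    have := mul_mem (mul_mem (inv_mem (hMS hvM)) hgS) (inv_mem (mul_mem (hMS hnM) (hMS huM)))
    rwa [show v⁻¹ * (v * h.hHom c * h.nW l * u) * (h.nW l * u)⁻¹ = h.hHom c by group] at this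
  obtain ⟨y, hy⟩ := hT c hcS
  refine mul_mem (mul_mem (mul_mem hvM ?_) hnM) huM
  exact ⟨h.hHom y, h.diagonal_le_group (h.mem_diagonal_iff.2 ⟨y, rfl⟩), by rw [h.gmap_hHom ι, hy]⟩

variable {D : ChevalleyDatum} {P : Pk} (hFull : Full D P) {L : Type*} [Field L]
variable {F : Type*} [Field F] [Fintype F] [Fintype L]
include hFull

/-- The self-centralizing cyclic subgroup; its order times that of the centre is the value of the polynomial. -/
theorem exists_torus_sc {Mn : MinData} (hMn : MinOk P Mn) {sel : List ℕ} {inv : List (List ℤ)}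
    (hMW : ckMinW P Mn sel inv = true) (hlen : sel.length = P.rank)
    (ι : F →+* L) {J : List ℕ} (hJ : ∀ i < P.rank, i ∈ J) (hO : P.ckOrb J = true)
    {ds : List ℕ} (hp : P.poinP J = pgeom ds) (hds : ds.length = P.rank)
    {U U' V V' : List (List ℤ)} {d : List ℤ} (hck : ckSmith P U U' V V' d = true)
    {q m : ℕ} (hq : Fintype.card F = q) (hL : Fintype.card L = q ^ m) (hm : 0 < m)
    {P0 : Polynomial ℤ} (hdvd : P0 ∣ Polynomial.X ^ m - 1) (hP0 : P0.coeff 0 ≠ 0) (hB : (Bm P).det ≠ 0)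
    {d0 : ℕ} (hd0 : d0 ∈ ds) (hmd : m ∣ d0)
    {r : ℕ} [Fact r.Prime] (hprim : IsPrimitiveRoot (q : ZMod r) m) (hrank : P.rank < r - 1)
    (hrd : ¬ r ∣ ((List.range P.rank).map fun k => (q - 1).gcd (d.getD k 0).natAbs).prod)
    (hW : ¬ r ∣ pev 1 (P.poinP J))
    (key : ∀ l, WordOk P l → ∀ e : Fin P.rank → ZMod r, e ≠ 0 → tr P l e = (q : ZMod r) • e →
      (WM P l).charpoly = P0)
    (hsep : ∀ s : ℕ, s.Prime → s ∣ m → s ∣ q ^ m - 1 →
      ∃ a : ℤ, (a : ZMod s) = (q : ZMod s) ∧ ¬ ((s : ℤ) ^ 2) ∣ P0.eval a) :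
    ∃ H : Subgroup ↥(D.group F), IsCyclic ↥H ∧
      Nat.card ↥H * ((List.range P.rank).map fun k => (q - 1).gcd (d.getD k 0).natAbs).prod =
        (P0.eval (q : ℤ)).natAbs ∧
      Subgroup.centralizer (H : Set ↥(D.group F)) = H := by
  classical
  have h := hFull.okD
  have hC := hFull.cC
  have hq2 : 2 ≤ q := hq ▸ Fintype.one_lt_card
  have hQ1 : ((q ^ m : ℕ) : ZMod r) = 1 := by rw [Nat.cast_pow, hprim.pow_eq_one]
  -- an element of order r
  have hcardF : r ∣ Nat.card ↥(D.group F) := by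
    have e := h.order_formula (F := F) hC hJ hO hp hds hck
    rw [hq] at e
    refine ((Fact.out : r.Prime).dvd_mul.1 ?_).resolve_left hrd
    rw [e]
    refine dvd_mul_of_dvd_right (dvd_trans ?_ (List.dvd_prod (List.mem_map.2 ⟨d0, hd0, rfl⟩))) _
    rw [← ZMod.natCast_eq_zero_iff, Nat.cast_sub (Nat.one_le_pow _ _ (by omega)), Nat.cast_pow, Nat.cast_one,
      sub_eq_zero]
    obtain ⟨j, rfl⟩ := hmd
    rw [pow_mul, hprim.pow_eq_one, one_pow]
  obtain ⟨g, hg⟩ := exists_prime_orderOf_dvd_card' r hcardF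
  -- the extension field
  set A := q ^ m - 1 with hA
  have hQ2 : 2 ≤ q ^ m := le_trans hq2 (Nat.le_self_pow (by omega) q)
  haveI : NeZero A := ⟨by omega⟩
  have hcardU : Nat.card Lˣ = A := by rw [Nat.card_eq_fintype_card, Fintype.card_units, hL]
  obtain ⟨Z, hZ⟩ : ∃ Z : Multiplicative (ZMod A) →* Lˣ, Function.Bijective Z := by
    rw [← hcardU]
    exact ⟨(zmodCyclicMulEquiv inferInstance).toMonoidHom, (zmodCyclicMulEquiv inferInstance).bijective⟩
  obtain ⟨σ, hσ⟩ : ∃ σ : L →+* L, ∀ x, σ x = x ^ q := by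
    obtain ⟨p, hp⟩ := CharP.exists L
    haveI := hp
    haveI : Fact p.Prime := ⟨CharP.char_is_prime L p⟩
    haveI : CharP F p := (ι.charP_iff ι.injective p).2 hp
    obtain ⟨k, -, hk⟩ := FiniteField.card F p
    exact ⟨iterateFrobenius L p k, fun x => by rw [iterateFrobenius_def, ← hk, hq]⟩
  have hσι : ∀ a, σ (ι a) = ι a := fun a => by rw [hσ, ← map_pow, ← hq, FiniteField.pow_card]
  have hgσ : ∀ x : GL D.Idx F, gmap D σ (gmap D ι x) = gmap D ι x := fun x => by
    apply Units.ext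
    rw [coe_gmap, coe_gmap, Matrix.map_map]
    congr 1
    funext z
    exact hσι z
  have hσh : ∀ c : Fin P.rank → Lˣ, gmap D σ (h.hHom c) = h.hHom (c ^ q) := fun c => by
    rw [h.gmap_hHom σ]
    exact congrArg _ (funext fun i => Units.ext (by simp [hσ]))
  have hmap : ∀ x : ↥(D.group F), gmap D ι (x : GL D.Idx F) ∈ D.group L := fun x =>
    h.map_group_le ι ⟨_, x.2, rfl⟩
  -- conjugate it into the torus
  set GL' := D.group L
  let TL : Subgroup ↥GL' := (D.diagonalSubgroup L).subgroupOf GL'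
  have hidxT : ¬ r ∣ TL.index := by
    have e := h.card_group (F := L) hC hJ
    have e1 := TL.card_mul_index
    rw [Nat.card_congr (Subgroup.subgroupOfEquivOfLe h.diagonal_le_group).toEquiv, e, h.poin_eq J hO, hL,
      mul_comm _ (Nat.card ↥(D.diagonalSubgroup L)), mul_assoc] at e1
    have e2 := Nat.eq_of_mul_eq_mul_left Nat.card_pos e1
    intro hdvd
    rw [e2, ← ZMod.natCast_eq_zero_iff, Nat.cast_mul, Nat.cast_pow, hQ1, one_pow, one_mul, pev_cast hQ1,
      ZMod.natCast_eq_zero_iff] at hdvd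
    exact hW hdvd
  obtain ⟨S0⟩ : Nonempty (Sylow r ↥TL) := inferInstance
  have hS1 : IsPGroup r ((S0 : Subgroup ↥TL).map TL.subtype) := S0.isPGroup'.map _
  have hS1i : ¬ r ∣ ((S0 : Subgroup ↥TL).map TL.subtype).index := by
    rw [Subgroup.index_map_subtype]
    exact fun hd => ((Fact.out : r.Prime).dvd_mul.1 hd).elim S0.not_dvd_index hidxT
  set g' : ↥GL' := ⟨gmap D ι (g : GL D.Idx F), hmap g⟩
  have hg' : orderOf g' = r := by
    rw [← Subgroup.orderOf_coe, ← hg, ← Subgroup.orderOf_coe g]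
    exact orderOf_injective (gmap D ι) (gmap_injective ι) _
  have hgp : IsPGroup r (Subgroup.zpowers g') := IsPGroup.of_card (n := 1) (by rw [Nat.card_zpowers, hg', pow_one])
  obtain ⟨S2, hS2⟩ := hgp.exists_le_sylow
  obtain ⟨z, hz⟩ := MulAction.exists_smul_eq ↥GL' S2 (hS1.toSylow hS1i)
  have hzg : z * g' * z⁻¹ ∈ TL := by
    have h1 : z * g' * z⁻¹ ∈ ((z • S2 : Sylow r ↥GL') : Subgroup ↥GL') :=
      ⟨g', hS2 (Subgroup.mem_zpowers g'), rfl⟩
    rw [hz] at h1
    obtain ⟨w, -, hw⟩ := h1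
    rw [← hw]
    exact w.2
  obtain ⟨c, hc⟩ := h.mem_diagonal_iff.1 (Subgroup.mem_subgroupOf.1 hzg)
  set y : GL D.Idx L := ((z⁻¹ : ↥GL') : GL D.Idx L) with hy
  have hyG : y ∈ GL' := (z⁻¹ : ↥GL').2
  have hgy : gmap D ι (g : GL D.Idx F) = y * h.hHom c * y⁻¹ := by
    rw [hc, hy]
    simp only [Subgroup.coe_mul, Subgroup.coe_inv, g']
    group
  -- the Weyl element
  set n' := y⁻¹ * gmap D σ y with hn'
  have hn'G : n' ∈ GL' := mul_mem (inv_mem hyG) (h.map_group_le σ ⟨y, hyG, rfl⟩)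
  have hrel : n' * h.hHom (c ^ q) * n'⁻¹ = h.hHom c := by
    have h1 := hgσ g
    rw [hgy, map_mul, map_mul, map_inv, hσh] at h1
    rw [hn', show y⁻¹ * gmap D σ y * h.hHom (c ^ q) * (y⁻¹ * gmap D σ y)⁻¹ =
      y⁻¹ * (gmap D σ y * h.hHom (c ^ q) * (gmap D σ y)⁻¹) * y by group, h1]
    group
  obtain ⟨l, hl, hlrel⟩ := weyl_of_conj h hC hn'G (h.mem_diagonal_iff.2 ⟨c, rfl⟩)
    (h.mem_diagonal_iff.2 ⟨c ^ q, rfl⟩) hrel
  -- exponents modulo r
  have hhr : (h.hHom c) ^ r = 1 := by
    have h1 : gmap D ι (g : GL D.Idx F) ^ r = 1 := by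
      rw [← map_pow, ← hg, ← SubgroupClass.coe_pow, pow_orderOf_eq_one, OneMemClass.coe_one, map_one]
    rwa [hgy, conj_pow, conj_eq_one_iff] at h1
  have hcr : ∀ s < P.nroots, hchar P c s ^ r = 1 := fun s hs => by
    have e1 := h.hHom_xG (c ^ r) hs (1 : L)
    rw [map_pow, hhr, one_mul, inv_one, mul_one] at e1
    have e2 := h.xG_inj_param hs e1
    simp only [mul_one] at e2
    rw [e2]
    simp only [hchar, ← Finset.prod_pow, Pi.pow_apply, Units.val_pow_eq_pow_val]
    exact Finset.prod_congr rfl fun i _ => by rw [← zpow_natCast, ← zpow_natCast, zpow_comm]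
  have hh1 : h.hHom c ≠ 1 := by
    intro e
    have h1 : gmap D ι (g : GL D.Idx F) = 1 := by rw [hgy, e, mul_one, mul_inv_cancel]
    have h2 : g = 1 := Subtype.ext (gmap_injective ι (h1.trans (map_one _).symm))
    rw [h2, orderOf_one] at hg
    exact (Fact.out : r.Prime).one_lt.ne hg
  obtain ⟨ζ, hζ⟩ : ∃ ζ : Lˣ, IsPrimitiveRoot ζ r := by
    obtain ⟨ζ, hζ⟩ := exists_prime_orderOf_dvd_card' (G := Lˣ) r (by
      rw [hcardU, ← ZMod.natCast_eq_zero_iff, hA, Nat.cast_sub (by omega), hQ1, Nat.cast_one, sub_self])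
    exact ⟨ζ, hζ ▸ IsPrimitiveRoot.orderOf ζ⟩
  let Zr : Multiplicative (ZMod r) →* Lˣ :=
    { toFun := fun v => ((Additive.toMul (hζ.zmodEquivZPowers v.toAdd) : Subgroup.zpowers ζ) : Lˣ)
      map_one' := by simp
      map_mul' := fun a b => by simp }
  have hZri : Function.Injective Zr := fun a b e => by
    have e1 : hζ.zmodEquivZPowers a.toAdd = hζ.zmodEquivZPowers b.toAdd := by
      apply Additive.toMul.injective
      exact Subtype.ext e
    exact Multiplicative.toAdd.injective (hζ.zmodEquivZPowers.injective e1)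
  have hex : ∀ k, ∃ e : ZMod r, simChar P c k = Zr (Multiplicative.ofAdd e) := fun k => by
    have h1 : simChar P c k ^ r = 1 := by
      apply Units.ext
      rw [Units.val_pow_eq_pow_val, simChar, coe_prod_zpow, hcr _ (h.sim_lt k.isLt), Units.val_one]
    have h2 : simChar P c k ∈ Subgroup.zpowers ζ := by
      rw [hζ.zpowers_eq]
      exact h1
    refine ⟨hζ.zmodEquivZPowers.symm (Additive.ofMul ⟨_, h2⟩), ?_⟩
    simp [Zr]
  choose e he using hex
  have hχ : ∀ s < P.nroots, hchar P c s = (Zr (Multiplicative.ofAdd (dot P e s)) : L) := fun s hs =>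
    hchar_dot h Zr c e he hs
  have he0 : e ≠ 0 := by
    intro e0
    refine hh1 ?_
    rw [← map_one (h.hHom (F := L))]
    refine hHom_ext_char h fun s hs => ?_
    rw [hχ s hs, e0]
    simp [hchar, dot]
  have hpowq : ∀ s, hchar P (c ^ q) s = hchar P c s ^ q := fun s => by
    simp only [hchar, ← Finset.prod_pow, Pi.pow_apply, Units.val_pow_eq_pow_val]
    exact Finset.prod_congr rfl fun i _ => by rw [← zpow_natCast, ← zpow_natCast, zpow_comm]
  have hZinj : ∀ a b : ZMod r, ((Zr (Multiplicative.ofAdd a) : Lˣ) : L) = Zr (Multiplicative.ofAdd b) → a = b :=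
    fun a b e => Multiplicative.ofAdd.injective (hZri (Units.ext e))
  have heig : tr P l e = (q : ZMod r) • e := by
    funext k
    refine hZinj _ _ ?_
    rw [tr_apply, ← hχ _ (h.wl_lt l hl _ (h.sim_lt k.isLt)), char_wl h hl hlrel (h.sim_lt k.isLt), hpowq,
      hχ _ (h.sim_lt k.isLt), dot_sim h e k, ← Units.val_pow_eq_pow_val, ← map_pow, ← ofAdd_nsmul]
    simp [nsmul_eq_mul]
  obtain ⟨hchp, hreg, hstab⟩ := regular_eigen' h hrank hP0 hl heig fun l' hl' he' => key l' hl' e he0 he'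
  -- the centralizer over the extension
  have hcent : ∀ x ∈ GL', Commute x (h.hHom c) → x ∈ D.diagonalSubgroup L := fun x hx hxc => by
    refine h.centralizer_of_stab hC c (fun s hs e1 => ?_) (fun l' hl' he' => hstab l' hl' ?_) hx hxc
    · refine hreg s hs (hZinj _ _ ?_)
      rw [← hχ s hs, e1]
      simp
    · funext k
      refine hZinj _ _ ?_
      rw [tr_apply, ← hχ _ (h.wl_lt l' hl' _ (h.sim_lt k.isLt)), he' _ (h.sim_lt k.isLt),
        hχ _ (h.sim_lt k.isLt), dot_sim h e k]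
  set d1 := n' * (h.nW (F := L) l)⁻¹ with hd1'
  have hd1d : d1 ∈ D.diagonalSubgroup L := by
    refine hcent _ (mul_mem hn'G (inv_mem (h.monomial_le_group (h.nW_mem l hl)))) ?_
    show d1 * h.hHom c = h.hHom c * d1
    rw [hd1']
    nth_rewrite 1 [← hlrel]
    nth_rewrite 1 [← hrel]
    group
  obtain ⟨cd, hcd⟩ := h.mem_diagonal_iff.1 hd1d
  -- Steinberg's group
  obtain ⟨τ, hτ⟩ := exists_stMap hFull σ
  obtain ⟨f, hfi, hfr, hfT, hfθ, hfs⟩ := exists_tor hFull (K := L) hMn hMW hlen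
  have Hc := cov_St (K := L) hFull
  have hker : ∀ z, thSt L hFull z = 1 → (∀ v, Commute z v) ∧ ∃ cz, f cz = z ∧ h.hHom cz = 1 := fun z hz => by
    obtain ⟨hzT, hzC⟩ := ker_spec Hc hz
    obtain ⟨cz, rfl⟩ := hfr hzT
    exact ⟨fun v => (Subgroup.mem_center_iff.1 hzC v).symm, cz, rfl, by rw [← hfθ, hz]⟩
  have hlift : ∀ x ∈ GL', ∃ v, thSt L hFull v = x := fun x hx => by
    rw [show GL' = (thSt L hFull).range from (thSt_range hFull).symm] at hx
    exact hx
  obtain ⟨yl, hyl⟩ := hlift y hyG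
  set NW := nWC P (D.stGen L) l
  have hNW : thSt L hFull NW = h.nW l := img_nWC Hc l hl
  have hn2 : ∃ cd', yl⁻¹ * τ yl = f cd' * NW := by
    have e1 : thSt L hFull ((f cd)⁻¹ * (yl⁻¹ * τ yl) * NW⁻¹) = 1 := by
      rw [map_mul, map_mul, map_inv, map_inv, map_mul, map_inv, map_thSt hFull hτ, hyl, hfθ, hNW, hcd, hd1', hn']
      group
    obtain ⟨-, cz, hcz, -⟩ := hker _ e1
    exact ⟨cd * cz, by rw [map_mul, hcz]; group⟩
  obtain ⟨cd', hcd'⟩ := hn2
  have hτf : ∀ c', τ (f c') = f (c' ^ q) := by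
    intro c'
    have e1 : τ.comp f = f.comp (powMonoidHom q) := MonoidHom.pi_ext fun i t => by
      show τ (f (Pi.mulSingle i t)) = f (Pi.mulSingle i t ^ q)
      have hs := h.sim_lt i.isLt
      rw [← Pi.mulSingle_pow, hfs, hfs, Units.val_pow_eq_pow_val, ← hσ]
      simp [hEl, nEl, map_mul, hτ _ hs, hτ _ (Ok.ng_lt hs)]
    exact DFunLike.congr_fun e1 c'
  set π := Int.castRingHom (ZMod A)
  have hZpow : ∀ x : Fin P.rank → ZMod A, cofx Z x ^ q = cofx Z fun k => (q : ZMod A) * x k := fun x => by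
    funext a
    rw [Pi.pow_apply, cofx, cofx, ← map_pow, ← ofAdd_nsmul, nsmul_eq_mul]
  have hcofi : Function.Injective (cofx (P := P) Z) := fun a b e => funext fun k =>
    Multiplicative.ofAdd.injective (hZ.1 (congrFun e k))
  have hcofs : ∀ c' : Fin P.rank → Lˣ, ∃ x : Fin P.rank → ZMod A, cofx Z x = c' := fun c' => by
    choose x hx using fun k => hZ.2 (c' k)
    exact ⟨fun k => (x k).toAdd, funext fun k => hx k⟩
  have hτy : ∀ x : Fin P.rank → ZMod A, τ (yl * f (cofx Z x) * yl⁻¹) =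
      yl * f (cofx Z (((RM P l).map π).mulVec fun k => (q : ZMod A) * x k)) * yl⁻¹ := fun x => by
    rw [map_mul, map_mul, map_inv, hτf, hZpow, show τ yl = yl * (f cd' * NW) by rw [← hcd']; group,
      ← tor_word hFull hfT hfθ hfs Z hl]
    have hc1 : ∀ u ∈ Set.range f, f cd' * u = u * f cd' := by
      rintro _ ⟨u, rfl⟩
      rw [← map_mul, ← map_mul, mul_comm]
    have hmem : NW * f (cofx Z fun k => (q : ZMod A) * x k) * NW⁻¹ ∈ Set.range f :=
      ⟨_, (tor_word hFull hfT hfθ hfs Z hl _).symm⟩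
    calc yl * (f cd' * NW) * f (cofx Z fun k => (q : ZMod A) * x k) * (yl * (f cd' * NW))⁻¹
        = yl * (f cd' * (NW * f (cofx Z fun k => (q : ZMod A) * x k) * NW⁻¹) * (f cd')⁻¹) * yl⁻¹ := by group
      _ = _ := by rw [hc1 _ hmem, mul_inv_cancel_right]
  -- the lattice
  have hinv1 : RM P l * RM P l.reverse = 1 := mul_eq_one_comm.1 (RM_inverse h hB hl)
  set R := RM P l.reverse with hR
  have hRchar : R.charpoly = P0 := by rw [hR, RM_charpoly h hB hl, hchp]
  set N : Matrix (Fin P.rank) (Fin P.rank) ℤ := R - (q : ℤ) • 1 with hN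
  have hMm : R ^ m = 1 := by
    obtain ⟨Q0, hQ0⟩ := hdvd
    have h1 := congrArg (Polynomial.aeval R) hQ0
    rw [map_mul, ← hRchar, Matrix.aeval_self_charpoly, zero_mul, map_sub, map_pow, Polynomial.aeval_X, map_one,
      sub_eq_zero] at h1
    exact h1
  obtain ⟨N', hN'⟩ : ∃ N' : Matrix (Fin P.rank) (Fin P.rank) ℤ, N' * N = (A : ℤ) • 1 := by
    have hcomm : Commute R ((q : ℤ) • (1 : Matrix (Fin P.rank) (Fin P.rank) ℤ)) :=
      (Commute.one_right _).smul_right _
    refine ⟨-∑ i ∈ Finset.range m, R ^ i * ((q : ℤ) • (1 : Matrix (Fin P.rank) (Fin P.rank) ℤ)) ^ (m - 1 - i), ?_⟩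
    rw [hN, Matrix.neg_mul, hcomm.geom_sum₂_mul, hMm, neg_sub, smul_pow, one_pow, hA, Nat.cast_sub (by omega),
      sub_smul, Nat.cast_pow, Nat.cast_one, one_smul]
  set Φ := P0 with hΦ
  have hdetN : ∀ a : ℤ, (RM P l.reverse - a • 1).det.natAbs = (Φ.eval a).natAbs := fun a => by
    rw [← hRchar, hR, Matrix.eval_charpoly, ← neg_sub, Matrix.det_neg, Int.natAbs_mul, Int.natAbs_pow,
      Int.natAbs_neg, Int.natAbs_one, one_pow, one_mul]
    congr 3
    rw [Matrix.scalar_apply, Matrix.smul_one_eq_diagonal]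
  let K : AddSubgroup (Fin P.rank → ZMod A) := (N.map π).mulVecLin.toAddMonoidHom.ker
  have hKcard : Nat.card K = (Φ.eval (q : ℤ)).natAbs := by
    rw [← hdetN, ← hR, ← hN, ← card_ker_mod hN']
    rfl
  have hKmem : ∀ x, x ∈ K ↔ ((RM P l).map π).mulVec (fun k => (q : ZMod A) * x k) = x := by
    intro x
    show (N.map π).mulVec x = 0 ↔ _
    have e1 : (((q : ℤ) • (1 : Matrix (Fin P.rank) (Fin P.rank) ℤ)).map π).mulVec x = fun k => (q : ZMod A) * x k := by
      funext k
      rw [Matrix.smul_one_eq_diagonal, Matrix.diagonal_map (map_zero _), Matrix.mulVec_diagonal]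
      simp [π]
    rw [hN, Matrix.map_sub _ (map_sub _), Matrix.sub_mulVec, sub_eq_zero, e1]
    constructor
    · intro e2
      rw [← e2, Matrix.mulVec_mulVec, ← Matrix.map_mul, hinv1, Matrix.map_one _ (map_zero _) (map_one _),
        Matrix.one_mulVec]
    · intro e2
      conv_lhs => rw [← e2]
      rw [Matrix.mulVec_mulVec, ← Matrix.map_mul, hR, RM_inverse h hB hl, Matrix.map_one _ (map_zero _) (map_one _),
        Matrix.one_mulVec]
  have hKτ : ∀ x, x ∈ K ↔ τ (yl * f (cofx Z x) * yl⁻¹) = yl * f (cofx Z x) * yl⁻¹ := fun x => by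
    rw [hKmem, hτy, mul_left_inj, mul_right_inj, hfi.eq_iff, hcofi.eq_iff]
  -- K is cyclic
  have hpr : ∀ s : ℕ, s.Prime → Nat.card {x : K // s • x = 0} ≤ s := by
    intro s hs
    haveI := Fact.mk hs
    by_cases hsA : s ∣ A
    · obtain ⟨a, ha, ha2⟩ : ∃ a : ℤ, (a : ZMod s) = (q : ZMod s) ∧ ¬ ((s : ℤ) ^ 2) ∣ Φ.eval a := by
        by_cases hsm : s ∣ m
        · exact hsep s hs hsm hsA
        · exact exists_lift' hdvd (by omega) hs hsm
      have hΦ0 : Φ.eval a ≠ 0 := fun e => ha2 (e ▸ dvd_zero _)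
      have hdet0 : (RM P l.reverse - a • 1).det ≠ 0 := fun e => hΦ0 (Int.natAbs_eq_zero.1 (by rw [← hdetN, e, Int.natAbs_zero]))
      have h2 : ¬ ((s : ℤ) ^ 2) ∣ (RM P l.reverse - a • 1).det := by
        rw [← Int.natAbs_dvd_natAbs, hdetN, Int.natAbs_dvd_natAbs]
        exact ha2
      refine le_trans ?_ (card_prime_le hdet0 s h2)
      have hmap : (N.map (Int.castRingHom (ZMod s))) = (RM P l.reverse - a • 1).map (Int.castRingHom (ZMod s)) := by
        ext i j
        simp only [hN, hR, Matrix.map_apply, Matrix.sub_apply, Matrix.smul_apply, smul_eq_mul, map_sub, map_mul,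
          eq_intCast, Int.cast_natCast, ha]
      rw [← hmap]
      obtain ⟨B, hB⟩ := hsA
      let emb : ZMod s →+ ZMod A := ZMod.lift s ⟨(Int.castAddHom (ZMod A)).comp (AddMonoidHom.mulLeft (B : ℤ)), by
        show (((B : ℤ) * (s : ℤ) : ℤ) : ZMod A) = 0
        rw [ZMod.intCast_zmod_eq_zero_iff_dvd, hB]
        exact ⟨1, by push_cast; ring⟩⟩
      have hemb : ∀ z : ℤ, emb (z : ZMod s) = ((B * z : ℤ) : ZMod A) := fun z => by
        simp [emb]
      have hB0 : B ≠ 0 := fun e => NeZero.ne A (by rw [hB, e, mul_zero])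
      have hembi : Function.Injective emb := (injective_iff_map_eq_zero _).2 fun v hv => by
        obtain ⟨z, rfl⟩ := ZMod.intCast_surjective v
        rw [hemb, ZMod.intCast_zmod_eq_zero_iff_dvd, hB, Nat.cast_mul, mul_comm (s : ℤ)] at hv
        rw [ZMod.intCast_zmod_eq_zero_iff_dvd]
        exact (mul_dvd_mul_iff_left (by exact_mod_cast hB0)).1 hv
      have hsurj : ∀ v : ZMod A, s • v = 0 → ∃ w, emb w = v := fun v hv => by
        obtain ⟨z, rfl⟩ := ZMod.intCast_surjective v
        rw [nsmul_eq_mul, ← Int.cast_natCast, ← Int.cast_mul, ZMod.intCast_zmod_eq_zero_iff_dvd, hB,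
          Nat.cast_mul] at hv
        obtain ⟨w, rfl⟩ := (mul_dvd_mul_iff_left (by exact_mod_cast hs.ne_zero)).1 hv
        exact ⟨w, hemb w⟩
      have hlift : ∀ x : {x : K // s • x = 0}, ∃ w : Fin P.rank → ZMod s,
          (N.map (Int.castRingHom (ZMod s))).mulVec w = 0 ∧ ∀ i, emb (w i) = (x.1.1 : Fin P.rank → ZMod A) i := by
        rintro ⟨⟨x, hx⟩, hsx⟩
        have hsx' : ∀ i, s • x i = 0 := fun i => congrFun (congrArg Subtype.val hsx) i
        choose w hw using fun i => hsurj (x i) (hsx' i)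
        refine ⟨w, funext fun i => hembi ?_, hw⟩
        have hx' : (N.map π).mulVec x i = 0 := congrFun hx i
        rw [Pi.zero_apply, map_zero, ← hx']
        simp only [Matrix.mulVec, dotProduct, map_sum]
        refine Finset.sum_congr rfl fun j _ => ?_
        rw [← hw j]
        simp only [Matrix.map_apply, eq_intCast, π, ← zsmul_eq_mul, map_zsmul]
      choose w hw1 hw2 using hlift
      refine Nat.card_le_card_of_injective (fun x => ⟨w x, hw1 x⟩) fun x x' e => ?_
      apply Subtype.ext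
      apply Subtype.ext
      funext i
      rw [← hw2 x i, ← hw2 x' i, show w x = w x' from congrArg Subtype.val e]
    · have : Subsingleton {x : K // s • x = 0} := by
        have key : ∀ x : {x : K // s • x = 0}, ((x.1 : K) : Fin P.rank → ZMod A) = 0 := fun x => funext fun i => by
          have h1 : s • ((x.1 : K) : Fin P.rank → ZMod A) i = 0 := congrFun (congrArg Subtype.val x.2) i
          have hu : IsUnit ((s : ℕ) : ZMod A) := (ZMod.isUnit_iff_coprime _ _).2 (hs.coprime_iff_not_dvd.2 hsA)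
          rw [nsmul_eq_mul] at h1
          exact hu.mul_right_eq_zero.1 h1
        exact ⟨fun a b => Subtype.ext (Subtype.ext ((key a).trans (key b).symm))⟩
      exact le_trans (Finite.card_le_one_iff_subsingleton.2 this) hs.one_le
  haveI hKc : IsAddCyclic K := by
    haveI : Fintype K := Fintype.ofFinite _
    refine isAddCyclic_of_card_nsmul_eq_zero_le fun k hk => ?_
    rw [← Fintype.card_subtype, ← Nat.card_eq_fintype_card]
    induction k using Nat.strong_induction_on with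
    | _ k ih =>
      rcases Nat.lt_or_ge k 2 with h1 | h1
      · obtain rfl : k = 1 := by omega
        have : Subsingleton {x : K // 1 • x = 0} :=
          ⟨fun a b => Subtype.ext (by have ha := a.2; have hb := b.2; rw [one_smul] at ha hb; rw [ha, hb])⟩
        exact Finite.card_le_one_iff_subsingleton.2 this
      · obtain ⟨s, hs, hsk⟩ := Nat.exists_prime_and_dvd (n := k) (by omega)
        obtain ⟨j, rfl⟩ := hsk
        have hj : j < s * j := by nlinarith [hs.two_le, (show 0 < j by rcases j with _ | j <;> simp_all)]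
        have hj0 : 0 < j := by rcases j with _ | j <;> simp_all
        let f : K →+ K := (nsmulAddMonoidHom s : K →+ K)
        let B : AddSubgroup K := (nsmulAddMonoidHom (s * j) : K →+ K).ker
        let fB : B →+ K := f.comp B.subtype
        have e1 := fB.ker.card_mul_index
        rw [AddSubgroup.index_ker] at e1
        have hB : Nat.card {x : K // (s * j) • x = 0} = Nat.card B := Nat.card_congr (Equiv.refl _)
        rw [hB, ← e1]
        refine Nat.mul_le_mul ?_ ?_
        · refine le_trans (Nat.card_le_card_of_injective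
            (fun x : fB.ker => (⟨x.1.1, x.2⟩ : {x : K // s • x = 0})) fun a b e => ?_) (hpr s hs)
          exact Subtype.ext (Subtype.ext (congrArg Subtype.val e : _))
        · refine le_trans (Nat.card_le_card_of_injective
            (fun x : fB.range => (⟨x.1, ?_⟩ : {x : K // j • x = 0})) fun a b e => ?_) (ih j hj hj0)
          · obtain ⟨b, hb⟩ := x.2
            rw [← hb]
            show j • (s • (b : K)) = 0
            rw [← mul_nsmul]
            exact b.2
          · exact Subtype.ext (congrArg Subtype.val e : _)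
  haveI : IsCyclic (Multiplicative K) := isCyclic_multiplicative_iff.2 hKc
  -- the homomorphism
  let ψ : Multiplicative K →* GL D.Idx L := MonoidHom.mk' (fun x => y * h.hHom (cofx Z x.toAdd.1) * y⁻¹) fun a b => by
    have e : cofx Z ((a.toAdd + b.toAdd : K) : Fin P.rank → ZMod A) = cofx Z a.toAdd.1 * cofx Z b.toAdd.1 := by
      funext k; simp [cofx, ofAdd_add, map_mul]
    show y * h.hHom (cofx Z ((a.toAdd + b.toAdd : K) : Fin P.rank → ZMod A)) * y⁻¹ = _
    rw [e, map_mul]
    group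
  -- elements with a fixed lift
  let S : Subgroup (GL D.Idx L) := (MonoidHom.eqLocus τ (MonoidHom.id _)).map (thSt L hFull)
  have hMS : (D.group F).map (gmap D ι) ≤ S := by
    rw [Subgroup.map_le_iff_le_comap]
    refine h.group_le fun x hx t => ?_
    exact ⟨D.stGen L x (ι t), by show τ _ = _; rw [hτ x hx, hσι]; rfl, by rw [thSt_gen hFull hx, h.gmap_xG ι hx]⟩
  have hfixR : ∀ z : L, σ z = z → ∃ a, ι a = z := fun z hz => G2Singer.fixed_range ι hq (by rw [← hσ]; exact hz)
  have hT : ∀ c' : Fin P.rank → Lˣ, h.hHom c' ∈ S →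
      ∃ b : Fin P.rank → Fˣ, h.hHom c' = h.hHom fun i => Units.map ι.toMonoidHom (b i) := by
    rintro c' ⟨v, hv, hve⟩
    obtain ⟨-, cz, hcz, hcz1⟩ := hker ((f c')⁻¹ * v) (by rw [map_mul, map_inv, hve, hfθ, inv_mul_cancel])
    have hv' : v = f (c' * cz) := by rw [map_mul, hcz, mul_inv_cancel_left]
    have e1 : (c' * cz) ^ q = c' * cz := hfi (by rw [← hτf, ← hv']; exact hv)
    have hci : ∀ i, ∃ b : Fˣ, Units.map ι.toMonoidHom b = (c' * cz) i := by
      intro i
      obtain ⟨b, hb⟩ := hfixR (((c' * cz) i : Lˣ) : L) (by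
        rw [hσ]; simpa using congrArg Units.val (congrFun e1 i))
      have hb0 : b ≠ 0 := by rintro rfl; exact ((c' * cz) i).ne_zero (by rw [← hb, map_zero])
      exact ⟨Units.mk0 b hb0, Units.ext hb⟩
    choose b hb using hci
    exact ⟨b, by rw [show (fun i => Units.map ι.toMonoidHom (b i)) = c' * cz from funext hb, map_mul, hcz1, mul_one]⟩
  -- descend
  set C := Subgroup.centralizer ({g} : Set ↥(D.group F))
  let em : ↥(D.group F) →* GL D.Idx L := (gmap D ι).comp (D.group F).subtype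
  have hemi : Function.Injective em := fun a b e => Subtype.ext (gmap_injective ι e)
  have hcomy : ∀ u v : GL D.Idx L, Commute u v → Commute (y * u * y⁻¹) (y * v * y⁻¹) := fun u v huv => by
    simpa using huv.map (MulAut.conj y).toMonoidHom
  have himg : C.map em = ψ.range := by
    ext x'
    constructor
    · rintro ⟨x, hx, rfl⟩
      have hxg : Commute (em x) (em g) :=
        (show Commute x g from (Subgroup.mem_centralizer_iff.1 hx g (Set.mem_singleton g)).symm).map em
      rw [show em g = y * h.hHom c * y⁻¹ from hgy] at hxg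
      have h1 : Commute (y⁻¹ * em x * y) (h.hHom c) := by
        have := hxg.map (MulAut.conj y⁻¹).toMonoidHom
        simpa [mul_assoc] using this
      obtain ⟨c', hc'⟩ := h.mem_diagonal_iff.1
        (hcent _ (mul_mem (mul_mem (inv_mem hyG) (hmap x)) hyG) h1)
      have hxy : em x = y * h.hHom c' * y⁻¹ := by rw [hc']; group; rfl
      obtain ⟨v, hv, hve⟩ := hMS ⟨x.1, x.2, rfl⟩
      obtain ⟨hzc, cz, hcz, hcz1⟩ := hker ((yl * f c' * yl⁻¹)⁻¹ * v) (by
        rw [map_mul, map_inv, map_mul, map_mul, map_inv, hyl, hfθ, hve, ← hxy]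
        exact inv_mul_cancel _)
      obtain ⟨x0, hx0⟩ := hcofs (c' * cz)
      have hv' : v = yl * f (c' * cz) * yl⁻¹ := by
        rw [map_mul, hcz, ← mul_assoc, mul_assoc (yl * f c'), (hzc yl⁻¹).eq]
        group
      have hK' : x0 ∈ K := by
        rw [hKτ, hx0, ← hv']
        exact hv
      refine ⟨Multiplicative.ofAdd ⟨x0, hK'⟩, ?_⟩
      show y * h.hHom (cofx Z x0) * y⁻¹ = em x
      rw [hx0, map_mul, hcz1, mul_one, hxy]
    · rintro ⟨a, rfl⟩
      have hmem : ψ a ∈ D.group L :=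
        mul_mem (mul_mem hyG (h.diagonal_le_group (h.mem_diagonal_iff.2 ⟨_, rfl⟩))) (inv_mem hyG)
      have hθ : thSt L hFull (yl * f (cofx Z a.toAdd.1) * yl⁻¹) = ψ a := by
        rw [map_mul, map_mul, map_inv, hyl, hfθ]; rfl
      have hfx := (hKτ _).1 a.toAdd.2
      obtain ⟨x0, hx0, ex0⟩ := mem_map_of_lift h hC ι σ hfixR S hMS hT hmem ⟨_, hfx, hθ⟩
        (by rw [← hθ, ← map_thSt hFull hτ, hfx])
      refine ⟨⟨x0, hx0⟩, ?_, ex0⟩
      show _ ∈ Subgroup.centralizer _
      rw [Subgroup.mem_centralizer_iff]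
      intro z hz
      rw [Set.mem_singleton_iff.1 hz]
      refine hemi ?_
      rw [map_mul, map_mul, show em ⟨x0, hx0⟩ = ψ a from ex0, show em g = y * h.hHom c * y⁻¹ from hgy]
      exact (hcomy _ _ ((Commute.all c (cofx Z a.toAdd.1)).map (h.hHom (F := L)))).eq
  haveI : IsCyclic ↥ψ.range := isCyclic_of_surjective ψ.rangeRestrict ψ.rangeRestrict_surjective
  have eC : ↥C ≃* ↥ψ.range := (C.equivMapOfInjective em hemi).trans (MulEquiv.subgroupCongr himg)
  haveI hCc : IsCyclic ↥C := isCyclic_of_surjective eC.symm eC.symm.surjective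
  refine ⟨C, hCc, ?_, ?_⟩
  · set g0 := ((List.range P.rank).map fun k => (q - 1).gcd (d.getD k 0).natAbs).prod
    have ek : Nat.card ψ.ker = g0 := by
      let ιu : (Fin P.rank → Fˣ) → (Fin P.rank → Lˣ) := fun b i => Units.map ι.toMonoidHom (b i)
      have hιu : Function.Injective ιu := fun a b e => funext fun i =>
        Units.map_injective ι.injective (congrFun e i)
      have hf1 : ∀ b : (h.hHom (F := F)).ker, h.hHom (ιu b.1) = 1 := fun b => by
        rw [← h.gmap_hHom ι, MonoidHom.mem_ker.1 b.2, map_one]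
      have hfxk : ∀ c' : Fin P.rank → Lˣ, h.hHom c' = 1 → ∀ x, cofx Z x = c' →
          (x ∈ K ↔ c' ^ q = c') := fun c' hc' x hx => by
        obtain ⟨hzc, -⟩ := hker (f c') (by rw [hfθ, hc'])
        rw [hKτ, hx, map_mul, map_mul, map_inv, hτf]
        obtain ⟨hzc', -⟩ := hker (f (c' ^ q)) (by rw [hfθ, map_pow, hc', one_pow])
        rw [← (hzc' (τ yl)).eq, ← (hzc yl).eq, mul_inv_cancel_right, mul_inv_cancel_right, hfi.eq_iff]
      have e2 : Nat.card ψ.ker = Nat.card (h.hHom (F := F)).ker := by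
        have hb : ∀ b : (h.hHom (F := F)).ker, ∃ a : ψ.ker, cofx Z a.1.toAdd.1 = ιu b.1 := by
          intro b
          obtain ⟨x, hx⟩ := hcofs (ιu b.1)
          have hK' : x ∈ K := (hfxk _ (hf1 b) x hx).2 (funext fun i => Units.ext (by
            simp only [ιu, Pi.pow_apply, Units.val_pow_eq_pow_val, Units.coe_map]
            show ι (b.1 i : F) ^ q = ι (b.1 i : F)
            rw [← hσ, hσι]))
          refine ⟨⟨Multiplicative.ofAdd ⟨x, hK'⟩, ?_⟩, hx⟩
          show y * h.hHom (cofx Z x) * y⁻¹ = 1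
          rw [hx, hf1, mul_one, mul_inv_cancel]
        choose F1 hF1 using hb
        refine (Nat.card_eq_of_bijective F1 ⟨fun a b e => Subtype.ext (hιu (by rw [← hF1, ← hF1, e])), fun a => ?_⟩).symm
        have ha : h.hHom (cofx Z a.1.toAdd.1) = 1 := by
          have := MonoidHom.mem_ker.1 a.2
          exact conj_eq_one_iff.1 this
        have ha2 := (hfxk _ ha _ rfl).1 a.1.toAdd.2
        have hci : ∀ i, ∃ b : Fˣ, Units.map ι.toMonoidHom b = cofx Z a.1.toAdd.1 i := by
          intro i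
          obtain ⟨b, hb⟩ := hfixR ((cofx Z a.1.toAdd.1 i : Lˣ) : L) (by
            rw [hσ]; simpa using congrArg Units.val (congrFun ha2 i))
          have hb0 : b ≠ 0 := by rintro rfl; exact (cofx Z a.1.toAdd.1 i).ne_zero (by rw [← hb, map_zero])
          exact ⟨Units.mk0 b hb0, Units.ext hb⟩
        choose b hb using hci
        have hbk : b ∈ (h.hHom (F := F)).ker := by
          rw [MonoidHom.mem_ker]
          refine gmap_injective ι ?_
          rw [h.gmap_hHom ι, map_one, show (fun i => Units.map ι.toMonoidHom (b i)) = _ from funext hb, ha]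
        refine ⟨⟨b, hbk⟩, Subtype.ext (Multiplicative.toAdd.injective (Subtype.ext (hcofi ?_)))⟩
        rw [hF1]
        exact funext hb
      have e3 := h.card_diagonal (F := F) hck
      have e4 := (h.hHom (F := F)).ker.card_mul_index
      rw [Subgroup.index_ker, Nat.card_fun, Nat.card_eq_fintype_card (α := Fˣ), Fintype.card_units,
        Nat.card_eq_fintype_card (α := Fin P.rank), Fintype.card_fin, ← e3, h.diagonal_eq, mul_comm] at e4
      rw [hq] at e4
      rw [e2]
      exact Nat.eq_of_mul_eq_mul_left Nat.card_pos e4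
    rw [Nat.card_congr eC.toEquiv, ← ek, ← Subgroup.index_ker, mul_comm, Subgroup.card_mul_index,
      Nat.card_congr Multiplicative.toAdd]
    exact hKcard
  · refine le_antisymm (fun x hx => ?_) (fun x hx => ?_)
    · rw [Subgroup.mem_centralizer_iff]
      intro z hz
      rw [Set.mem_singleton_iff.1 hz]
      refine Subgroup.mem_centralizer_iff.1 hx g ?_
      show g ∈ C
      rw [Subgroup.mem_centralizer_iff]
      intro z hz
      rw [Set.mem_singleton_iff.1 hz]
    · rw [Subgroup.mem_centralizer_iff]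
      intro z hz
      letI := IsCyclic.commGroup (α := ↥C)
      exact congrArg Subtype.val (mul_comm (⟨z, hz⟩ : ↥C) ⟨x, hx⟩)

end Cfsg.Agent.Chev.CyclTorus
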