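/-
Weyl elements of E6 with an eigenvalue of order twelve modulo a prime.
-/
import Cfsg.Agent.Lib.Chev.CyclTorus.MainSc

set_option autoImplicit false
set_option linter.unusedSectionVars false
set_option maxHeartbeats 800000

namespace Cfsg.Agent.Chev.CyclTorus

open Cfsg.Lie Cfsg.Agent.Chev Polynomial

/-- A functional from a list. -/
def vecL (P : Pk) (x : List ℤ) : Fin P.rank → ℤ := fun k => x.getD k 0

/-- A simple reflection on functionals. -/
def sfun (P : Pk) (j : ℕ) (x : List ℤ) : List ℤ :=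
  (List.range P.rank).map fun k => x.getD k 0 - P.A j (P.sim k) * x.getD j 0

/-- Small spanning orbits of the reflections other than the `i`-th. -/
def ckOrbits (P : Pk) (i : ℕ) (dat : List (List (List ℤ)) × List (List ℤ) × ℕ × List (List ℤ)) : Bool :=
  let (os, B, d, iv) := dat
  (os.all fun o => Nat.ble o.length 11 && o.all fun x =>
      (List.range P.rank).all fun j => Nat.beq j i || o.contains (sfun P j x)) &&
    (B.all fun b => os.any fun o => o.contains b) && Nat.blt 0 d && Nat.beq B.length P.rank &&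
    (List.range P.rank).all fun k => (List.range P.rank).all fun j =>
      decide (((List.range P.rank).map fun a => (iv.getD k []).getD a 0 * (B.getD a []).getD j 0).sum =
        if k = j then (d : ℤ) else 0)

variable {D : ChevalleyDatum} {P : Pk} (h : Ok D P)
include h

theorem WM_single {i : ℕ} (hi : i < P.rank) (k a : Fin P.rank) :
    WM P [i] k a = (if k = a then 1 else 0) - (if (a : ℕ) = i then P.A i (P.sim k) else 0) := by
  show P.rv (P.w i (P.sim k)) a = _
  rw [((h.w_spec hi (h.sim_lt k.isLt)).2.2.2.2.2.1 a a.isLt).1, h.rv_sim k.isLt a.isLt]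
  simp only [Fin.ext_iff]

theorem tr_sfun {j : ℕ} (hj : j < P.rank) (x : List ℤ) : tr P [j] (vecL P x) = vecL P (sfun P j x) := by
  funext k
  have e : tr P [j] (vecL P x) k = ∑ a : Fin P.rank, WM P [j] k a * vecL P x a := rfl
  rw [e]
  simp only [WM_single h hj, sub_mul, Finset.sum_sub_distrib, ite_mul, one_mul, zero_mul, Finset.sum_ite_eq,
    Finset.mem_univ, if_true]
  rw [Finset.sum_eq_single ⟨j, hj⟩ (fun b _ hb => if_neg (fun e => hb (Fin.ext e))) (by simp), if_pos rfl]
  simp [vecL, sfun, k.isLt]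

theorem tr_tr_single {R : Type*} [CommRing R] {i : ℕ} (hi : i < P.rank) (e : Fin P.rank → R) :
    tr P [i] (tr P [i] e) = e := by
  have hw : WordOk P [i] := by simpa [WordOk] using hi
  have e1 := WM_reverse_mul h hw
  rw [List.reverse_singleton] at e1
  rw [tr, tr, Matrix.mulVec_mulVec, ← Matrix.map_mul, e1, Matrix.map_one _ (map_zero _) (map_one _),
    Matrix.one_mulVec]

theorem dot_nonneg {v : Fin P.rank → ℤ} (hv : ∀ i, 0 ≤ v i) {r : ℕ} (hr : r < P.nroots) (hp : P.isPos r = true) :
    0 ≤ dot (R := ℤ) P v r :=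
  Finset.sum_nonneg fun j _ => mul_nonneg ((h.rv_sign hr j.isLt).1 hp) (hv j)

/-- A fixed functional and an eigenvector can be moved so that the functional is dominant. -/
theorem exists_dominant {r : ℕ} {a : ZMod r} : ∀ (c : ℕ) (v : Fin P.rank → ℤ) (e : Fin P.rank → ZMod r) (l : List ℕ),
    WordOk P l → v ≠ 0 → ((Finset.range P.nroots).filter fun s => P.isPos s = true ∧ dot (R := ℤ) P v s < 0).card ≤ c →
    tr P l v = v → e ≠ 0 → tr P l e = a • e →
    ∃ (v' : Fin P.rank → ℤ) (e' : Fin P.rank → ZMod r) (l' : List ℕ), WordOk P l' ∧ v' ≠ 0 ∧ (∀ i, 0 ≤ v' i) ∧ tr P l' v' = v' ∧ e' ≠ 0 ∧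
      tr P l' e' = a • (e' : Fin P.rank → ZMod r) := by
  intro c
  induction c with
  | zero =>
    intro v e l hl hv hc hfix he hee
    refine ⟨v, e, l, hl, hv, fun i => ?_, hfix, he, hee⟩
    by_contra hneg
    push Not at hneg
    have : P.sim i ∈ (Finset.range P.nroots).filter fun s => P.isPos s = true ∧ dot (R := ℤ) P v s < 0 :=
      Finset.mem_filter.2 ⟨Finset.mem_range.2 (h.sim_lt i.isLt), h.sim_pos i.isLt, by rwa [dot_sim h v i]⟩
    have := Finset.card_pos.2 ⟨_, this⟩
    omega
  | succ c ih =>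
    intro v e l hl hv hc hfix he hee
    by_cases hall : ∀ i, 0 ≤ v i
    · exact ⟨v, e, l, hl, hv, hall, hfix, he, hee⟩
    push Not at hall
    obtain ⟨⟨i, hi⟩, hneg⟩ := hall
    rw [← dot_sim h v ⟨i, hi⟩] at hneg
    change dot (R := ℤ) P v (P.sim i) < 0 at hneg
    have hw : WordOk P [i] := by simpa [WordOk] using hi
    have hl' : WordOk P ([i] ++ l ++ [i]) := fun x hx => by
      simp only [List.mem_append, List.mem_singleton] at hx
      rcases hx with (rfl | hx) | rfl
      exacts [hi, hl x hx, hi]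
    have hconj : ∀ {R : Type} [CommRing R] (x : Fin P.rank → R),
        tr P ([i] ++ l ++ [i]) (tr P [i] x) = tr P [i] (tr P l x) := by
      intro R _ x
      rw [tr_append h (fun y hy => hl' y (List.mem_append_left _ hy)) hw, tr_append h hw hl, tr_tr_single h hi]
    refine ih (tr P [i] v) (tr P [i] e) ([i] ++ l ++ [i]) hl' ?_ ?_ (by rw [hconj, hfix]) ?_ ?_
    · intro e0
      refine hv ?_
      rw [← tr_tr_single h hi v, e0, tr, Matrix.mulVec_zero]
    · have hsub : ((Finset.range P.nroots).filter fun s => P.isPos s = true ∧ dot (R := ℤ) P (tr P [i] v) s < 0).image (P.w i) ⊆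
          ((Finset.range P.nroots).filter fun s => P.isPos s = true ∧ dot (R := ℤ) P v s < 0).erase (P.sim i) := by
        intro s hs
        obtain ⟨x, hx, rfl⟩ := Finset.mem_image.1 hs
        obtain ⟨hx1, hp, hn⟩ := Finset.mem_filter.1 hx
        have hx' := Finset.mem_range.1 hx1
        rw [← dot_wl h hw v hx', show wl P [i] x = P.w i x from rfl] at hn
        have hne : x ≠ P.sim i := by
          rintro rfl
          rw [h.w_sim hi, dot_ng h v (h.sim_lt hi)] at hn
          omega
        have hp' := h.isPos_w_of_ne_sim hi hp hne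
        refine Finset.mem_erase.2 ⟨fun e => ?_, Finset.mem_filter.2 ⟨Finset.mem_range.2 (h.w_lt hi hx'), hp', hn⟩⟩
        have e2 := congrArg (P.w i) e
        rw [h.w_w hi hx', h.w_sim hi] at e2
        rw [e2, h.ng_pos_iff (h.sim_lt hi), h.sim_pos hi] at hp
        simp at hp
      have h1 := Finset.card_le_card hsub
      rw [Finset.card_image_of_injOn (fun a ha b hb e => h.w_inj hi
          (Finset.mem_range.1 (Finset.mem_filter.1 ha).1) (Finset.mem_range.1 (Finset.mem_filter.1 hb).1) e),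
        Finset.card_erase_of_mem (Finset.mem_filter.2 ⟨Finset.mem_range.2 (h.sim_lt hi), h.sim_pos hi, hneg⟩)] at h1
      omega
    · intro e0
      refine he ?_
      rw [← tr_tr_single h hi e, e0, tr, Matrix.mulVec_zero]
    · rw [hconj, hee, tr, Matrix.mulVec_smul]
      rfl

/-- A Weyl element fixing a dominant functional preserves every set preserved by the simple reflections fixing it. -/
theorem stab_dominant {v : Fin P.rank → ℤ} (hv : ∀ i, 0 ≤ v i) {O : Set (Fin P.rank → ℤ)}
    (hO : ∀ i : Fin P.rank, v i = 0 → ∀ o ∈ O, tr P [(i : ℕ)] o ∈ O) : ∀ (c : ℕ) (l : List ℕ), WordOk P l →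
    ((Finset.range P.nroots).filter fun s => P.isPos s = true ∧ P.isPos (wl P l s) = false).card ≤ c →
    tr P l v = v → ∀ o ∈ O, tr P l o ∈ O := by
  intro c
  induction c using Nat.strong_induction_on with
  | _ c ih =>
    intro l hl hc hfix
    by_cases hall : ∀ i < P.rank, P.isPos (wl P l (P.sim i)) = true
    · have e1 : WM P l = 1 := by
        rw [← WM_nil h]
        exact WM_congr h fun r hr => h.wl_eq_id l.length l le_rfl hl hall r hr
      intro o ho
      rwa [tr, e1, Matrix.map_one _ (map_zero _) (map_one _), Matrix.one_mulVec]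
    push Not at hall
    obtain ⟨i, hi, hneg⟩ := hall
    simp only [Bool.not_eq_true] at hneg
    have hlt := h.wl_lt l hl _ (h.sim_lt hi)
    have hvi : v ⟨i, hi⟩ = 0 := by
      have h1 : dot (R := ℤ) P v (wl P l (P.sim i)) = v ⟨i, hi⟩ := by
        rw [dot_wl h hl v (h.sim_lt hi), hfix, dot_sim h v ⟨i, hi⟩]
      have h2 := dot_nonneg h hv (Ok.ng_lt hlt) ((h.ng_pos_iff hlt).2 hneg)
      rw [dot_ng h v hlt, h1] at h2
      have h3 := hv ⟨i, hi⟩
      omega
    have hw : WordOk P [i] := by simpa [WordOk] using hi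
    have hl2 : WordOk P (l ++ [i]) := fun x hx => (List.mem_append.1 hx).elim (hl x) (hw x)
    set T : List ℕ → Finset ℕ := fun l =>
      (Finset.range P.nroots).filter fun s => P.isPos s = true ∧ P.isPos (wl P l s) = false
    have hsub : (T (l ++ [i])).image (P.w i) ⊆ (T l).erase (P.sim i) := by
      intro s hs
      obtain ⟨x, hx, rfl⟩ := Finset.mem_image.1 hs
      obtain ⟨hx1, hp, hn⟩ := Finset.mem_filter.1 hx
      have hx' := Finset.mem_range.1 hx1
      rw [wl_append, show wl P [i] x = P.w i x from rfl] at hn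
      have hne : x ≠ P.sim i := by
        rintro rfl
        rw [h.w_sim hi, h.wl_ng l hl _ (h.sim_lt hi), (h.ng_pos_iff hlt).2 hneg] at hn
        simp at hn
      have hp' := h.isPos_w_of_ne_sim hi hp hne
      refine Finset.mem_erase.2 ⟨fun e => ?_, Finset.mem_filter.2 ⟨Finset.mem_range.2 (h.w_lt hi hx'), hp', hn⟩⟩
      have e2 := congrArg (P.w i) e
      rw [h.w_w hi hx', h.w_sim hi] at e2
      rw [e2, h.ng_pos_iff (h.sim_lt hi), h.sim_pos hi] at hp
      simp at hp
    have hmem : P.sim i ∈ T l := Finset.mem_filter.2 ⟨Finset.mem_range.2 (h.sim_lt hi), h.sim_pos hi, hneg⟩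
    have h1 := Finset.card_le_card hsub
    rw [Finset.card_image_of_injOn (fun a ha b hb e => h.w_inj hi
        (Finset.mem_range.1 (Finset.mem_filter.1 ha).1) (Finset.mem_range.1 (Finset.mem_filter.1 hb).1) e),
      Finset.card_erase_of_mem hmem] at h1
    have h2 := Finset.card_pos.2 ⟨_, hmem⟩
    have hc' : (T l).card ≤ c := hc
    have hfix2 : tr P (l ++ [i]) v = v := by rw [tr_append h hl hw, hfix, tr_single h hi v hvi]
    intro o ho
    have h3 := ih (T (l ++ [i])).card (by simp only [T] at h1 h2 ⊢; omega) (l ++ [i]) hl2 le_rfl hfix2 o ho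
    rw [tr_append h hl hw] at h3
    have h4 := hO ⟨i, hi⟩ hvi _ h3
    rwa [tr_tr_single h hi] at h4

/-- With small spanning orbits for every node, no Weyl element with an eigenvalue of order twelve fixes a functional. -/
theorem no_fixed {dat : ℕ → List (List (List ℤ)) × List (List ℤ) × ℕ × List (List ℤ)}
    (hdat : ((List.range P.rank).all fun i => ckOrbits P i (dat i)) = true) {r : ℕ} [Fact r.Prime]
    (hd : ∀ i < P.rank, ¬ r ∣ (dat i).2.2.1) {a : ZMod r} (ha : IsPrimitiveRoot a 12)
    {l : List ℕ} (hl : WordOk P l) {e : Fin P.rank → ZMod r} (he0 : e ≠ 0) (he : tr P l e = a • e)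
    {v : Fin P.rank → ℤ} (hv : v ≠ 0) : tr P l v ≠ v := by
  classical
  intro hfix
  obtain ⟨v, e, l, hl, hv, hpos, hfix, he0, he⟩ := exists_dominant h _ v e l hl hv le_rfl hfix he0 he
  obtain ⟨i, hi⟩ : ∃ i, v i ≠ 0 := Function.ne_iff.1 hv
  have hck := List.all_eq_true.1 hdat i (List.mem_range.2 i.isLt)
  have hd' := hd i i.isLt
  generalize dat i = D0 at hck hd'
  obtain ⟨os, B, d, iv⟩ := D0
  simp only [ckOrbits, Bool.and_eq_true, List.all_eq_true, List.any_eq_true, Nat.ble_eq, Nat.blt_eq, Bool.or_eq_true,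
    List.contains_iff_mem, List.mem_range, decide_eq_true_eq] at hck
  obtain ⟨⟨⟨⟨hos, hBmem⟩, -⟩, hBlen⟩, hinv⟩ := hck
  have hBlen' : B.length = P.rank := Nat.eq_of_beq_eq_true hBlen
  set M := WM P l
  obtain ⟨k0, hk0, hMo⟩ := exists_order h hl
  have hMinj : ∀ k : ℕ, Function.Injective (M ^ k).mulVec := fun k x y e => by
    have := congrArg (M ^ (k0 * k - k)).mulVec e
    rwa [Matrix.mulVec_mulVec, Matrix.mulVec_mulVec, ← pow_add, Nat.sub_add_cancel (Nat.le_mul_of_pos_left k hk0),
      pow_mul, hMo, one_pow, Matrix.one_mulVec, Matrix.one_mulVec] at this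
  -- every member of an orbit has a short period
  have hper : ∀ o ∈ os, ∀ x ∈ o, ∃ j, 0 < j ∧ j ≤ 11 ∧ (M ^ j).mulVec (vecL P x) = vecL P x := by
    intro o ho x hx
    set O : Set (Fin P.rank → ℤ) := {w | ∃ y ∈ o, vecL P y = w}
    have hstab : ∀ w ∈ O, M.mulVec w ∈ O := by
      have key := stab_dominant h hpos (O := O) (fun j hj w hw => by
        obtain ⟨y, hy, rfl⟩ := hw
        rcases (hos o ho).2 y hy j j.isLt with hc | hc
        · exact absurd hj (by rw [show j = i from Fin.ext (Nat.eq_of_beq_eq_true hc)]; exact hi)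
        · exact ⟨_, hc, (tr_sfun h j.isLt y).symm⟩) _ l hl le_rfl hfix
      intro w hw
      have := key w hw
      rwa [tr, show (WM P l).map (Int.castRingHom ℤ) = M from by ext; simp [M, Matrix.map_apply]] at this
    have hpow : ∀ j : ℕ, ∃ y : Fin o.length, vecL P (o.get y) = (M ^ j).mulVec (vecL P x) := by
      have : ∀ j : ℕ, (M ^ j).mulVec (vecL P x) ∈ O := by
        intro j
        induction j with
        | zero => exact ⟨x, hx, by rw [pow_zero, Matrix.one_mulVec]⟩
        | succ j ih => rw [pow_succ', ← Matrix.mulVec_mulVec]; exact hstab _ ih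
      intro j
      obtain ⟨y, hy, e1⟩ := this j
      obtain ⟨n, hn⟩ := List.mem_iff_get.1 hy
      exact ⟨n, by rw [hn, e1]⟩
    choose F hF using hpow
    obtain ⟨j1, j2, hne, hFe⟩ := Fintype.exists_ne_map_eq_of_card_lt (fun j : Fin (o.length + 1) => F j)
      (by simp)
    have hle := (hos o ho).1
    have main : ∀ j1 j2 : ℕ, j1 < j2 → F j1 = F j2 → (M ^ (j2 - j1)).mulVec (vecL P x) = vecL P x := by
      intro j1 j2 hlt hFe
      refine hMinj j1 ?_
      rw [Matrix.mulVec_mulVec, ← pow_add, Nat.add_sub_cancel' hlt.le, ← hF, ← hF, hFe]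
    rcases Nat.lt_or_gt_of_ne (Fin.val_ne_of_ne hne) with hlt | hlt
    · exact ⟨j2 - j1, by omega, by have := j2.isLt; omega, main _ _ hlt hFe⟩
    · exact ⟨j1 - j2, by omega, by have := j1.isLt; omega, main _ _ hlt hFe.symm⟩
  -- so a product of short periods kills the matrix
  set G : ℤ[X] := ∏ j ∈ Finset.Icc 1 11, (Polynomial.X ^ j - 1) with hG
  have hkill : ∀ b ∈ B, (aeval M G).mulVec (vecL P b) = 0 := by
    intro b hb
    obtain ⟨o, ho, hbo⟩ := hBmem b hb
    obtain ⟨j, hj0, hj, hj2⟩ := hper o ho b hbo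
    rw [hG, ← Finset.prod_erase_mul _ _ (Finset.mem_Icc.2 ⟨hj0, hj⟩ : j ∈ Finset.Icc 1 11), map_mul,
      ← Matrix.mulVec_mulVec, map_sub, map_pow, aeval_X, map_one, Matrix.sub_mulVec, Matrix.one_mulVec, hj2,
      sub_self, Matrix.mulVec_zero]
  have hG0 : (d : ℤ) • aeval M G = 0 := by
    ext k j
    have e1 : ∀ b : Fin P.rank, ∑ j' : Fin P.rank, aeval M G k j' * (B.getD b []).getD j' 0 = 0 := fun b => by
      have hb : B.getD b [] ∈ B := by
        rw [List.getD_eq_getElem _ _ (by omega)]
        exact List.getElem_mem _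
      exact congrFun (hkill _ hb) k
    have e2 : ∀ j' : Fin P.rank, (if (j : ℕ) = j' then (d : ℤ) else 0) =
        ∑ b : Fin P.rank, (iv.getD j []).getD b 0 * (B.getD b []).getD j' 0 := fun j' => by
      rw [← hinv j j.isLt j' j'.isLt, sum_range_list_int]
    rw [Matrix.smul_apply, Matrix.zero_apply, smul_eq_mul]
    calc (d : ℤ) * aeval M G k j
        = ∑ j' : Fin P.rank, aeval M G k j' * (if (j : ℕ) = j' then (d : ℤ) else 0) := by
          simp [Fin.val_inj, mul_comm]
      _ = ∑ b : Fin P.rank, (iv.getD j []).getD b 0 *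
            ∑ j' : Fin P.rank, aeval M G k j' * (B.getD b []).getD j' 0 := by
          simp only [e2, Finset.mul_sum]
          rw [Finset.sum_comm]
          exact Finset.sum_congr rfl fun b _ => Finset.sum_congr rfl fun j' _ => by ring
      _ = 0 := Finset.sum_eq_zero fun b _ => by rw [e1 b, mul_zero]
  have h2 : aeval M G = 0 := by
    refine (smul_eq_zero.1 hG0).resolve_left fun e0 => hd' ?_
    rw [show d = 0 by exact_mod_cast e0]
    exact dvd_zero r
  have h3 := aeval_mulVec M he G
  rw [h2, Matrix.map_zero _ (map_zero _), Matrix.zero_mulVec, eq_comm, smul_eq_zero] at h3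
  have h4 := h3.resolve_right he0
  rw [hG, Polynomial.map_prod, eval_prod, Finset.prod_eq_zero_iff] at h4
  obtain ⟨j, hj, h5⟩ := h4
  simp only [Polynomial.map_sub, Polynomial.map_pow, map_X, Polynomial.map_one, eval_sub, eval_pow, eval_X, eval_one,
    sub_eq_zero] at h5
  have h6 := Nat.le_of_dvd (Finset.mem_Icc.1 hj).1 (ha.dvd_of_pow_eq_one j h5)
  have := (Finset.mem_Icc.1 hj).2
  omega
where
  sum_range_list_int {n : ℕ} {f : ℕ → ℤ} : ((List.range n).map f).sum = ∑ i : Fin n, f i :=
    CT.sum_range_list n f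

omit h in
theorem eq_dvd_twelve {e : ℕ} (he : 0 < e) (hφ : e.totient ≤ 2) : e ∣ 12 := by
  refine (Nat.dvd_iff_prime_pow_dvd_dvd 12 e).2 fun p k hp hpk => ?_
  rcases Nat.eq_zero_or_pos k with rfl | hk
  · simp
  have h1 : (p ^ k).totient ≤ 2 := le_trans (Nat.le_of_dvd (Nat.totient_pos.2 he) (Nat.totient_dvd_of_dvd hpk)) hφ
  rw [Nat.totient_prime_pow hp hk] at h1
  have hp2 := hp.two_le
  have hpow : 1 ≤ p ^ (k - 1) := Nat.one_le_pow _ _ (by omega)
  have hp3 : p ≤ 3 := by
    have := Nat.le_mul_of_pos_left (p - 1) (show 0 < p ^ (k - 1) by omega)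
    omega
  have hk2 : k ≤ 2 := by
    by_contra hk3
    have : p ^ 2 ≤ p ^ (k - 1) := Nat.pow_le_pow_right (by omega) (by omega)
    have : 4 ≤ p ^ 2 := Nat.pow_le_pow_left hp2 2
    have h4 : p ^ (k - 1) * 1 ≤ p ^ (k - 1) * (p - 1) := Nat.mul_le_mul_left _ (by omega)
    omega
  interval_cases p <;> interval_cases k <;> revert h1 <;> norm_num

omit h in
theorem cyclotomic_twelve : cyclotomic 12 ℤ = Polynomial.X ^ 4 - Polynomial.X ^ 2 + 1 := by
  have e := cyclotomic_expand_eq_cyclotomic (p := 2) (n := 6) Nat.prime_two (by norm_num) ℤ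
  rw [show 12 = 6 * 2 by norm_num, ← e, cyclotomic_six]
  simp only [map_add, map_sub, map_pow, expand_X, map_one]
  ring

end Cfsg.Agent.Chev.CyclTorus
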