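/-
The characteristic polynomial of a Weyl element of E6 with an eigenvalue of order twelve.
-/
import Cfsg.Agent.Lib.Chev.CyclTorus.Orbits
import Cfsg.Agent.Lib.Chev.Smith

set_option autoImplicit false
set_option maxHeartbeats 800000

namespace Cfsg.Agent.Chev.CyclTorus

open Cfsg.Lie Cfsg.Agent.Chev

/-- Spanning orbits for the six nodes. -/
def oData : List (List (List (List ℤ)) × List (List ℤ) × ℕ × List (List ℤ)) :=
  [([[[-1, 0, 0, 0, 0, 0]], [[0, 0, 0, 0, 0, -1], [0, 0, 0, 0, -1, 1], [0, 0, 0, -1, 1, 0], [0, -1, -1, 1, 0, 0], [0, 1, -1, 0, 0, 0], [-1, -1, 1, 0, 0, 0], [-1, 1, 1, -1, 0, 0], [-1, 0, 0, 1, -1, 0], [-1, 0, 0, 0, 1, -1], [-1, 0, 0, 0, 0, 1]]], [[-1, 0, 0, 0, 0, 0], [0, 0, 0, 0, 0, -1], [0, 0, 0, 0, -1, 1], [0, 0, 0, -1, 1, 0], [0, -1, -1, 1, 0, 0], [0, 1, -1, 0, 0, 0]], 2, [[-2, 0, 0, 0, 0, 0], [0, -1, -1, -1, -1, 1], [0, -1, -1, -1, -1, -1], [0, -2, -2, -2, 0, 0], [0, -2, -2, 0,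 0, 0], [0, -2, 0, 0, 0, 0]]),
   ([[[0, -1, 0, 0, 0, 0]], [[-1, 0, 0, 0, 0, 0], [1, 0, -1, 0, 0, 0], [0, 0, 1, -1, 0, 0], [0, -1, 0, 1, -1, 0], [0, -1, 0, 0, 1, -1], [0, -1, 0, 0, 0, 1]]], [[0, -1, 0, 0, 0, 0], [-1, 0, 0, 0, 0, 0], [1, 0, -1, 0, 0, 0], [0, 0, 1, -1, 0, 0], [0, -1, 0, 1, -1, 0], [0, -1, 0, 0, 1, -1]], 1, [[0, -1, 0, 0, 0, 0], [-1, 0, 0, 0, 0, 0], [0, -1, -1, 0, 0, 0], [0, -1, -1, -1, 0, 0], [1, -1, -1, -1, -1, 0], [2, -1, -1, -1, -1, -1]]),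
   ([[[0, 0, -1, 0, 0, 0]], [[-1, 0, 0, 0, 0, 0], [1, 0, -1, 0, 0, 0]], [[0, -1, 0, 0, 0, 0], [0, 1, 0, -1, 0, 0], [0, 0, -1, 1, -1, 0], [0, 0, -1, 0, 1, -1], [0, 0, -1, 0, 0, 1]]], [[0, 0, -1, 0, 0, 0], [-1, 0, 0, 0, 0, 0], [0, -1, 0, 0, 0, 0], [0, 1, 0, -1, 0, 0], [0, 0, -1, 1, -1, 0], [0, 0, -1, 0, 1, -1]], 1, [[0, -1, 0, 0, 0, 0], [0, 0, -1, 0, 0, 0], [-1, 0, 0, 0, 0, 0], [0, 0, -1, -1, 0, 0], [1, 0, -1, -1, -1, 0], [2, 0, -1, -1, -1, -1]]),
   ([[[0, 0, 0, -1, 0, 0]], [[0, -1, 0, 0, 0, 0], [0, 1, 0, -1, 0, 0]], [[-1, 0, 0, 0, 0, 0], [1, 0, -1, 0, 0, 0], [0, 0, 1, -1, 0, 0]], [[0, 0, 0, 0, -1, 0], [0, 0, 0, -1, 1, -1], [0, 0, 0, -1, 0, 1]]], [[0, 0, 0, -1, 0, 0], [0, -1, 0, 0, 0, 0], [-1, 0, 0, 0, 0, 0], [1, 0, -1, 0, 0, 0], [0, 0, 0, 0, -1, 0], [0, 0, 0, -1, 1, -1]], 1, [[0, 0, -1, 0, 0, 0], [0, -1, 0, 0, 0, 0], [0, 0, -1, -1, 0, 0], [-1, 0, 0, 0, 0, 0], [0, 0, 0, 0, -1, 0], [1, 0, 0, 0, -1, -1]]),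
   ([[[0, 0, 0, 0, -1, 0]], [[0, 0, 0, 0, 0, -1], [0, 0, 0, 0, -1, 1]], [[-1, 0, 0, 0, 0, 0], [1, 0, -1, 0, 0, 0], [0, 0, 1, -1, 0, 0], [0, -1, 0, 1, -1, 0], [0, 1, 0, 0, -1, 0]]], [[0, 0, 0, 0, -1, 0], [0, 0, 0, 0, 0, -1], [-1, 0, 0, 0, 0, 0], [1, 0, -1, 0, 0, 0], [0, 0, 1, -1, 0, 0], [0, -1, 0, 1, -1, 0]], 1, [[0, 0, -1, 0, 0, 0], [1, 0, -1, -1, -1, -1], [0, 0, -1, -1, 0, 0], [0, 0, -1, -1, -1, 0], [-1, 0, 0, 0, 0, 0], [0, -1, 0, 0, 0, 0]]),
   ([[[0, 0, 0, 0, 0, -1]], [[-1, 0, 0, 0, 0, 0], [1, 0, -1, 0, 0, 0], [0, 0, 1, -1, 0, 0], [0, -1, 0, 1, -1, 0], [0, 1, 0, 0, -1, 0], [0, -1, 0, 0, 1, -1], [0, 1, 0, -1, 1, -1], [0, 0, -1, 1, 0, -1], [-1, 0, 1, 0, 0, -1], [1, 0, 0, 0, 0, -1]]], [[0, 0, 0, 0, 0, -1], [-1, 0, 0, 0, 0, 0], [1, 0, -1, 0, 0, 0], [0, 0, 1, -1, 0, 0], [0, -1, 0, 1, -1, 0], [0, 1, 0, 0, -1, 0]], 2, [[0, -2, 0, 0, 0, 0], [0, -1, -1, -1, -1, 1], [0, -2, -2, 0, 0, 0], [0, -2, -2, -2, 0,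 0], [0, -1, -1, -1, -1, -1], [-2, 0, 0, 0, 0, 0]])]

theorem ckOrbits_E6 : ((List.range E6.pk.rank).all fun i => ckOrbits E6.pk i (oData.getD i ([], [], 0, []))) = true := by
  decide +kernel

theorem oData_d : ((List.range E6.pk.rank).all fun i => Nat.ble (oData.getD i ([], [], 0, [])).2.2.1 2 &&
    Nat.blt 0 (oData.getD i ([], [], 0, [])).2.2.1) = true := by decide +kernel

/-- A row vector fixed modulo three. -/
def rad3 : Fin E6.pk.rank → ZMod 3 := fun k => ([1, 0, 2, 0, 1, 2].getD k 0 : ℕ)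

theorem rad3_ok : ∀ j : Fin E6.pk.rank, ∑ k : Fin E6.pk.rank, rad3 k * (E6.pk.A j (E6.pk.sim k) : ZMod 3) = 0 := by
  decide +kernel

theorem rad3_fixed : ∀ {l : List ℕ}, WordOk E6.pk l →
    Matrix.vecMul rad3 ((WM E6.pk l).map (Int.castRingHom (ZMod 3))) = rad3
  | [], _ => by rw [WM_nil E6.ok, Matrix.map_one _ (map_zero _) (map_one _), Matrix.vecMul_one]
  | i :: l, hl => by
    have hi : i < E6.pk.rank := hl i (List.mem_cons_self ..)
    have hw : WordOk E6.pk [i] := by simpa [WordOk] using hi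
    have hl' : WordOk E6.pk l := fun x hx => hl x (List.mem_cons_of_mem _ hx)
    rw [show i :: l = [i] ++ l from rfl, WM_append E6.ok hw hl', Matrix.map_mul, ← Matrix.vecMul_vecMul,
      rad3_fixed hl']
    funext a
    simp only [Matrix.vecMul, dotProduct, Matrix.map_apply, WM_single E6.ok hi, eq_intCast, Int.cast_sub, Int.cast_ite,
      Int.cast_one, Int.cast_zero, mul_sub, Finset.sum_sub_distrib, mul_ite, mul_one, mul_zero, Finset.sum_ite_eq',
      Finset.mem_univ, if_true]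
    by_cases ha : (a : ℕ) = i
    · simp only [if_pos ha]
      have := rad3_ok a
      rw [ha] at this
      rw [this, sub_zero]
    · simp [ha]

open Polynomial in
/-- The characteristic polynomial is the product of the twelfth and the third cyclotomic polynomials. -/
theorem key_E6 {r : ℕ} [Fact r.Prime] (hr : 12 < r) {a : ZMod r} (ha : IsPrimitiveRoot a 12) (l : List ℕ)
    (hl : WordOk E6.pk l) (e : Fin E6.pk.rank → ZMod r) (he0 : e ≠ 0) (he : tr E6.pk l e = a • e) :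
    (WM E6.pk l).charpoly = cyclotomic 12 ℤ * cyclotomic 3 ℤ := by
  classical
  set M := WM E6.pk l with hM
  obtain ⟨o, ho, hMo⟩ := exists_order E6.ok hl
  have hdeg : M.charpoly.natDegree = 6 := by
    rw [Matrix.charpoly_natDegree_eq_dim, Fintype.card_fin]
    rfl
  -- no fixed vector
  have h1 : M.charpoly.eval 1 ≠ 0 := by
    intro h0
    rw [Matrix.eval_charpoly] at h0
    obtain ⟨v, hv, hv0⟩ := Matrix.exists_mulVec_eq_zero_iff.2 h0
    refine no_fixed E6.ok (dat := fun i => oData.getD i ([], [], 0, [])) ckOrbits_E6 (fun i hi hd => ?_) ha hl he0 he hv ?_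
    · have h2 := List.all_eq_true.1 oData_d i (List.mem_range.2 hi)
      simp only [Bool.and_eq_true, Nat.ble_eq, Nat.blt_eq] at h2
      have := Nat.le_of_dvd h2.2 hd
      omega
    · rw [map_one, Matrix.sub_mulVec, Matrix.one_mulVec, sub_eq_zero] at hv0
      rw [tr, show (WM E6.pk l).map (Int.castRingHom ℤ) = M by ext; simp [M, Matrix.map_apply]]
      exact hv0.symm
  -- divisible by three at one
  have h3 : (3 : ℤ) ∣ M.charpoly.eval 1 := by
    rw [Matrix.eval_charpoly, map_one, show (3 : ℤ) = ((3 : ℕ) : ℤ) by rfl, ← ZMod.intCast_zmod_eq_zero_iff_dvd,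
      ← eq_intCast (Int.castRingHom (ZMod 3)), RingHom.map_det]
    haveI : Fact (Nat.Prime 3) := ⟨Nat.prime_three⟩
    refine Matrix.exists_vecMul_eq_zero_iff.1 ⟨rad3, by decide +kernel, ?_⟩
    rw [map_sub, map_one, RingHom.mapMatrix_apply, Matrix.vecMul_sub, Matrix.vecMul_one, hM, rad3_fixed hl, sub_self]
  -- the factor of degree four
  have h12 : cyclotomic 12 ℤ ∣ M.charpoly := by
    have h0 := aeval_mulVec M he (∏ d ∈ cycS M o, cyclotomic d ℤ)
    rw [prod_cyclo ho hMo, Matrix.map_zero _ (map_zero _), Matrix.zero_mulVec, eq_comm, smul_eq_zero,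
      Polynomial.map_prod, eval_prod, Finset.prod_eq_zero_iff] at h0
    obtain ⟨d, hd, hda⟩ := h0.resolve_right he0
    obtain ⟨hdo, hdp⟩ := mem_cycS.1 hd
    rw [map_cyclotomic_int] at hda
    have hd0 := Nat.pos_of_mem_divisors hdo
    obtain ⟨k, d', hd', rfl⟩ := Nat.exists_eq_pow_mul_and_not_dvd hd0.ne' r (Fact.out : r.Prime).ne_one
    haveI : NeZero (d' : ZMod r) := ⟨fun e => hd' ((ZMod.natCast_eq_zero_iff _ _).1 e)⟩
    have hprim := isRoot_cyclotomic_prime_pow_mul_iff_of_charP.1 hda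
    obtain rfl : d' = 12 := hprim.unique ha
    have hle : (r ^ k * 12).totient ≤ 6 := by
      have := natDegree_le_of_dvd hdp M.charpoly_monic.ne_zero
      rwa [natDegree_cyclotomic, hdeg] at this
    have hk : k = 0 := by
      by_contra hk
      rw [Nat.totient_mul ((Nat.Coprime.pow_left k) ((Fact.out : r.Prime).coprime_iff_not_dvd.2 hd')),
        Nat.totient_prime_pow Fact.out (Nat.pos_of_ne_zero hk), show Nat.totient 12 = 4 by decide] at hle
      have h2 := Nat.le_mul_of_pos_left (r - 1) (show 0 < r ^ (k - 1) from pow_pos (by omega) _)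
      omega
    subst hk
    simpa using hdp
  have hdet : IsUnit M.det := by
    refine IsUnit.of_pow_eq_one ?_ ho.ne'
    rw [← Matrix.det_pow, hMo, Matrix.det_one]
  -- another cyclotomic factor
  obtain ⟨d, hd, hd12⟩ : ∃ d ∈ cycS M o, d ≠ 12 := by
    by_contra hno
    push Not at hno
    have h0 : aeval M (cyclotomic 12 ℤ) = 0 := by
      have h2 := prod_cyclo ho hMo
      rcases Finset.subset_singleton_iff.1 (fun d hd => Finset.mem_singleton.2 (hno d hd) : cycS M o ⊆ {12}) with e | e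
      · rw [e, Finset.prod_empty, map_one] at h2
        exact eq_of_zero_eq_one h2.symm _ _
      · rwa [e, Finset.prod_singleton] at h2
    rw [cyclotomic_twelve, map_add, map_sub, map_pow, map_pow, aeval_X, map_one] at h0
    have h2 : (1 - M) * (M ^ 3 + M ^ 2) = 1 := by
      have e : (1 - M) * (M ^ 3 + M ^ 2) = 1 - (M ^ 4 - M ^ 2 + 1) := by noncomm_ring
      rw [e, h0, sub_zero]
    have h4 : IsUnit (M.charpoly.eval 1) := by
      rw [Matrix.eval_charpoly, map_one]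
      exact .of_mul_eq_one (M ^ 3 + M ^ 2).det (by rw [← Matrix.det_mul, h2, Matrix.det_one])
    rcases Int.isUnit_iff.1 h4 with e | e <;> rw [e] at h3 <;> norm_num at h3
  obtain ⟨hdo, hdp⟩ := mem_cycS.1 hd
  have hdvd : cyclotomic 12 ℤ * cyclotomic d ℤ ∣ M.charpoly := by
    refine (map_dvd_map (Int.castRingHom ℚ) Int.cast_injective ((cyclotomic.monic 12 ℤ).mul (cyclotomic.monic d ℤ))).1 ?_
    rw [Polynomial.map_mul]
    refine IsCoprime.mul_dvd ?_ (Polynomial.map_dvd _ h12) (Polynomial.map_dvd _ hdp)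
    rw [map_cyclotomic_int, map_cyclotomic_int]
    exact cyclotomic.isCoprime_rat (Ne.symm hd12)
  have hdeg2 : 4 + d.totient ≤ 6 := by
    have := natDegree_le_of_dvd hdvd M.charpoly_monic.ne_zero
    rwa [natDegree_mul (cyclotomic_ne_zero _ _) (cyclotomic_ne_zero _ _), natDegree_cyclotomic, natDegree_cyclotomic,
      hdeg, show Nat.totient 12 = 4 by decide] at this
  have hd0 := Nat.pos_of_mem_divisors hdo
  have hd' := Nat.le_of_dvd (by norm_num) (eq_dvd_twelve hd0 (by omega))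
  obtain ⟨Q, hQ⟩ := hdvd
  have hev : M.charpoly.eval 1 = (cyclotomic d ℤ).eval 1 * Q.eval 1 := by
    rw [hQ, eval_mul, eval_mul, cyclotomic_twelve]
    simp
  have hQm : Q.Monic := ((cyclotomic.monic 12 ℤ).mul (cyclotomic.monic d ℤ)).of_mul_monic_left (hQ ▸ M.charpoly_monic)
  have hQd : 4 + d.totient + Q.natDegree = 6 := by
    rw [← hdeg, hQ, natDegree_mul (mul_ne_zero (cyclotomic_ne_zero _ _) (cyclotomic_ne_zero _ _)) hQm.ne_zero,
      natDegree_mul (cyclotomic_ne_zero _ _) (cyclotomic_ne_zero _ _), natDegree_cyclotomic, natDegree_cyclotomic,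
      show Nat.totient 12 = 4 by decide]
  have hQ1 : d.totient = 2 → Q = 1 := fun e => hQm.natDegree_eq_zero.1 (by omega)
  have hv := eq_dvd_twelve hd0 (by omega)
  interval_cases d
  all_goals try (exfalso; norm_num at hv; done)
  · rw [hev, cyclotomic_one] at h1
    simp at h1
  · exfalso
    have hQ0 : Q = Polynomial.X + Polynomial.C (Q.coeff 0) := hQm.eq_X_add_C (by simpa using (show Q.natDegree = 1 by
      have : Nat.totient 2 = 1 := by decide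
      omega))
    have hc : M.charpoly.coeff 0 = Q.coeff 0 := by
      rw [hQ, mul_coeff_zero, mul_coeff_zero, cyclotomic_coeff_zero ℤ (by norm_num : 1 < 12),
        cyclotomic_coeff_zero ℤ (by norm_num : 1 < 2), one_mul, one_mul]
    rw [Matrix.det_eq_sign_charpoly_coeff, hc, IsUnit.mul_iff] at hdet
    rw [hev, cyclotomic_two, hQ0] at h1 h3
    simp only [eval_add, eval_X, eval_one, eval_C] at h1 h3
    rcases Int.isUnit_iff.1 hdet.2 with e | e <;> rw [e] at h1 h3 <;> first | (norm_num at h1; done) | (norm_num at h3; done)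
  · rw [hQ, hQ1 (by decide), mul_one]
  · exfalso
    rw [hev, hQ1 (by decide)] at h3
    have e : (cyclotomic 4 ℤ).eval 1 = 2 := by
      haveI : Fact (Nat.Prime 2) := ⟨Nat.prime_two⟩
      rw [show (4 : ℕ) = 2 ^ (1 + 1) by norm_num, cyclotomic_prime_pow_eq_geom_sum Nat.prime_two]
      simp [Finset.sum_range_succ]
    rw [e] at h3
    norm_num at h3
  · exfalso
    rw [hev, hQ1 (by decide), cyclotomic_six] at h3
    norm_num at h3
  all_goals exact absurd rfl hd12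

end Cfsg.Agent.Chev.CyclTorus
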