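/-
The subsystem of type E6 in E7, and the map of Steinberg's group of type E6 into the Chevalley group of type E7.
-/
import Cfsg.Agent.Lib.Chev.CyclTorus.Parts
import Cfsg.Agent.Lib.Chev.CyclTorus.Orbits
import Cfsg.Agent.Lib.CurtisTits.MinCheckE6
import Cfsg.Agent.Lib.CurtisTits.MinCheckE7

set_option autoImplicit false
set_option linter.unusedSectionVars false
set_option maxHeartbeats 800000

namespace Cfsg.Agent.Chev.CyclTorus

open Cfsg.Lie Cfsg.Agent.Chev Cfsg.Agent.Chev.CT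

/-- The roots of E6 in E7. -/
def embL : List ℕ := [6, 10, 13, 15, 16, 19, 21, 22, 24, 25, 26, 28, 29, 30, 31, 32, 35, 37, 38, 40, 41, 42, 44, 45, 46, 47, 49, 50, 51, 52, 54, 55, 56, 58, 59, 61, 64, 66, 67, 69, 70, 71, 73, 74, 75, 76, 78, 79, 80, 81, 83, 84, 85, 87, 88, 90, 93, 94, 95, 96, 97, 99, 100, 101, 103, 104, 106, 109, 110, 112, 115, 119]

/-- The inclusion of the roots. -/
def emb (r : ℕ) : ℕ := embL.getD r 0

/-- The inclusion respects everything. -/
def ckEmb : Bool :=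
  E6.pk.allRoots.all fun r => Nat.blt (emb r) E7.pk.nroots && Nat.beq (emb (E6.pk.ng r)) (E7.pk.ng (emb r)) &&
    ((List.range E6.pk.rank).all fun i => decide (E7.pk.rv (emb r) i = E6.pk.rv r i) &&
      decide (E7.pk.A i (emb r) = E6.pk.A i r) && Nat.beq (emb (E6.pk.w i r)) (E7.pk.w i (emb r))) &&
    decide (E7.pk.rv (emb r) 6 = 0) &&
    E6.pk.allRoots.all fun s => Nat.beq s r || Nat.beq s (E6.pk.ng r) ||
      decide ((E6.pk.cterms r s).map (fun c => (emb c.1, c.2)) = E7.pk.cterms (emb r) (emb s))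

theorem ckEmb_ok : ckEmb = true := by decide +kernel

theorem ckEmbSim : ((List.range E6.pk.rank).all fun i => Nat.beq (emb (E6.pk.sim i)) (E7.pk.sim i)) = true := by
  decide +kernel

theorem emb_spec {r : ℕ} (hr : r < E6.pk.nroots) :
    emb r < E7.pk.nroots ∧ emb (E6.pk.ng r) = E7.pk.ng (emb r) ∧
      (∀ i < E6.pk.rank, E7.pk.rv (emb r) i = E6.pk.rv r i ∧ E7.pk.A i (emb r) = E6.pk.A i r ∧
        emb (E6.pk.w i r) = E7.pk.w i (emb r)) ∧ E7.pk.rv (emb r) 6 = 0 := by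
  have h1 := List.all_eq_true.1 ckEmb_ok r (E6.pk.mem_allRoots.2 hr)
  simp only [Bool.and_eq_true, Nat.blt_eq, List.all_eq_true, List.mem_range, decide_eq_true_eq] at h1
  obtain ⟨⟨⟨⟨a, b⟩, c⟩, d⟩, -⟩ := h1
  exact ⟨a, Nat.eq_of_beq_eq_true b, fun i hi => ⟨(c i hi).1.1, (c i hi).1.2, Nat.eq_of_beq_eq_true (c i hi).2⟩, d⟩

theorem emb_comm {r s : ℕ} (hr : r < E6.pk.nroots) (hs : s < E6.pk.nroots) (h1 : s ≠ r) (h2 : s ≠ E6.pk.ng r) :
    (E6.pk.cterms r s).map (fun c => (emb c.1, c.2)) = E7.pk.cterms (emb r) (emb s) := by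
  have e1 := List.all_eq_true.1 ckEmb_ok r (E6.pk.mem_allRoots.2 hr)
  simp only [Bool.and_eq_true, List.all_eq_true, Bool.or_eq_true, decide_eq_true_eq] at e1
  rcases e1.2 s (E6.pk.mem_allRoots.2 hs) with (e | e) | e
  · exact absurd (Nat.eq_of_beq_eq_true e) h1
  · exact absurd (Nat.eq_of_beq_eq_true e) h2
  · exact e

theorem emb_sim {i : ℕ} (hi : i < E6.pk.rank) : emb (E6.pk.sim i) = E7.pk.sim i :=
  Nat.eq_of_beq_eq_true (List.all_eq_true.1 ckEmbSim i (List.mem_range.2 hi))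

theorem word67 {l : List ℕ} (hl : WordOk E6.pk l) : WordOk E7.pk l := fun i hi =>
  lt_of_lt_of_le (hl i hi) (by decide)

theorem emb_wl : ∀ {l : List ℕ}, WordOk E6.pk l → ∀ r < E6.pk.nroots, wl E7.pk l (emb r) = emb (wl E6.pk l r)
  | [], _, _, _ => rfl
  | i :: l, hl, r, hr => by
    have hl' : WordOk E6.pk l := fun x hx => hl x (List.mem_cons_of_mem _ hx)
    have hi : i < E6.pk.rank := hl i (List.mem_cons_self ..)
    simp only [wl]
    rw [emb_wl hl' r hr, ← ((emb_spec (E6.ok.wl_lt l hl' r hr)).2.2.1 i hi).2.2]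

/-- The data of E6. -/
theorem full6 : Full chevE6 E6.pk := ⟨E6.ok, ckComm_E6, UpE6.up_ok, UpE6.eta_sim⟩

/-- The data of E7. -/
theorem full7 : Full chevE7 E7.pk := ⟨E7.ok, ckComm_E7, UpE7.up_ok, UpE7.eta_sim⟩

variable {L : Type*} [Field L] [Finite L]

/-- The map into E7. -/
theorem exists_emb : ∃ φ : chevE6.SteinbergGroup L →* GL chevE7.Idx L,
    ∀ r < E6.pk.nroots, ∀ t, φ (chevE6.stGen L r t) = E7.ok.xG (emb r) t := by
  have h := full6
  set y : ℕ → L → GL chevE7.Idx L := fun r t => E7.ok.xG (emb r) t with hy'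
  have hx := (cov_St (K := L) full7).rel
  have hy : Rel E6.pk (okAll E6.pk) y := by
    refine ⟨fun r hr t u => E7.ok.xG_add _ t u, fun r s hc t u => ?_⟩
    obtain ⟨h2, hsr, hsn⟩ := cOk_iff.1 hc
    obtain ⟨hr, hs⟩ : r < E6.pk.nroots ∧ s < E6.pk.nroots := by simpa [okAll] using h2
    have hr7 := (emb_spec hr).1
    have hs7 := (emb_spec hs).1
    have hinj : ∀ a b, a < E6.pk.nroots → b < E6.pk.nroots → emb a = emb b → a = b := fun a b ha hb e =>
      E6.ok.rv_inj ha hb fun i hi => by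
        rw [← ((emb_spec ha).2.2.1 i hi).1, ← ((emb_spec hb).2.2.1 i hi).1, e]
    have e1 : emb s ≠ emb r := fun e => hsr (hinj _ _ hs hr e)
    have e2 : emb s ≠ E7.pk.ng (emb r) := fun e => hsn (hinj _ _ hs (Ok.ng_lt hr) (by rw [(emb_spec hr).2.1, e]))
    have e3 := congrArg (thSt L full7) (hx.comm (emb r) (emb s)
      (cOk_iff.2 ⟨by simp [okAll, hr7, hs7], e1, e2⟩) t u)
    simp only [map_mul, map_inv, thSt_gen full7 hr7, thSt_gen full7 hs7, rhsW, map_list_prod, List.map_map] at e3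
    simp only [hy', e3, rhsW]
    refine congrArg List.prod ?_
    rw [← emb_comm hr hs hsr hsn, List.map_map]
    refine List.map_congr_left fun c hc' => ?_
    simp only [Function.comp_apply]
    exact thSt_gen full7 (emb_spec (E6.ok.cterms_lt hr hs c hc')).1 _
  set f : FreeGroup (Fin chevE6.nroots × L) →* GL chevE7.Idx L := FreeGroup.lift fun p => y p.1 p.2
  have hf : ∀ r < E6.pk.nroots, ∀ t, f (chevE6.stX r t) = y r t := by
    intro r hr t
    have hr' : r < chevE6.nroots := h.okD.nroots ▸ hr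
    simp [f, ChevalleyDatum.stX, hr']
  have hrel : ∀ g ∈ chevE6.steinbergRelsAB L, f g = 1 := by
    intro g hg
    rcases hg with ⟨r, t, u, hr, rfl⟩ | ⟨r, s, t, u, hr, hs, hsr, hsn, rfl⟩ <;> rw [h.okD.nroots] at hr
    · rw [map_mul, map_mul, map_inv, mul_inv_eq_one, hf r hr, hf r hr, hf r hr]
      exact hy.add r (by simp [okAll, hr]) t u
    · rw [h.okD.nroots] at hs
      rw [h.okD.neg_eq hr] at hsn
      rw [map_mul, map_inv, mul_inv_eq_one, map_commWord h _ hr hs, map_mul, map_mul, map_mul, map_inv,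
        map_inv, hf r hr, hf s hs, hy.comm r s (cOk_iff.2 ⟨by simp [okAll, hr, hs], hsr, hsn⟩) t u]
      refine congrArg List.prod (List.map_congr_left fun c hc => ?_)
      exact (hf _ (h.okD.cterms_lt hr hs c hc) _).symm
  obtain ⟨e, he⟩ := exists_sc_iso (K := L) h
  refine ⟨(PresentedGroup.toGroup hrel).comp e.symm.toMonoidHom, fun r hr t => ?_⟩
  rw [MonoidHom.comp_apply, MulEquiv.coe_toMonoidHom, ← he, e.symm_apply_apply]
  exact hf r hr t

variable {φ : chevE6.SteinbergGroup L →* GL chevE7.Idx L}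
  (hφ : ∀ r < E6.pk.nroots, ∀ t, φ (chevE6.stGen L r t) = E7.ok.xG (emb r) t)
include hφ

theorem emb_nEl {i : ℕ} (hi : i < E6.pk.rank) (t : L) :
    φ (nEl E6.pk (chevE6.stGen L) (E6.pk.sim i) t) = E7.ok.nt (E7.pk.sim i) t := by
  have hs := E6.ok.sim_lt hi
  simp only [nEl, Ok.nt, map_mul, hφ _ hs, hφ _ (Ok.ng_lt hs), (emb_spec hs).2.1, emb_sim hi]

theorem emb_nWC : ∀ {l : List ℕ}, WordOk E6.pk l → φ (nWC E6.pk (chevE6.stGen L) l) = E7.ok.nW l
  | [], _ => by simp [nWC, Ok.nW]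
  | i :: l, hl => by
    have hl' : WordOk E6.pk l := fun x hx => hl x (List.mem_cons_of_mem _ hx)
    rw [show nWC E6.pk (chevE6.stGen L) (i :: l) = nS E6.pk (chevE6.stGen L) i * nWC E6.pk (chevE6.stGen L) l by
      simp [nWC], map_mul, emb_nWC hl', E7.ok.nW_cons, nS, emb_nEl hφ (hl i (List.mem_cons_self ..))]
    rfl

theorem emb_range (x : chevE6.SteinbergGroup L) : φ x ∈ chevE7.group L := by
  have e := (cov_St (K := L) full6).gen ((chevE7.group L).comap φ) fun r hr t => by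
    rw [Subgroup.mem_comap, hφ r hr]
    exact E7.ok.mem_group_of_xG _ _
  exact (e ▸ Subgroup.mem_top x :)

theorem emb_tor {x : chevE6.SteinbergGroup L} (hx : x ∈ torC E6.pk (chevE6.stGen L)) :
    φ x ∈ chevE7.diagonalSubgroup L := by
  induction hx using Subgroup.closure_induction with
  | mem x hx =>
    obtain ⟨i, t, hi, ht, rfl⟩ := hx
    have := E7.ok.ht_mem (F := L) (E7.ok.sim_lt (lt_of_lt_of_le hi (by decide))) ht
    rwa [hEl, map_mul, emb_nEl hφ hi, emb_nEl hφ hi]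
  | one => rw [map_one]; exact one_mem _
  | mul a b _ _ ha hb => rw [map_mul]; exact mul_mem ha hb
  | inv a _ ha => rw [map_inv]; exact inv_mem ha

theorem emb_map {σ : L →+* L} {τ : chevE6.SteinbergGroup L →* chevE6.SteinbergGroup L}
    (hτ : ∀ r < E6.pk.nroots, ∀ t, τ (chevE6.stGen L r t) = chevE6.stGen L r (σ t))
    (x : chevE6.SteinbergGroup L) : φ (τ x) = gmap chevE7 σ (φ x) := by
  have e := (cov_St (K := L) full6).gen (MonoidHom.eqLocus (φ.comp τ) ((gmap chevE7 σ).comp φ)) fun r hr t => by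
    show φ (τ _) = gmap chevE7 σ (φ _)
    rw [hτ r hr, hφ r hr, hφ r hr, E7.ok.gmap_xG σ (emb_spec hr).1]
  exact (e ▸ Subgroup.mem_top x :)

end Cfsg.Agent.Chev.CyclTorus
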