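/-
The three roots of E7 killed by a regular element of a twisted torus of E6.
-/
import Cfsg.Agent.Lib.Chev.CyclTorus.E7Emb

set_option autoImplicit false
set_option linter.unusedSectionVars false
set_option maxHeartbeats 800000

namespace Cfsg.Agent.Chev.CyclTorus

open Cfsg.Lie Cfsg.Agent.Chev

/-- The integer pairing of a root with a coroot. -/
def pr (a b : ℕ) : ℤ := ((List.range E7.pk.rank).map fun i => E7.pk.rv b i * E7.pk.A i a).sum

/-- The roots with last coordinate one. -/
def V1 : List ℕ := (List.range E7.pk.nroots).filter fun r => decide (E7.pk.rv r 6 = 1)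

/-- Orthogonality. -/
def orB (a b : ℕ) : Bool := !Nat.beq a b && decide (pr a b = 0)

theorem ckSym : (E7.pk.allRoots.all fun r => (List.range E7.pk.rank).all fun i =>
    decide (((List.range E7.pk.rank).map fun j => E7.pk.A j (E7.pk.sim i) * E7.pk.rv r j).sum = E7.pk.A i r)) = true := by
  decide +kernel

theorem ckSelf : (V1.all fun a => decide (pr a a = 2) &&
    (List.range 6).any fun i => decide (E7.pk.A i a ≠ 0)) = true := by decide +kernel

theorem ckPairs : (V1.all fun a => V1.all fun b => Nat.beq a b || decide (pr a b = 0) ||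
    embL.any fun g => (List.range E7.pk.rank).all fun i => decide (E7.pk.rv a i - E7.pk.rv b i = E7.pk.rv g i)) = true := by
  decide +kernel

theorem ckFour : (V1.all fun a => let N := V1.filter (orB a)
    N.all fun b => let M := N.filter (orB b)
      M.all fun c => M.all fun d => !orB c d) = true := by decide +kernel

theorem ckLvl : (E7.pk.allRoots.all fun r => embL.contains r || decide (E7.pk.rv r 6 = 1) ||
    decide (E7.pk.rv (E7.pk.ng r) 6 = 1)) = true := by decide +kernel

theorem ckEmbLen : embL.length = E6.pk.nroots := by decide +kernel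

theorem mem_embL {g : ℕ} (hg : g ∈ embL) : ∃ s < E6.pk.nroots, emb s = g := by
  obtain ⟨n, hn⟩ := List.mem_iff_get.1 hg
  refine ⟨n, ckEmbLen ▸ n.2, ?_⟩
  rw [emb, List.getD_eq_getElem _ _ n.2, ← hn, List.get_eq_getElem]

theorem root_cases {r : ℕ} (hr : r < E7.pk.nroots) :
    (∃ s < E6.pk.nroots, emb s = r) ∨ E7.pk.rv r 6 = 1 ∨ E7.pk.rv (E7.pk.ng r) 6 = 1 := by
  have h := List.all_eq_true.1 ckLvl r (E7.pk.mem_allRoots.2 hr)
  simp only [Bool.or_eq_true, List.contains_iff_mem, decide_eq_true_eq] at h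
  rcases h with (h | h) | h
  exacts [Or.inl (mem_embL h), Or.inr (Or.inl h), Or.inr (Or.inr h)]

theorem mem_V1 {r : ℕ} : r ∈ V1 ↔ r < E7.pk.nroots ∧ E7.pk.rv r 6 = 1 := by
  simp [V1]

theorem sym_eq {r i : ℕ} (hr : r < E7.pk.nroots) (hi : i < E7.pk.rank) :
    ∑ j : Fin E7.pk.rank, E7.pk.A j (E7.pk.sim i) * E7.pk.rv r j = E7.pk.A i r := by
  have h := List.all_eq_true.1 (List.all_eq_true.1 ckSym r (E7.pk.mem_allRoots.2 hr)) i (List.mem_range.2 hi)
  rw [← of_decide_eq_true h, CT.sum_range_list]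

theorem sum_seven (f : ℕ → ℤ) : ∑ j : Fin E7.pk.rank, f j = (∑ j : Fin E6.pk.rank, f j) + f 6 := by
  rw [Fin.sum_univ_eq_sum_range (fun j => f j), Fin.sum_univ_eq_sum_range (fun j => f j),
    show E7.pk.rank = E6.pk.rank + 1 by decide, Finset.sum_range_succ]
  rfl

/-- Root coordinates. -/
def rvz (R : Type*) [Ring R] (r : ℕ) : Fin E7.pk.rank → R := fun k => (E7.pk.rv r k : R)

/-- The value of coroot coordinates at a root. -/
def cC {R : Type*} [CommRing R] (x : Fin E7.pk.rank → R) (b : ℕ) : R :=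
  ∑ j : Fin E7.pk.rank, x j * (E7.pk.A j b : R)

theorem cC_dot {R : Type*} [CommRing R] (x : Fin E7.pk.rank → R) {b : ℕ} (hb : b < E7.pk.nroots) :
    cC x b = dot E7.pk (((Bm E7.pk).map (Int.castRingHom R)).mulVec x) b := by
  simp only [cC, dot, Matrix.mulVec, dotProduct, Finset.mul_sum]
  rw [Finset.sum_comm]
  refine Finset.sum_congr rfl fun j _ => ?_
  rw [E7.ok.A_eq_sum hb j.isLt, Int.cast_sum, Finset.mul_sum, ← Fin.sum_univ_eq_sum_range
    (fun k => x j * ((E7.pk.rv b k * E7.pk.A j (E7.pk.sim k) : ℤ) : R))]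
  refine Finset.sum_congr rfl fun k _ => ?_
  simp only [Matrix.map_apply, Bm, Matrix.of_apply, eq_intCast]
  push_cast
  ring

theorem cC_smul {R : Type*} [CommRing R] (a : R) (x : Fin E7.pk.rank → R) (b : ℕ) :
    cC (fun k => a * x k) b = a * cC x b := by
  simp only [cC, Finset.mul_sum, mul_assoc]

theorem cC_add {R : Type*} [CommRing R] (x y : Fin E7.pk.rank → R) (b : ℕ) :
    cC (x + y) b = cC x b + cC y b := by
  simp only [cC, Pi.add_apply, add_mul, Finset.sum_add_distrib]

theorem cC_rvz {R : Type*} [CommRing R] (a b : ℕ) : cC (rvz R a) b = (pr b a : R) := by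
  rw [pr, CT.sum_range_list, Int.cast_sum, cC]
  exact Finset.sum_congr rfl fun j _ => by rw [rvz, Int.cast_mul]

theorem cC_wl {R : Type*} [CommRing R] (hB : (Bm E7.pk).det ≠ 0) {l : List ℕ} (hl : WordOk E7.pk l)
    (x : Fin E7.pk.rank → R) {b : ℕ} (hb : b < E7.pk.nroots) :
    cC (((RM E7.pk l).map (Int.castRingHom R)).mulVec x) (wl E7.pk l b) = cC x b := by
  rw [cC_dot _ (E7.ok.wl_lt l hl b hb), cC_dot _ hb, dot_wl E7.ok hl _ hb, tr, Matrix.mulVec_mulVec,
    Matrix.mulVec_mulVec, ← Matrix.map_mul, ← Matrix.map_mul, ← Bm_RM E7.ok hl, mul_assoc,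
    RM_inverse E7.ok hB hl, mul_one]

theorem RM_rv {R : Type*} [CommRing R] : ∀ {l : List ℕ}, WordOk E7.pk l → ∀ r < E7.pk.nroots,
    ((RM E7.pk l).map (Int.castRingHom R)).mulVec (rvz R r) = rvz R (wl E7.pk l r)
  | [], _, r, _ => by simp [RM, wl, Matrix.map_one]
  | i :: l, hl, r, hr => by
    have hi : i < E7.pk.rank := hl i (List.mem_cons_self ..)
    have hl' : WordOk E7.pk l := fun x hx => hl x (List.mem_cons_of_mem _ hx)
    rw [show RM E7.pk (i :: l) = R1 E7.pk i * RM E7.pk l by simp [RM], Matrix.map_mul, ← Matrix.mulVec_mulVec,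
      RM_rv hl' r hr]
    have hs := E7.ok.wl_lt l hl' r hr
    set s := wl E7.pk l r
    funext a
    show _ = ((E7.pk.rv (E7.pk.w i s) a : ℤ) : R)
    rw [((E7.ok.w_spec hi hs).2.2.2.2.2.1 a a.isLt).1]
    have e := congrArg (fun z : ℤ => (z : R)) (sym_eq hs hi)
    simp only [Int.cast_sum, Int.cast_mul] at e
    simp only [Matrix.mulVec, dotProduct, Matrix.map_apply, R1, Matrix.of_apply, eq_intCast, Int.cast_sub,
      Int.cast_ite, Int.cast_one, Int.cast_zero, sub_mul, Finset.sum_sub_distrib, ite_mul, one_mul, zero_mul,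
      Finset.sum_ite_eq, Finset.mem_univ, if_true, rvz]
    by_cases ha : (a : ℕ) = i
    · simp only [if_pos ha, e]
    · simp [if_neg ha]

theorem RM_bottom : ∀ {l : List ℕ}, WordOk E6.pk l → ∀ (k j : Fin E7.pk.rank), (k : ℕ) = 6 →
    RM E7.pk l k j = if k = j then 1 else 0
  | [], _, k, j, _ => by simp [RM, Matrix.one_apply]
  | i :: l, hl, k, j, hk => by
    have hl' : WordOk E6.pk l := fun x hx => hl x (List.mem_cons_of_mem _ hx)
    have hi : i < 6 := hl i (List.mem_cons_self ..)
    rw [show RM E7.pk (i :: l) = R1 E7.pk i * RM E7.pk l by simp [RM], Matrix.mul_apply,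
      Finset.sum_eq_single k (fun b _ hb => by simp [R1, Ne.symm hb, show (k : ℕ) ≠ i by omega]) (by simp)]
    simp [R1, show (k : ℕ) ≠ i by omega, RM_bottom hl' k j hk]

theorem V1_stable {l : List ℕ} (hl : WordOk E6.pk l) {r : ℕ} (hr : r ∈ V1) : wl E7.pk l r ∈ V1 := by
  obtain ⟨hlt, h1⟩ := mem_V1.1 hr
  refine mem_V1.2 ⟨E7.ok.wl_lt l (word67 hl) r hlt, ?_⟩
  have e := congrFun (RM_rv (R := ℤ) (word67 hl) r hlt) ⟨6, by decide⟩
  simp only [rvz, Int.cast_id, Matrix.mulVec, dotProduct, Matrix.map_apply, RM_bottom hl ⟨6, by decide⟩ _ rfl] at e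
  simpa [ite_mul, h1] using e.symm

theorem V1_card : V1.toFinset.card = 27 := by decide +kernel

theorem kill {A r : ℕ} (hr : r.Prime) {z : ZMod A} (hz : (r : ZMod A) * z = 0) {n : ℤ}
    (hn : ¬ (r : ℤ) ∣ n) (h : (n : ZMod A) * z = 0) : z = 0 := by
  obtain ⟨u, v, huv⟩ := (Nat.prime_iff_prime_int.1 hr).coprime_iff_not_dvd.2 hn
  have e : ((u * (r : ℤ) + v * n : ℤ) : ZMod A) * z = 0 := by
    push_cast
    linear_combination (u : ZMod A) * hz + (v : ZMod A) * h
  rwa [huv, Int.cast_one, one_mul] at e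

attribute [local irreducible] V1 embL

/-- The three roots. -/
theorem exists_killed {A q r : ℕ} [Fact r.Prime] (hprim : IsPrimitiveRoot (q : ZMod r) 12)
    (hB : (Bm E7.pk).det ≠ 0) {l : List ℕ} (hl : WordOk E6.pk l)
    (hchp : (WM E6.pk l).charpoly = Polynomial.cyclotomic 12 ℤ * Polynomial.cyclotomic 3 ℤ)
    {x : Fin E7.pk.rank → ZMod A}
    (hx : ((RM E7.pk l).map (Int.castRingHom (ZMod A))).mulVec (fun k => (q : ZMod A) * x k) = x)
    (hrx : ∀ k, (r : ZMod A) * x k = 0) (hreg : ∀ s < E6.pk.nroots, cC x (emb s) ≠ 0) :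
    ∃ a ∈ V1, wl E7.pk l a ∈ V1 ∧ wl E7.pk l (wl E7.pk l a) ∈ V1 ∧
      wl E7.pk l (wl E7.pk l (wl E7.pk l a)) = a ∧
      orB a (wl E7.pk l a) = true ∧ orB a (wl E7.pk l (wl E7.pk l a)) = true ∧
      orB (wl E7.pk l a) (wl E7.pk l (wl E7.pk l a)) = true ∧ cC x a = 0 ∧
      ∀ b ∈ V1, cC x b = 0 → b = a ∨ b = wl E7.pk l a ∨ b = wl E7.pk l (wl E7.pk l a) := by
  classical
  have hl7 := word67 hl
  set w := wl E7.pk l with hw
  set Kl := V1.toFinset.filter fun b => cC x b = 0 with hKl
  have hstep : ∀ b < E7.pk.nroots, cC x (w b) = (q : ZMod A) * cC x b := fun b hb => by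
    rw [← cC_smul, ← cC_wl hB hl7 (fun k => (q : ZMod A) * x k) hb, hx]
  have hV : ∀ b ∈ V1, b < E7.pk.nroots := fun b hb => (mem_V1.1 hb).1
  have hinj : Set.InjOn w (V1.toFinset : Set ℕ) := fun a ha b hb e => by
    rw [Finset.mem_coe, List.mem_toFinset] at ha hb
    have h1 := congrArg (wl E7.pk l.reverse) e
    rwa [hw, E7.ok.wl_reverse l hl7 a (hV a ha), E7.ok.wl_reverse l hl7 b (hV b hb)] at h1
  have hr := (Fact.out : r.Prime)
  have hzr : ∀ b, (r : ZMod A) * cC x b = 0 := fun b => by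
    rw [← cC_smul, show (fun k => (r : ZMod A) * x k) = fun _ => 0 from funext hrx]
    simp [cC]
  -- orthogonality
  have horth : ∀ a ∈ Kl, ∀ b ∈ Kl, a ≠ b → orB a b = true := by
    intro a ha b hb hab
    rw [hKl, Finset.mem_filter, List.mem_toFinset] at ha hb
    have h1 := List.all_eq_true.1 (List.all_eq_true.1 ckPairs a ha.1) b hb.1
    simp only [Bool.or_eq_true, decide_eq_true_eq, List.any_eq_true, List.all_eq_true, List.mem_range] at h1
    rcases h1 with (e | e) | ⟨g, hg, e⟩
    · exact absurd (Nat.eq_of_beq_eq_true e) hab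
    · simp [orB, e, nbeq, hab]
    · exfalso
      obtain ⟨s, hs, rfl⟩ := mem_embL hg
      refine hreg s hs ?_
      have key : ∀ c < E7.pk.nroots, cC x c =
          ∑ i : Fin E7.pk.rank, (E7.pk.rv c i : ZMod A) * (((Bm E7.pk).map (Int.castRingHom (ZMod A))).mulVec x) i :=
        fun c hc => cC_dot x hc
      have e2 := sub_eq_zero.2 (ha.2.trans hb.2.symm)
      rw [key _ (hV a ha.1), key _ (hV b hb.1), ← Finset.sum_sub_distrib] at e2
      rw [key _ (emb_spec hs).1, ← e2]
      refine Finset.sum_congr rfl fun i _ => ?_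
      rw [← e i i.isLt, Int.cast_sub, sub_mul]
  have hfour : Kl.card ≤ 3 := by
    by_contra hc
    obtain ⟨a, ha⟩ := Finset.card_pos.1 (by omega : 0 < Kl.card)
    obtain ⟨b, hb⟩ := Finset.card_pos.1 (by rw [Finset.card_erase_of_mem ha]; omega : 0 < (Kl.erase a).card)
    obtain ⟨c, hc'⟩ := Finset.card_pos.1 (by
      rw [Finset.card_erase_of_mem hb, Finset.card_erase_of_mem ha]; omega : 0 < ((Kl.erase a).erase b).card)
    obtain ⟨d, hd⟩ := Finset.card_pos.1 (by
      rw [Finset.card_erase_of_mem hc', Finset.card_erase_of_mem hb, Finset.card_erase_of_mem ha]; omega :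
        0 < (((Kl.erase a).erase b).erase c).card)
    simp only [Finset.mem_erase] at hb hc' hd
    have hm : ∀ {y}, y ∈ Kl → y ∈ V1 := fun hy => List.mem_toFinset.1 (Finset.mem_filter.1 hy).1
    have h4 := List.all_eq_true.1 ckFour a (hm ha)
    simp only [List.all_eq_true, List.mem_filter] at h4
    have h5 := h4 b ⟨hm hb.2, horth a ha b hb.2 hb.1.symm⟩
      c ⟨⟨hm hc'.2.2, horth a ha c hc'.2.2 hc'.2.1.symm⟩, horth b hb.2 c hc'.2.2 hc'.1.symm⟩
      d ⟨⟨hm hd.2.2.2, horth a ha d hd.2.2.2 hd.2.2.1.symm⟩, horth b hb.2 d hd.2.2.2 hd.2.1.symm⟩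
    rw [horth c hc'.2.2 d hd.2.2.2 hd.1.symm] at h5
    simp at h5
  -- the other roots fall into orbits of length twelve
  have hdiv : 12 ∣ (V1.toFinset.filter fun b => cC x b ≠ 0).card := by
    set fib : ZMod A → ℕ := fun z => (V1.toFinset.filter fun b => cC x b = z).card with hfib
    have himg : V1.toFinset.image w = V1.toFinset := by
      refine Finset.eq_of_subset_of_card_le (fun b hb => ?_) (le_of_eq (Finset.card_image_of_injOn hinj).symm)
      obtain ⟨a, ha, rfl⟩ := Finset.mem_image.1 hb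
      exact List.mem_toFinset.2 (V1_stable hl (List.mem_toFinset.1 ha))
    have hqinj : ∀ a b : ZMod A, (r : ZMod A) * a = 0 → (r : ZMod A) * b = 0 →
        (q : ZMod A) * a = (q : ZMod A) * b → a = b := fun a b ha hb e => by
      refine sub_eq_zero.1 (kill hr (n := (q : ℤ)) (by rw [mul_sub, ha, hb, sub_zero]) ?_ ?_)
      · rw [← ZMod.intCast_zmod_eq_zero_iff_dvd, Int.cast_natCast]
        exact hprim.ne_zero (by norm_num)
      · rw [Int.cast_natCast, mul_sub, e, sub_self]
    have hfq : ∀ z : ZMod A, (r : ZMod A) * z = 0 → fib ((q : ZMod A) * z) = fib z := by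
      intro z hz
      have e : V1.toFinset.filter (fun b => cC x b = (q : ZMod A) * z) =
          (V1.toFinset.filter fun b => cC x b = z).image w := by
        ext b
        simp only [Finset.mem_filter, Finset.mem_image]
        constructor
        · rintro ⟨hb, e⟩
          rw [← himg] at hb
          obtain ⟨a, ha, rfl⟩ := Finset.mem_image.1 hb
          rw [hstep a (hV a (List.mem_toFinset.1 ha))] at e
          exact ⟨a, ⟨ha, hqinj _ _ (hzr a) hz e⟩, rfl⟩
        · rintro ⟨a, ⟨ha, rfl⟩, rfl⟩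
          exact ⟨List.mem_toFinset.2 (V1_stable hl (List.mem_toFinset.1 ha)), hstep a (hV a (List.mem_toFinset.1 ha))⟩
      rw [hfib]
      simp only
      rw [e]
      exact Finset.card_image_of_injOn (hinj.mono (Finset.coe_subset.2 (Finset.filter_subset _ _)))
    have hfpow : ∀ z : ZMod A, (r : ZMod A) * z = 0 → ∀ i : ℕ, fib ((q : ZMod A) ^ i * z) = fib z := by
      intro z hz i
      induction i with
      | zero => simp
      | succ i ih => rw [pow_succ', mul_assoc, hfq _ (by rw [mul_left_comm, hz, mul_zero]), ih]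
    suffices H : ∀ T : Finset (ZMod A), (∀ z ∈ T, z ≠ 0 ∧ (r : ZMod A) * z = 0) →
        (∀ z ∈ T, ∀ i : ℕ, (q : ZMod A) ^ i * z ∈ T ∨ fib z = 0) → 12 ∣ ∑ z ∈ T, fib z by
      have h0 := H ((V1.toFinset.filter fun b => cC x b ≠ 0).image (cC x)) (fun z hz => by
          obtain ⟨b, hb, rfl⟩ := Finset.mem_image.1 hz
          exact ⟨(Finset.mem_filter.1 hb).2, hzr b⟩) (fun z hz i => by
          obtain ⟨b, hb, rfl⟩ := Finset.mem_image.1 hz
          left
          obtain ⟨hb1, hb2⟩ := Finset.mem_filter.1 hb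
          induction i with
          | zero => simpa using hz
          | succ i ih =>
            obtain ⟨a, ha, e⟩ := Finset.mem_image.1 ih
            obtain ⟨ha1, ha2⟩ := Finset.mem_filter.1 ha
            refine Finset.mem_image.2 ⟨w a, Finset.mem_filter.2
              ⟨List.mem_toFinset.2 (V1_stable hl (List.mem_toFinset.1 ha1)), ?_⟩, ?_⟩
            · rw [hstep a (hV a (List.mem_toFinset.1 ha1))]
              exact fun e0 => ha2 (hqinj _ _ (hzr a) (mul_zero _) (by rw [e0, mul_zero]))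
            · rw [hstep a (hV a (List.mem_toFinset.1 ha1)), e, pow_succ', mul_assoc])
      convert h0 using 1
      rw [Finset.card_eq_sum_card_image (cC x)]
      refine Finset.sum_congr rfl fun z hz => ?_
      obtain ⟨b, hb, rfl⟩ := Finset.mem_image.1 hz
      rw [hfib]
      simp only [Finset.filter_filter]
      congr 1
      refine Finset.filter_congr fun a _ => ⟨fun e => e.2, fun e => ⟨e ▸ (Finset.mem_filter.1 hb).2, e⟩⟩
    intro T
    induction T using Finset.strongInduction with
    | _ T ih =>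
      intro hT hcl
      by_cases hall : ∀ z ∈ T, fib z = 0
      · rw [Finset.sum_eq_zero hall]
        exact dvd_zero _
      push Not at hall
      obtain ⟨z, hz, hz0⟩ := hall
      obtain ⟨hzne, hzz⟩ := hT z hz
      set O := (Finset.range 12).image fun i => (q : ZMod A) ^ i * z with hO
      have hOT : O ⊆ T := fun y hy => by
        obtain ⟨i, -, rfl⟩ := Finset.mem_image.1 hy
        exact (hcl z hz i).resolve_right hz0
      have hinjO : Set.InjOn (fun i => (q : ZMod A) ^ i * z) (Finset.range 12 : Set ℕ) := by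
        intro i hi j hj e
        rw [Finset.coe_range, Set.mem_Iio] at hi hj
        by_contra hne
        refine hzne (kill hr hzz (n := (q : ℤ) ^ i - (q : ℤ) ^ j) ?_ (by push_cast; linear_combination e))
        rw [← ZMod.intCast_zmod_eq_zero_iff_dvd]
        push_cast
        rw [sub_eq_zero]
        exact fun e' => hne (hprim.pow_inj hi hj e')
      have hsum : ∑ y ∈ O, fib y = 12 * fib z := by
        rw [hO, Finset.sum_image hinjO, Finset.sum_congr rfl fun i _ => hfpow z hzz i, Finset.sum_const,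
          Finset.card_range, smul_eq_mul]
      rw [← Finset.sum_sdiff hOT, hsum]
      refine dvd_add (ih (T \ O) ?_ (fun y hy => hT y (Finset.mem_sdiff.1 hy).1) fun y hy i => ?_) (dvd_mul_right _ _)
      · exact Finset.sdiff_ssubset hOT ⟨z, Finset.mem_image.2 ⟨0, Finset.mem_range.2 (by norm_num), by simp⟩⟩
      · obtain ⟨hyT, hyO⟩ := Finset.mem_sdiff.1 hy
        rcases hcl y hyT i with h1 | h1
        · left
          refine Finset.mem_sdiff.2 ⟨h1, fun h2 => hyO ?_⟩
          obtain ⟨j, hj, e⟩ := Finset.mem_image.1 h2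
          refine Finset.mem_image.2 ⟨(j + 11 * i) % 12, Finset.mem_range.2 (Nat.mod_lt _ (by norm_num)), ?_⟩
          have hp : ∀ (n : ℕ) (u : ZMod A), (r : ZMod A) * u = 0 → (q : ZMod A) ^ (n % 12) * u = (q : ZMod A) ^ n * u := by
            intro n u hu
            refine sub_eq_zero.1 ?_
            rw [← sub_mul]
            have hdvd : (r : ℤ) ∣ (q : ℤ) ^ (n % 12) - (q : ℤ) ^ n := by
              rw [← ZMod.intCast_zmod_eq_zero_iff_dvd]
              push_cast
              rw [sub_eq_zero]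
              conv_rhs => rw [← Nat.mod_add_div n 12, pow_add, pow_mul, hprim.pow_eq_one, one_pow, mul_one]
            obtain ⟨k, hk⟩ := hdvd
            have hk' := congrArg (fun v : ℤ => (v : ZMod A)) hk
            push_cast at hk'
            rw [hk', mul_right_comm, hu, zero_mul]
          rw [hp _ _ hzz, pow_add, mul_right_comm, e, ← mul_rotate, mul_assoc]
          rw [← mul_assoc, ← pow_add, show 11 * i + i = 12 * i by ring]
          have := hp (12 * i) y (hT y hyT).2
          simpa using this.symm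
        · exact Or.inr h1
  -- so some root is killed
  have hne : Kl.Nonempty := by
    rw [← Finset.card_pos]
    have e := Finset.card_filter_add_card_filter_not (s := V1.toFinset) (fun b => cC x b = 0)
    rw [V1_card, ← hKl] at e
    obtain ⟨k, hk⟩ := hdiv
    simp only [ne_eq] at hk
    omega
  obtain ⟨a, ha⟩ := hne
  have hKstep : ∀ b ∈ Kl, w b ∈ Kl := fun b hb => by
    obtain ⟨h1, h2⟩ := Finset.mem_filter.1 hb
    refine Finset.mem_filter.2 ⟨List.mem_toFinset.2 (V1_stable hl (List.mem_toFinset.1 h1)), ?_⟩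
    rw [hstep b (hV b (List.mem_toFinset.1 h1)), h2, mul_zero]
  -- the invariant functional of a root of level one
  have hnofix : ∀ b ∈ V1, w (w b) ≠ b := by
    intro b hb e
    have hb7 := hV b hb
    set p : Fin E6.pk.rank → ℤ := fun i => E7.pk.A i b with hp
    have hpr : ∀ s < E6.pk.nroots, cC (rvz ℤ b) (emb s) = dot E6.pk p s := by
      intro s hs
      rw [cC_dot _ (emb_spec hs).1]
      simp only [dot, Int.cast_id]
      have e : ∀ j : Fin E7.pk.rank,
          (((Bm E7.pk).map (Int.castRingHom ℤ)).mulVec (rvz ℤ b)) j = E7.pk.A j b := fun j => by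
        rw [← sym_eq hb7 j.isLt]
        simp only [Matrix.mulVec, dotProduct, Matrix.map_apply, Bm, Matrix.of_apply, rvz, eq_intCast, Int.cast_id]
      simp only [e]
      rw [sum_seven (fun j : ℕ => E7.pk.rv (emb s) j * E7.pk.A j b), (emb_spec hs).2.2.2, zero_mul, add_zero]
      exact Finset.sum_congr rfl fun j _ => by rw [((emb_spec hs).2.2.1 j j.isLt).1]
    have hl2 : WordOk E6.pk (l ++ l) := fun y hy => (List.mem_append.1 hy).elim (hl y) (hl y)
    have hpfix : tr E6.pk (l ++ l) p = p := by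
      funext k
      rw [tr_apply, ← hpr _ (E6.ok.wl_lt _ hl2 _ (E6.ok.sim_lt k.isLt)), ← emb_wl hl2 _ (E6.ok.sim_lt k.isLt)]
      have h1 := cC_wl (R := ℤ) hB (word67 hl2) (rvz ℤ b) (emb_spec (E6.ok.sim_lt k.isLt)).1
      rw [RM_rv (word67 hl2) b hb7, show wl E7.pk (l ++ l) b = b by rw [wl_append]; exact e] at h1
      rw [h1, hpr _ (E6.ok.sim_lt k.isLt), dot_sim E6.ok p k]
    have hp0 : p = 0 := by
      have hd : ∀ c : ℤ, c * c = 1 → (Matrix.scalar (Fin E6.pk.rank) c - WM E6.pk l).det ≠ 0 := by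
        intro c hc
        rw [← Matrix.eval_charpoly, hchp, Polynomial.eval_mul, cyclotomic_twelve, Polynomial.cyclotomic_three]
        simp only [Polynomial.eval_add, Polynomial.eval_sub, Polynomial.eval_pow, Polynomial.eval_X,
          Polynomial.eval_one]
        rcases Int.eq_one_or_neg_one_of_mul_eq_one hc with rfl | rfl <;> norm_num
      have e2 : ((Matrix.scalar (Fin E6.pk.rank) (1 : ℤ) - WM E6.pk l) *
          (Matrix.scalar (Fin E6.pk.rank) (-1 : ℤ) - WM E6.pk l)).mulVec p = 0 := by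
        rw [map_neg, map_one, show (1 - WM E6.pk l) * (-1 - WM E6.pk l) = WM E6.pk l * WM E6.pk l - 1 by noncomm_ring,
          Matrix.sub_mulVec, Matrix.one_mulVec, ← WM_append E6.ok hl hl, sub_eq_zero]
        have e3 := hpfix
        rwa [tr, show (WM E6.pk (l ++ l)).map (Int.castRingHom ℤ) = WM E6.pk (l ++ l) by
          ext; simp [Matrix.map_apply]] at e3
      refine Matrix.eq_zero_of_mulVec_eq_zero ?_ e2
      rw [Matrix.det_mul]
      exact mul_ne_zero (hd 1 rfl) (hd (-1) rfl)
    have h2 := List.all_eq_true.1 ckSelf b hb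
    simp only [Bool.and_eq_true, List.any_eq_true, List.mem_range, decide_eq_true_eq] at h2
    obtain ⟨-, i, hi, hne⟩ := h2
    exact hne (congrFun hp0 ⟨i, hi⟩)
  have haV : a ∈ V1 := List.mem_toFinset.1 (Finset.mem_filter.1 ha).1
  have h1 := hKstep a ha
  have h2 := hKstep _ h1
  have h3 := hKstep _ h2
  have n01 : a ≠ w a := fun e => hnofix a haV (by rw [← e, ← e])
  have n12 : w a ≠ w (w a) := fun e => n01 (hinj (Finset.mem_filter.1 ha).1 (Finset.mem_filter.1 h1).1 e)
  have n02 : a ≠ w (w a) := fun e => hnofix a haV e.symm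
  have hK3 : ({a, w a, w (w a)} : Finset ℕ) = Kl := by
    refine Finset.eq_of_subset_of_card_le (fun y hy => ?_) ?_
    · simp only [Finset.mem_insert, Finset.mem_singleton] at hy
      rcases hy with rfl | rfl | rfl
      exacts [ha, h1, h2]
    · rw [Finset.card_insert_of_notMem (by simp [n01, n02]), Finset.card_pair n12]
      omega
  refine ⟨a, haV, V1_stable hl haV, V1_stable hl (V1_stable hl haV), ?_, horth a ha _ h1 n01, horth a ha _ h2 n02,
    horth _ h1 _ h2 n12, (Finset.mem_filter.1 ha).2, fun b hb hb0 => ?_⟩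
  · have h4 := h3
    rw [← hK3] at h4
    simp only [Finset.mem_insert, Finset.mem_singleton] at h4
    rcases h4 with e | e | e
    · exact e
    · exact absurd (hinj (Finset.mem_filter.1 h2).1 (Finset.mem_filter.1 ha).1 e) n02.symm
    · exact absurd (hinj (Finset.mem_filter.1 h2).1 (Finset.mem_filter.1 h1).1 e) n12.symm
  · have h4 : b ∈ Kl := Finset.mem_filter.2 ⟨List.mem_toFinset.2 hb, hb0⟩
    rw [← hK3] at h4
    simpa using h4

end Cfsg.Agent.Chev.CyclTorus
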