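/-
The linear algebra of the twisted torus of E7: characteristic polynomial and a regular fixed vector.
-/
import Cfsg.Agent.Lib.Chev.CyclTorus.E7Roots
import Cfsg.Agent.Lib.Chev.CyclTorus.E6Key

set_option autoImplicit false
set_option linter.unusedSectionVars false
set_option maxHeartbeats 800000

namespace Cfsg.Agent.Chev.CyclTorus

open Cfsg.Lie Cfsg.Agent.Chev

theorem ckPrSymm : (V1.all fun a => V1.all fun b => decide (pr a b = pr b a)) = true := by decide +kernel

theorem det_Bm6 : (Bm E6.pk).det = 3 := by decide +kernel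

/-- Twice the inverse of the Cartan matrix. -/
def inv7 : Matrix (Fin E7.pk.rank) (Fin E7.pk.rank) ℤ := Matrix.of fun k j =>
  (([[4, 4, 6, 8, 6, 4, 2], [4, 7, 8, 12, 9, 6, 3], [6, 8, 12, 16, 12, 8, 4], [8, 12, 16, 24, 18, 12, 6],
    [6, 9, 12, 18, 15, 10, 5], [4, 6, 8, 12, 10, 8, 4], [2, 3, 4, 6, 5, 4, 3]] : List (List ℤ)).getD k []).getD j 0

theorem inv7_ok : ∀ k j : Fin E7.pk.rank, ∑ m : Fin E7.pk.rank, Bm E7.pk k m * inv7 m j = if k = j then 2 else 0 := by
  decide +kernel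

attribute [local irreducible] V1 embL

theorem hB6 : (Bm E6.pk).det ≠ 0 := by rw [det_Bm6]; norm_num

theorem hB7 : (Bm E7.pk).det ≠ 0 := by
  intro e
  have h1 : Bm E7.pk * inv7 = (2 : ℤ) • 1 := by
    ext k j
    rw [Matrix.mul_apply, inv7_ok]
    by_cases h : k = j <;> simp [h]
  have h2 := congrArg Matrix.det h1
  rw [Matrix.det_mul, e, zero_mul, Matrix.det_smul, Matrix.det_one, mul_one] at h2
  exact absurd h2.symm (pow_ne_zero _ (by norm_num))

/-- Padding by zero. -/
def pad {R : Type*} [Zero R] (u : Fin E6.pk.rank → R) : Fin E7.pk.rank → R :=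
  fun k => if h : (k : ℕ) < E6.pk.rank then u ⟨k, h⟩ else 0

/-- The first indices. -/
def up6 (k : Fin E6.pk.rank) : Fin E7.pk.rank := ⟨k, lt_of_lt_of_le k.isLt (by decide)⟩

theorem index_cases (k : Fin E7.pk.rank) : (∃ k', up6 k' = k) ∨ (k : ℕ) = 6 := by
  have h7 : (k : ℕ) < 7 := k.isLt
  rcases Nat.lt_or_ge k 6 with h | h
  · exact Or.inl ⟨⟨k, h⟩, rfl⟩
  · exact Or.inr (by omega)

theorem sum_up6 {M : Type*} [AddCommMonoid M] (f : Fin E7.pk.rank → M) :
    ∑ j, f j = (∑ j : Fin E6.pk.rank, f (up6 j)) + f ⟨6, by decide⟩ := by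
  have h7 : E6.pk.rank + 1 = E7.pk.rank := by decide
  rw [← (finCongr h7).sum_comp f, Fin.sum_univ_castSucc]
  rfl

theorem pad_up6 {R : Type*} [Zero R] (u : Fin E6.pk.rank → R) (k : Fin E6.pk.rank) : pad u (up6 k) = u k := by
  rw [pad, dif_pos (show ((up6 k : Fin E7.pk.rank) : ℕ) < E6.pk.rank from k.isLt)]
  rfl

theorem pad_top {R : Type*} [Zero R] (u : Fin E6.pk.rank → R) {k : Fin E7.pk.rank} (hk : (k : ℕ) = 6) :
    pad u k = 0 := by
  rw [pad, dif_neg]
  rw [hk]
  decide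

theorem cC_pad {R : Type*} [CommRing R] (u : Fin E6.pk.rank → R) {s : ℕ} (hs : s < E6.pk.nroots) :
    cC (pad u) (emb s) = dot E6.pk (((Bm E6.pk).map (Int.castRingHom R)).mulVec u) s := by
  have e1 : cC (pad u) (emb s) = ∑ j : Fin E6.pk.rank, u j * (E6.pk.A j s : R) := by
    rw [cC, sum_up6, pad_top u rfl, zero_mul, add_zero]
    refine Finset.sum_congr rfl fun j _ => ?_
    rw [pad_up6, show ((up6 j : Fin E7.pk.rank) : ℕ) = j from rfl, ((emb_spec hs).2.2.1 j j.isLt).2.1]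
  rw [e1]
  simp only [dot, Matrix.mulVec, dotProduct, Finset.mul_sum]
  rw [Finset.sum_comm]
  refine Finset.sum_congr rfl fun j _ => ?_
  rw [E6.ok.A_eq_sum hs j.isLt, Int.cast_sum, Finset.mul_sum, ← Fin.sum_univ_eq_sum_range
    (fun k => u j * ((E6.pk.rv s k * E6.pk.A j (E6.pk.sim k) : ℤ) : R))]
  refine Finset.sum_congr rfl fun k _ => ?_
  simp only [Matrix.map_apply, Bm, Matrix.of_apply, eq_intCast]
  push_cast
  ring

theorem RM67 : ∀ {l : List ℕ}, WordOk E6.pk l → ∀ a b : Fin E6.pk.rank,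
    RM E7.pk l (up6 a) (up6 b) = RM E6.pk l a b
  | [], _, a, b => by simp [RM, Matrix.one_apply, up6, Fin.ext_iff]
  | i :: l, hl, a, b => by
    have hl' : WordOk E6.pk l := fun x hx => hl x (List.mem_cons_of_mem _ hx)
    have hi : i < E6.pk.rank := hl i (List.mem_cons_self ..)
    rw [show RM E7.pk (i :: l) = R1 E7.pk i * RM E7.pk l by simp [RM],
      show RM E6.pk (i :: l) = R1 E6.pk i * RM E6.pk l by simp [RM], Matrix.mul_apply, Matrix.mul_apply, sum_up6,
      RM_bottom hl' ⟨6, by decide⟩ (up6 b) rfl,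
      if_neg (fun e => absurd (congrArg Fin.val e) (Nat.ne_of_gt b.isLt)), mul_zero, add_zero]
    refine Finset.sum_congr rfl fun j _ => ?_
    rw [RM67 hl' j b]
    congr 1
    simp only [R1, Matrix.of_apply, up6, Fin.ext_iff]
    rw [← emb_sim hi, ((emb_spec (E6.ok.sim_lt hi)).2.2.1 j j.isLt).2.1]

theorem RM_pad {R : Type*} [CommRing R] {l : List ℕ} (hl : WordOk E6.pk l) (u : Fin E6.pk.rank → R) :
    ((RM E7.pk l).map (Int.castRingHom R)).mulVec (pad u) =
      pad (((RM E6.pk l).map (Int.castRingHom R)).mulVec u) := by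
  funext k
  simp only [Matrix.mulVec, dotProduct, Matrix.map_apply]
  rw [sum_up6, pad_top u rfl, mul_zero, add_zero]
  rcases index_cases k with ⟨k', rfl⟩ | hk
  · rw [pad_up6]
    simp only [pad_up6, RM67 hl]
    rfl
  · rw [pad_top _ hk]
    refine Finset.sum_eq_zero fun j _ => ?_
    rw [RM_bottom hl k _ hk, if_neg (fun e => absurd (congrArg Fin.val e) (by
      rw [hk]; exact Nat.ne_of_gt j.isLt)), map_zero, zero_mul]

open Polynomial in
theorem charpoly_RM7 {l : List ℕ} (hl : WordOk E6.pk l) :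
    (RM E7.pk l).charpoly = (RM E6.pk l).charpoly * (Polynomial.X - 1) := by
  have h7 : E6.pk.rank + 1 = E7.pk.rank := by decide
  set N := Matrix.reindex (finCongr h7).symm (finCongr h7).symm (RM E7.pk l) with hN
  rw [← Matrix.charpoly_reindex (finCongr h7).symm (RM E7.pk l), ← hN, Matrix.charpoly, Matrix.charpoly,
    Matrix.det_succ_row (Matrix.charmatrix N) (Fin.last _)]
  have hlast : ∀ j : Fin (E6.pk.rank + 1), N (Fin.last _) j = if Fin.last _ = j then 1 else 0 := fun j => by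
    rw [hN, Matrix.reindex_apply, Matrix.submatrix_apply, RM_bottom hl _ _ rfl]
    simp [Fin.ext_iff]
  rw [Finset.sum_eq_single (Fin.last _) (fun j _ hj => by
    rw [Matrix.charmatrix_apply_ne _ _ _ (Ne.symm hj), hlast, if_neg (Ne.symm hj), map_zero, neg_zero, mul_zero,
      zero_mul]) (by simp)]
  rw [Matrix.charmatrix_apply_eq, hlast, if_pos rfl, map_one, Fin.succAbove_last,
    Even.neg_one_pow ⟨_, rfl⟩, one_mul, mul_comm]
  congr 2
  ext a b
  rw [Matrix.submatrix_apply, Matrix.charmatrix_apply, Matrix.charmatrix_apply, hN, Matrix.reindex_apply,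
    Matrix.submatrix_apply, ← RM67 hl a b]
  simp [Matrix.diagonal_apply, up6]
  rfl

theorem R1_sim {R : Type*} [CommRing R] {i : ℕ} (hi : i < E7.pk.rank) (z : Fin E7.pk.rank → R) :
    ((R1 E7.pk i).map (Int.castRingHom R)).mulVec z =
      fun k => z k - cC z (E7.pk.sim i) * rvz R (E7.pk.sim i) k := by
  funext k
  simp only [Matrix.mulVec, dotProduct, Matrix.map_apply, R1, Matrix.of_apply, eq_intCast, Int.cast_sub,
    Int.cast_ite, Int.cast_one, Int.cast_zero, sub_mul, Finset.sum_sub_distrib, ite_mul, one_mul, zero_mul,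
    Finset.sum_ite_eq, Finset.mem_univ, if_true, rvz, E7.ok.rv_sim hi k.isLt, cC, Finset.sum_mul]
  congr 1
  refine Finset.sum_congr rfl fun j _ => ?_
  by_cases hk : (k : ℕ) = i
  · simp [hk, mul_comm]
  · simp [hk, Ne.symm hk]

/-- The reflection in a root on coroot coordinates. -/
theorem RM_refl {R : Type*} [CommRing R] {b : List ℕ} {i a : ℕ} (hb : WordOk E7.pk b) (hi : i < E7.pk.rank)
    (hbi : wl E7.pk b (E7.pk.sim i) = a) (z : Fin E7.pk.rank → R) :
    ((RM E7.pk (b ++ [i] ++ b.reverse)).map (Int.castRingHom R)).mulVec z = fun k => z k - cC z a * rvz R a k := by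
  have hbr : WordOk E7.pk b.reverse := fun x hx => hb x (List.mem_reverse.1 hx)
  have hRM : RM E7.pk (b ++ [i] ++ b.reverse) = RM E7.pk b * R1 E7.pk i * RM E7.pk b.reverse := by
    simp [RM, List.map_append, List.prod_append, mul_assoc]
  have hinv : RM E7.pk b * RM E7.pk b.reverse = 1 := mul_eq_one_comm.1 (RM_inverse E7.ok hB7 hb)
  rw [hRM, Matrix.map_mul, Matrix.map_mul, ← Matrix.mulVec_mulVec, ← Matrix.mulVec_mulVec, R1_sim hi]
  set M := (RM E7.pk b).map (Int.castRingHom R) with hM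
  set y := ((RM E7.pk b.reverse).map (Int.castRingHom R)).mulVec z with hy
  have hMy : M.mulVec y = z := by
    rw [hM, hy, Matrix.mulVec_mulVec, ← Matrix.map_mul, hinv, Matrix.map_one _ (map_zero _) (map_one _),
      Matrix.one_mulVec]
  have e : cC y (E7.pk.sim i) = cC z a := by
    rw [← cC_wl hB7 hb y (E7.ok.sim_lt hi), ← hM, hMy, hbi]
  rw [show (fun k => y k - cC y (E7.pk.sim i) * rvz R (E7.pk.sim i) k) = y - cC y (E7.pk.sim i) • rvz R (E7.pk.sim i) from rfl,
    Matrix.mulVec_sub, Matrix.mulVec_smul, hMy, hM, RM_rv hb _ (E7.ok.sim_lt hi), hbi, e]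
  rfl

open Polynomial in
/-- A rank one change of a matrix along a cycle of length three. -/
theorem charpoly_rank_one {ι : Type*} [Fintype ι] [DecidableEq ι] {n : ℕ} (hn : Fintype.card ι = n + 1)
    (R : Matrix ι ι ℤ) (ra r1 r2 v : ι → ℤ)
    (h2 : R.mulVec r2 = r1) (h1 : R.mulVec r1 = ra) (ha : R.mulVec ra = r2)
    (v2 : r2 ⬝ᵥ v = 0) (v1 : r1 ⬝ᵥ v = 0) (va : ra ⬝ᵥ v = 2) :
    (Polynomial.X ^ 3 - 1) * (R - Matrix.vecMulVec r2 v).charpoly = R.charpoly * (Polynomial.X ^ 3 + 1) := by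
  set c : ℤ →+* ℤ[X] := Polynomial.C with hc
  set Aq := Matrix.charmatrix R with hAq
  set u : ι → ℤ[X] := c ∘ r2 with hu
  set vv : ι → ℤ[X] := c ∘ v with hvv
  have hq : Matrix.charmatrix (R - Matrix.vecMulVec r2 v) = Aq + Matrix.vecMulVec u vv := by
    ext k j
    simp only [hAq, hu, hvv, Matrix.charmatrix_apply, Matrix.sub_apply, Matrix.add_apply, Matrix.vecMulVec_apply,
      Function.comp_apply, map_sub, map_mul, hc]
    ring
  have hAx : ∀ z : ι → ℤ,
      Aq.mulVec (c ∘ z) = (Polynomial.X : ℤ[X]) • (c ∘ z) - c ∘ R.mulVec z := fun z => by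
    rw [hAq, Matrix.charmatrix, Matrix.sub_mulVec, RingHom.mapMatrix_apply]
    funext k
    simp only [Pi.sub_apply, Pi.smul_apply, Matrix.scalar_apply, Matrix.mulVec_diagonal, Function.comp_apply,
      RingHom.map_mulVec, smul_eq_mul, hc]
  set p : ℤ[X] := Polynomial.X ^ 3 - 1 with hp
  set W : ι → ℤ[X] := ((Polynomial.X : ℤ[X]) ^ 2) • u + (Polynomial.X : ℤ[X]) • (c ∘ r1) + c ∘ ra with hW
  have hAW : Aq.mulVec W = p • u := by
    rw [hW, hu, Matrix.mulVec_add, Matrix.mulVec_add, Matrix.mulVec_smul, Matrix.mulVec_smul, hAx, hAx, hAx, h2, h1, ha]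
    funext k
    simp only [Pi.add_apply, Pi.sub_apply, Pi.smul_apply, smul_eq_mul, hp]
    ring
  have key : p • (Aq + Matrix.vecMulVec u vv) = Aq * (p • (1 : Matrix _ _ ℤ[X]) + Matrix.vecMulVec W vv) := by
    rw [mul_add, Matrix.mul_smul, mul_one, Matrix.mul_vecMulVec, hAW, smul_add, Matrix.smul_vecMulVec]
  have hpair : ∀ z : ι → ℤ, (c ∘ z) ⬝ᵥ vv = c (z ⬝ᵥ v) := fun z => by
    simp [dotProduct, hvv, map_sum]
  have hval : W ⬝ᵥ vv = 2 := by
    rw [hW, hu, add_dotProduct, add_dotProduct, smul_dotProduct, smul_dotProduct, hpair, hpair, hpair, v2, v1, va]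
    simp
  have hdet : (p • (1 : Matrix ι ι ℤ[X]) + Matrix.vecMulVec W vv).det =
      p ^ n * (Polynomial.X ^ 3 + 1) := by
    rw [show p • (1 : Matrix ι ι ℤ[X]) + Matrix.vecMulVec W vv =
      Matrix.scalar ι p - Matrix.vecMulVec (-W) vv by
        rw [Matrix.neg_vecMulVec, sub_neg_eq_add, Matrix.scalar_apply, Matrix.smul_one_eq_diagonal],
      ← Matrix.eval_charpoly, Matrix.charpoly_vecMulVec, neg_dotProduct, hval, hn, Nat.add_sub_cancel]
    simp only [eval_sub, eval_pow, eval_X, eval_smul, smul_eq_mul]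
    rw [hp, pow_succ]
    ring
  have hp0 : p ≠ 0 := fun e => by simpa [hp] using congrArg (fun f : ℤ[X] => f.eval 0) e
  refine mul_left_cancel₀ (pow_ne_zero n hp0) ?_
  have e1 := congrArg Matrix.det key
  rw [Matrix.det_mul, Matrix.det_smul, hdet, ← hq, hn] at e1
  unfold Matrix.charpoly
  rw [← mul_assoc, ← pow_succ, e1, ← hAq]
  ring

open Polynomial in
theorem charpoly_rank_one' {ι : Type*} [Fintype ι] [DecidableEq ι] {n : ℕ} (hn : Fintype.card ι = n + 1)
    (R : Matrix ι ι ℤ) (ra r1 r2 v : ι → ℤ)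
    (h2 : R.mulVec r2 = r1) (h1 : R.mulVec r1 = ra) (ha : R.mulVec ra = r2)
    (v2 : r2 ⬝ᵥ v = 0) (v1 : r1 ⬝ᵥ v = 0) (va : ra ⬝ᵥ v = 2) (G : ℤ[X])
    (h6 : R.charpoly = G * (Polynomial.X ^ 3 - 1)) :
    (R - Matrix.vecMulVec r2 v).charpoly = G * (Polynomial.X ^ 3 + 1) := by
  have hp0 : (Polynomial.X ^ 3 - 1 : ℤ[X]) ≠ 0 := fun e => by simpa using congrArg (fun f : ℤ[X] => f.eval 0) e
  refine mul_left_cancel₀ hp0 ((charpoly_rank_one hn R ra r1 r2 v h2 h1 ha v2 v1 va).trans ?_)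
  rw [h6]
  ring

open Polynomial in
/-- The characteristic polynomial after twisting. -/
theorem charpoly_twist {l : List ℕ} (hl : WordOk E6.pk l)
    (hchp : (WM E6.pk l).charpoly = cyclotomic 12 ℤ * cyclotomic 3 ℤ) {b : List ℕ} {i a : ℕ} (hb : WordOk E7.pk b)
    (hi : i < E7.pk.rank) (hbi : wl E7.pk b (E7.pk.sim i) = a) (ha : a ∈ V1)
    (h3 : wl E7.pk l (wl E7.pk l (wl E7.pk l a)) = a)
    (o1 : orB a (wl E7.pk l a) = true) (o2 : orB a (wl E7.pk l (wl E7.pk l a)) = true) :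
    (WM E7.pk (b ++ [i] ++ b.reverse ++ l)).charpoly = cyclotomic 12 ℤ * cyclotomic 6 ℤ * cyclotomic 2 ℤ := by
  have hl7 := word67 hl
  have hlr : WordOk E6.pk l.reverse := fun x hx => hl x (List.mem_reverse.1 hx)
  have hlr7 := word67 hlr
  have hw : WordOk E7.pk [i] := by simpa [WordOk] using hi
  have hs : WordOk E7.pk (b ++ [i] ++ b.reverse) := fun x hx => by
    simp only [List.mem_append, List.mem_reverse] at hx
    rcases hx with (hx | hx) | hx
    exacts [hb x hx, hw x hx, hb x hx]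
  have hll : WordOk E7.pk (b ++ [i] ++ b.reverse ++ l) := fun x hx => (List.mem_append.1 hx).elim (hs x) (hl7 x)
  rw [← RM_charpoly E7.ok hB7 hll]
  have hrev : (b ++ [i] ++ b.reverse ++ l).reverse = l.reverse ++ (b ++ [i] ++ b.reverse) := by simp
  set R := RM E7.pk l.reverse with hR
  have hRM : RM E7.pk (b ++ [i] ++ b.reverse ++ l).reverse = R * RM E7.pk (b ++ [i] ++ b.reverse) := by
    rw [hrev, hR, RM, RM, RM, List.map_append, List.prod_append]
  have haV := (mem_V1.1 ha).1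
  set w1 := wl E7.pk l a
  set w2 := wl E7.pk l w1
  have hw1 : w1 < E7.pk.nroots := E7.ok.wl_lt l hl7 a haV
  have hw2 : w2 < E7.pk.nroots := E7.ok.wl_lt l hl7 w1 hw1
  have hRv : ∀ x < E7.pk.nroots, R.mulVec (rvz ℤ (wl E7.pk l x)) = rvz ℤ x := fun x hx => by
    have e := RM_rv (R := ℤ) hlr7 _ (E7.ok.wl_lt l hl7 x hx)
    rw [E7.ok.wl_reverse l hl7 x hx] at e
    rwa [show (RM E7.pk l.reverse).map (Int.castRingHom ℤ) = R by ext; simp [hR, Matrix.map_apply]] at e
  have r1 : R.mulVec (rvz ℤ w2) = rvz ℤ w1 := hRv w1 hw1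
  have r2 : R.mulVec (rvz ℤ w1) = rvz ℤ a := hRv a haV
  have r3 : R.mulVec (rvz ℤ a) = rvz ℤ w2 := by
    have := hRv w2 hw2
    rwa [h3] at this
  set v : Fin E7.pk.rank → ℤ := fun j => E7.pk.A j a with hv
  have hS : RM E7.pk (b ++ [i] ++ b.reverse) = 1 - Matrix.vecMulVec (rvz ℤ a) v := by
    refine Matrix.ext_iff_mulVec.2 fun z => ?_
    have e := RM_refl (R := ℤ) hb hi hbi z
    rw [show (RM E7.pk (b ++ [i] ++ b.reverse)).map (Int.castRingHom ℤ) = RM E7.pk (b ++ [i] ++ b.reverse) by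
      ext; simp [Matrix.map_apply]] at e
    rw [e, Matrix.sub_mulVec, Matrix.one_mulVec, Matrix.vecMulVec_mulVec]
    funext k
    simp [cC, v, dotProduct, mul_comm]
  have hR' : RM E7.pk (b ++ [i] ++ b.reverse ++ l).reverse = R - Matrix.vecMulVec (rvz ℤ w2) v := by
    rw [hRM, hS, mul_sub, mul_one, Matrix.mul_vecMulVec, r3]
  simp only [orB, Bool.and_eq_true, decide_eq_true_eq] at o1 o2
  have h2 := List.all_eq_true.1 ckSelf a ha
  simp only [Bool.and_eq_true, decide_eq_true_eq] at h2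
  have hpair : ∀ x, rvz ℤ x ⬝ᵥ v = pr a x := fun x => by
    rw [← Int.cast_id (n := pr a x), ← cC_rvz (R := ℤ) x a, cC]
    exact Finset.sum_congr rfl fun j _ => by rw [hv, Int.cast_id]
  have h6 : R.charpoly = cyclotomic 12 ℤ * (Polynomial.X ^ 3 - 1) := by
    rw [hR, charpoly_RM7 hlr, RM_charpoly E6.ok hB6 hl, hchp, cyclotomic_three]
    ring
  rw [hR', charpoly_rank_one' (n := 6) (show Fintype.card (Fin E7.pk.rank) = 6 + 1 from Fintype.card_fin _) R
    (rvz ℤ a) (rvz ℤ w1) (rvz ℤ w2) v r1 r2 r3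
    ((hpair w2).trans o2.2) ((hpair w1).trans o1.2) ((hpair a).trans h2.1) _ h6, cyclotomic_six, cyclotomic_two]
  ring

/-- A Weyl element fixing a functional and the roots it kills is trivial. -/
theorem fix_id {r : ℕ} [Fact r.Prime] (hr : E7.pk.rank < r - 1) {e : Fin E7.pk.rank → ZMod r} {K : List ℕ}
    (hK : ∀ a ∈ K, a ∈ V1) (hKn : K.Nodup) (hpw : ∀ a ∈ K, ∀ b ∈ K, a ≠ b → pr a b = 0)
    (hreg : ∀ β < E7.pk.nroots, β ∉ K → E7.pk.ng β ∉ K → dot E7.pk e β ≠ 0)
    {l' : List ℕ} (hl' : WordOk E7.pk l') (hfix : tr E7.pk l' e = e) (hKf : ∀ a ∈ K, wl E7.pk l' a = a) :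
    ∀ β < E7.pk.nroots, wl E7.pk l' β = β := by
  classical
  have h := E7.ok
  intro α hα
  obtain ⟨o, ho, hMo⟩ := exists_order h hl'
  by_contra hne
  have hM1 : WM E7.pk l' ≠ 1 := fun e => hne (wl_eq_of_WM h hl' e α hα)
  have hfin : IsOfFinOrder (WM E7.pk l') := isOfFinOrder_iff_pow_eq_one.2 ⟨o, ho, hMo⟩
  obtain ⟨s, hs, hsd⟩ := Nat.exists_prime_and_dvd (n := orderOf (WM E7.pk l')) (by rwa [Ne, orderOf_eq_one_iff])
  set k := orderOf (WM E7.pk l') / s
  have hks : k * s = orderOf (WM E7.pk l') := Nat.div_mul_cancel hsd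
  set l2 := pw k l' with hl2
  have hl2w : WordOk E7.pk l2 := wordOk_pw hl' k
  have hM2 : WM E7.pk l2 ≠ 1 := by
    rw [hl2, WM_pw h hl']
    refine pow_ne_one_of_lt_orderOf ?_ ?_
    · intro e0
      rw [e0, zero_mul] at hks
      exact (hfin.orderOf_pos).ne' hks.symm
    · have := hs.two_le
      have := hfin.orderOf_pos
      nlinarith
  have hM2s : WM E7.pk l2 ^ s = 1 := by rw [hl2, WM_pw h hl', ← pow_mul, hks, pow_orderOf_eq_one]
  have hKf2 : ∀ a ∈ K, ∀ j, wl E7.pk (pw j l') a = a := by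
    intro a ha j
    induction j with
    | zero => rfl
    | succ j ih =>
      rw [show pw (j + 1) l' = l' ++ pw j l' by simp [pw, List.replicate_succ], wl_append, ih, hKf a ha]
  have hfix2 : tr E7.pk l2 e = e := by
    have : ∀ j, tr E7.pk (pw j l') e = e := by
      intro j
      induction j with
      | zero => rw [tr, show WM E7.pk (pw 0 l') = 1 from WM_nil h, Matrix.map_one _ (map_zero _) (map_one _),
          Matrix.one_mulVec]
      | succ j ih =>
        rw [show pw (j + 1) l' = l' ++ pw j l' by simp [pw, List.replicate_succ],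
          tr_append h hl' (wordOk_pw hl' j), hfix]
        exact ih
    exact this k
  have hsr : s ≠ r := fun e => hM2 (eq_one_of_pow_prime hs (e ▸ hr) hM2s)
  set et : Fin E7.pk.rank → ℤ := fun i => (e i).val with het
  set E : Fin E7.pk.rank → ℤ := ∑ j ∈ Finset.range s, (WM E7.pk l2 ^ j).mulVec et with hE
  have hEfix : (WM E7.pk l2).mulVec E = E := by
    rw [hE, Matrix.mulVec_sum]
    simp only [Matrix.mulVec_mulVec, ← pow_succ']
    apply add_right_cancel (b := (WM E7.pk l2 ^ 0).mulVec et)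
    rw [← Finset.sum_range_succ' (fun j => (WM E7.pk l2 ^ j).mulVec et), Finset.sum_range_succ, hM2s, pow_zero]
  have hEr : ∀ i, ((E i : ℤ) : ZMod r) = (s : ZMod r) * e i := by
    intro i
    have hj : ∀ j, (((WM E7.pk l2 ^ j).mulVec et i : ℤ) : ZMod r) = e i := by
      intro j
      have h1 : ((WM E7.pk l2 ^ j).map (Int.castRingHom (ZMod r))).mulVec e = e := by
        induction j with
        | zero => simp
        | succ j ih =>
          rw [pow_succ', Matrix.map_mul, ← Matrix.mulVec_mulVec, ih]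
          exact hfix2
      have h2 := RingHom.map_mulVec (Int.castRingHom (ZMod r)) (WM E7.pk l2 ^ j) et i
      rw [show Int.castRingHom (ZMod r) ∘ et = e from funext fun i => by simp [het], h1] at h2
      exact h2
    rw [hE, Finset.sum_apply, Int.cast_sum, Finset.sum_congr rfl fun j _ => hj j, Finset.sum_const,
      Finset.card_range, nsmul_eq_mul]
  set G : Fin E7.pk.rank → ℤ := ∑ a ∈ K.toFinset, (Bm E7.pk).mulVec (rvz ℤ a) with hG
  have hGd : ∀ β < E7.pk.nroots, dot E7.pk G β = ∑ a ∈ K.toFinset, pr β a := by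
    intro β hβ
    simp only [hG, dot, Finset.sum_apply, Int.cast_id, Finset.mul_sum]
    rw [Finset.sum_comm]
    refine Finset.sum_congr rfl fun a _ => ?_
    have e2 := cC_dot (rvz ℤ a) hβ
    rw [cC_rvz, Int.cast_id] at e2
    rw [e2, dot, show (Bm E7.pk).map (Int.castRingHom ℤ) = Bm E7.pk by ext; simp [Matrix.map_apply]]
    simp only [Int.cast_id]
  have hGfix : (WM E7.pk l2).mulVec G = G := by
    rw [hG, Matrix.mulVec_sum]
    refine Finset.sum_congr rfl fun a ha => ?_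
    have ha' := List.mem_toFinset.1 ha
    have haV := (mem_V1.1 (hK a ha')).1
    rw [Matrix.mulVec_mulVec, ← Bm_RM h hl2w, ← Matrix.mulVec_mulVec]
    congr 1
    have hl2r : WordOk E7.pk l2.reverse := fun x hx => hl2w x (List.mem_reverse.1 hx)
    have e2 := RM_rv (R := ℤ) hl2r a haV
    rw [show (RM E7.pk l2.reverse).map (Int.castRingHom ℤ) = RM E7.pk l2.reverse by
      ext; simp [Matrix.map_apply]] at e2
    rw [e2]
    congr 1
    have e3 := h.wl_reverse l2 hl2w a haV
    rwa [hl2, hKf2 a ha' k] at e3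
  set N : ℕ := (∑ a ∈ K.toFinset, (dot E7.pk E a).natAbs) + 1 with hN
  set E' : Fin E7.pk.rank → ℤ := E + ((r : ℤ) * N) • G with hE'
  have hdot : ∀ β, dot E7.pk E' β = dot E7.pk E β + (r : ℤ) * N * dot E7.pk G β := fun β => by
    simp only [hE', dot, Pi.add_apply, Pi.smul_apply, smul_eq_mul, mul_add, Finset.sum_add_distrib, Finset.mul_sum]
    congr 1
    exact Finset.sum_congr rfl fun j _ => by simp only [Int.cast_id]; ring
  have hEreg : ∀ β < E7.pk.nroots, dot E7.pk E' β ≠ 0 := by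
    have hpos : ∀ a ∈ K, dot E7.pk E' a ≠ 0 := by
      intro a ha
      have haV := (mem_V1.1 (hK a ha)).1
      have h2 := List.all_eq_true.1 ckSelf a (hK a ha)
      simp only [Bool.and_eq_true, decide_eq_true_eq] at h2
      rw [hdot, hGd a haV, Finset.sum_eq_single a
        (fun b hb hba => hpw a ha b (List.mem_toFinset.1 hb) hba.symm)
        (fun hn => absurd (List.mem_toFinset.2 ha) hn), h2.1]
      intro e0
      have hle : (dot E7.pk E a).natAbs < N := Nat.lt_succ_of_le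
        (Finset.single_le_sum (f := fun a => (dot E7.pk E a).natAbs) (fun _ _ => Nat.zero_le _) (List.mem_toFinset.2 ha))
      have e1 : (dot E7.pk E a).natAbs = r * N * 2 := by
        rw [show dot E7.pk E a = -((r * N * 2 : ℕ) : ℤ) by push_cast; linarith, Int.natAbs_neg, Int.natAbs_natCast]
      have hr1 := (Fact.out : r.Prime).one_le
      have h3 : 1 * N ≤ r * N := Nat.mul_le_mul_right _ hr1
      omega
    intro β hβ h0
    by_cases h1 : β ∈ K
    · exact hpos β h1 h0
    by_cases h2 : E7.pk.ng β ∈ K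
    · refine hpos _ h2 ?_
      rw [dot_ng h E' hβ, h0, neg_zero]
    have h3 : ((dot E7.pk E' β : ℤ) : ZMod r) = (s : ZMod r) * dot E7.pk e β := by
      rw [hdot, Int.cast_add, Int.cast_mul, Int.cast_mul, Int.cast_natCast, ZMod.natCast_self, zero_mul, zero_mul,
        add_zero, dot, dot, Int.cast_sum, Finset.mul_sum]
      refine Finset.sum_congr rfl fun j _ => ?_
      rw [Int.cast_mul, hEr]
      simp only [Int.cast_id]
      ring
    rw [h0, Int.cast_zero, eq_comm, mul_eq_zero] at h3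
    refine h3.elim (fun hs0 => ?_) (hreg β hβ h1 h2)
    exact hsr ((Nat.prime_dvd_prime_iff_eq Fact.out hs).1 ((ZMod.natCast_eq_zero_iff _ _).1 hs0)).symm
  refine hM2 ?_
  rw [← WM_nil h]
  refine WM_congr h (regular_fix h _ E' l2 hl2w hEreg le_rfl ?_)
  rw [tr, show (WM E7.pk l2).map (Int.castRingHom ℤ) = WM E7.pk l2 by ext; simp [Matrix.map_apply], hE',
    Matrix.mulVec_add, Matrix.mulVec_smul, hEfix, hGfix]

end Cfsg.Agent.Chev.CyclTorus
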