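/-
Twisting a torus of E7 by the reflection in a root whose orbit consists of three orthogonal roots.
-/
import Cfsg.Agent.Lib.Chev.CyclTorus.E7Roots
import Cfsg.Agent.Lib.Chev.SL2
import Cfsg.Agent.Lib.Chev.TwistStd
import Mathlib.LinearAlgebra.Matrix.SpecialLinearGroup

set_option autoImplicit false
set_option linter.unusedSectionVars false
set_option maxHeartbeats 800000

namespace Cfsg.Agent.Chev.CyclTorus

open Cfsg.Lie Cfsg.Agent.Chev
open scoped MatrixGroups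

/-- Orthogonal roots of level one give commuting subgroups. -/
theorem ckOrb4 : (V1.all fun a => (V1.filter (orB a)).all fun b => ckOrth E7.pk a b && ckOrth E7.pk (E7.pk.ng a) b &&
    ckOrth E7.pk a (E7.pk.ng b) && ckOrth E7.pk (E7.pk.ng a) (E7.pk.ng b)) = true := by decide +kernel

attribute [local irreducible] V1 embL

section Field

variable {L : Type*} [Field L] [Fintype L]

theorem exists_pow_eq {G : Type*} [CommGroup G] [Finite G] [IsCyclic G] {d e : ℕ} (hc : Nat.card G = d * e) {x : G}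
    (hx : x ^ e = 1) : ∃ y, y ^ d = x := by
  obtain ⟨g, hg⟩ := IsCyclic.exists_generator (α := G)
  obtain ⟨k, rfl⟩ := Subgroup.mem_zpowers_iff.1 (hg x)
  have he : (e : ℤ) ≠ 0 := by
    intro e0
    rw [Int.natCast_eq_zero.1 e0, mul_zero] at hc
    exact Nat.card_pos.ne' hc
  rw [← zpow_natCast, ← zpow_mul, ← orderOf_dvd_iff_zpow_eq_one, orderOf_eq_card_of_forall_mem_zpowers hg, hc,
    Nat.cast_mul, mul_dvd_mul_iff_right he] at hx
  obtain ⟨j, rfl⟩ := hx
  exact ⟨g ^ j, by rw [← zpow_natCast, ← zpow_mul, mul_comm]⟩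

/-- Lang's theorem for the non-split torus of SL2. -/
theorem exists_sl2_lang {q : ℕ} (hq : 2 ≤ q) (hL : Fintype.card L = q ^ 12) (φ : L →+* L)
    (hφ : ∀ x, φ x = x ^ q ^ 3) :
    ∃ B : SL(2, L), Matrix.SpecialLinearGroup.map φ B = B * sW := by
  classical
  set Q := q ^ 3 with hQ
  have hQ2 : 2 ≤ Q := le_trans hq (Nat.le_self_pow (by norm_num) q)
  have hcard : Nat.card Lˣ = Q ^ 4 - 1 := by
    rw [Nat.card_eq_fintype_card, Fintype.card_units, hL, hQ, ← pow_mul]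
  have hcard2 : Nat.card Lˣ = (Q ^ 2 + 1) * ((Q - 1) * (Q + 1)) := by
    rw [hcard]
    obtain ⟨k, hk⟩ : ∃ k, Q = k + 1 := ⟨Q - 1, by omega⟩
    rw [hk, Nat.add_sub_cancel]
    exact Nat.sub_eq_of_eq_add (by ring)
  -- an element outside the small field
  obtain ⟨g, hg⟩ := IsCyclic.exists_generator (α := Lˣ)
  set lam : Lˣ := g ^ (Q ^ 2 + 1) with hlam
  have hord : orderOf g = Nat.card Lˣ := orderOf_eq_card_of_forall_mem_zpowers hg
  have hl2 : ((lam : L)) ^ (Q * Q) = (lam : L) := by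
    have h1 : lam ^ ((Q - 1) * (Q + 1)) = 1 := by rw [hlam, ← pow_mul, ← hcard2, ← hord, pow_orderOf_eq_one]
    have h2 : lam ^ (Q * Q) = lam := by
      rw [show Q * Q = (Q - 1) * (Q + 1) + 1 by
        obtain ⟨k, hk⟩ : ∃ k, Q = k + 1 := ⟨Q - 1, by omega⟩
        rw [hk, Nat.add_sub_cancel]; ring, pow_succ, h1, one_mul]
    simpa using congrArg Units.val h2
  have hl1 : (lam : L) - (lam : L) ^ Q ≠ 0 := by
    intro e
    have h1 : lam ^ (Q - 1) = 1 := by
      have h2 : lam ^ (Q - 1) * lam = 1 * lam := by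
        rw [← pow_succ, show Q - 1 + 1 = Q by omega, one_mul]
        exact Units.ext (by rw [Units.val_pow_eq_pow_val]; exact (sub_eq_zero.1 e).symm)
      exact mul_right_cancel h2
    rw [hlam, ← pow_mul, ← orderOf_dvd_iff_pow_eq_one, hord, hcard2] at h1
    have h3 := Nat.le_of_dvd (by omega) ((Nat.mul_dvd_mul_iff_left (by positivity)).1 h1)
    have h4 : (Q - 1) * 2 ≤ (Q - 1) * (Q + 1) := Nat.mul_le_mul_left _ (by omega)
    omega
  -- the norm equation
  set d : L := (lam : L) - (lam : L) ^ Q with hd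
  have hneg : φ d = -d := by
    rw [hd, map_sub, map_pow, hφ, ← pow_mul, hl2]
    ring
  obtain ⟨u, hu⟩ := exists_pow_eq (G := Lˣ) (d := Q + 1) (e := (Q - 1) * (Q ^ 2 + 1))
    (by rw [hcard2]; ring) (x := (Units.mk0 d hl1)⁻¹) (by
      rw [inv_pow, inv_eq_one]
      refine Units.ext ?_
      rw [Units.val_pow_eq_pow_val, Units.val_mk0, Units.val_one, pow_mul]
      have h1 : d ^ (Q - 1) = -1 := by
        have h2 : d ^ (Q - 1) * d = (-1) * d := by
          rw [← pow_succ, show Q - 1 + 1 = Q by omega, ← hφ, hneg, neg_one_mul]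
        exact mul_right_cancel₀ hl1 h2
      rw [h1]
      rcases Nat.even_or_odd Q with hev | hodd
      · have h3 : (-1 : L) = 1 := by
          have h4 := FiniteField.pow_card (-1 : L)
          rw [hL, show q ^ 12 = Q ^ 4 by rw [hQ, ← pow_mul]] at h4
          rw [Even.neg_one_pow (by rw [Nat.even_pow]; exact ⟨hev, by norm_num⟩)] at h4
          exact h4.symm
        rw [h3, one_pow]
      · exact Even.neg_one_pow (Odd.pow hodd).add_one)
  have hu0 : (u : L) ^ (Q + 1) * d = 1 := by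
    have := congrArg Units.val hu
    rw [Units.val_pow_eq_pow_val, Units.val_inv_eq_inv_val, Units.val_mk0] at this
    rw [this, inv_mul_cancel₀ hl1]
  have hu2 : (u : L) ^ (Q * Q) = -(u : L) := by
    have h1 := congrArg φ hu0
    rw [map_mul, map_pow, map_one, hneg, hφ, ← pow_mul, mul_neg, ← hu0] at h1
    have h2 : ((u : L) ^ (Q * (Q + 1)) + (u : L) ^ (Q + 1)) * d = 0 := by linear_combination -h1
    have h3 := (mul_eq_zero.1 h2).resolve_right hl1
    rw [mul_add, mul_one, pow_add, pow_add, pow_one] at h3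
    have h4 : ((u : L) ^ (Q * Q) + u) * (u : L) ^ Q = 0 := by linear_combination h3
    exact eq_neg_of_add_eq_zero_left ((mul_eq_zero.1 h4).resolve_right (pow_ne_zero _ u.ne_zero))
  have hfix : ∀ x : L, x ^ (Q * Q) = -x → φ (-(φ x)) = x := fun x hx => by
    rw [map_neg, hφ, hφ, ← pow_mul, hx, neg_neg]
  refine ⟨⟨!![(u : L), -φ u; (lam : L) * u, -φ ((lam : L) * u)], ?_⟩, ?_⟩
  · rw [Matrix.det_fin_two_of, map_mul, hφ, hφ]
    rw [hd, pow_succ] at hu0
    linear_combination hu0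
  · apply Subtype.ext
    have e1 := hfix u hu2
    have e2 := hfix ((lam : L) * u) (by rw [mul_pow, hl2, hu2, mul_neg])
    show Matrix.map !![(u : L), -φ u; (lam : L) * u, -φ ((lam : L) * u)] φ =
      !![(u : L), -φ u; (lam : L) * u, -φ ((lam : L) * u)] * (sW : SL(2, L)).1
    rw [map_neg] at e1 e2
    ext i j
    fin_cases i <;> fin_cases j <;> simp [coe_sW] <;> first | exact e1 | (rw [← map_mul, ← map_mul]; exact e2)

theorem sl2_ext {G : Type*} [Group G] {f g : SL(2, L) →* G} (hU : ∀ t, f (sU t) = g (sU t))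
    (hL : ∀ t, f (sL t) = g (sL t)) : f = g := by
  refine MonoidHom.ext fun M => sl2_induction (p := fun M => f M = g M) (by rw [map_one, map_one])
    (fun t M e => by rw [map_mul, map_mul, hU, e]) (fun M e => by
      rw [map_mul, map_mul, sW_eq, map_mul, map_mul, map_mul, map_mul, hU, hL, e]) M

theorem sl2_commute {G : Type*} [Group G] {f : SL(2, L) →* G} {x : G} (hU : ∀ t, Commute (f (sU t)) x)
    (hL : ∀ t, Commute (f (sL t)) x) (M : SL(2, L)) : Commute (f M) x :=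
  sl2_induction (p := fun M => Commute (f M) x) (by rw [map_one]; exact Commute.one_left x)
    (fun t M e => by rw [map_mul]; exact (hU t).mul_left e)
    (fun M e => by rw [map_mul, sW_eq, map_mul, map_mul]; exact (((hU 1).mul_left (hL _)).mul_left (hU 1)).mul_left e) M

/-- Rescaling the root subgroups of SL2. -/
theorem exists_rescale (s : Lˣ) : ∃ φ : SL(2, L) →* SL(2, L),
    (∀ t, φ (sU t) = sU ((s : L) * t)) ∧ ∀ t, φ (sL t) = sL ((s⁻¹ : Lˣ) * t) := by
  let f : Matrix (Fin 2) (Fin 2) L → Matrix (Fin 2) (Fin 2) L := fun M =>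
    !![M 0 0, (s : L) * M 0 1; (s⁻¹ : Lˣ) * M 1 0, M 1 1]
  have hdet : ∀ M : SL(2, L), (f M.1).det = 1 := fun M => by
    rw [Matrix.det_fin_two_of]
    have h := M.2
    rw [Matrix.det_fin_two] at h
    linear_combination h - M.1 0 1 * M.1 1 0 * s.mul_inv
  refine ⟨MonoidHom.mk' (fun M => ⟨f M.1, hdet M⟩) fun M N => Subtype.ext ?_, fun t => Subtype.ext ?_,
    fun t => Subtype.ext ?_⟩
  · show f (M * N).1 = f M.1 * f N.1
    simp only [f, Matrix.SpecialLinearGroup.coe_mul, Matrix.mul_fin_two, Matrix.mul_apply, Fin.sum_univ_two]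
    ext i j
    fin_cases i <;> fin_cases j <;> simp <;> field_simp
  · show f (sU t).1 = _
    simp [f, coe_sU]
  · show f (sL t).1 = _
    simp [f, coe_sL]

end Field

variable {L : Type*} [Field L] [Fintype L]

/-- A product of a torus element and the representative of a word. -/
def InT (L : Type*) [Field L] (w : List ℕ) (g : GL chevE7.Idx L) : Prop :=
  ∃ c : Fin E7.pk.rank → Lˣ, g = E7.ok.hHom c * E7.ok.nW w

theorem InT.mul {w1 w2 : List ℕ} (h1 : WordOk E7.pk w1) {g1 g2 : GL chevE7.Idx L} (e1 : InT L w1 g1)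
    (e2 : InT L w2 g2) : InT L (w1 ++ w2) (g1 * g2) := by
  obtain ⟨c1, rfl⟩ := e1
  obtain ⟨c2, rfl⟩ := e2
  obtain ⟨c3, hc3⟩ := E7.ok.mem_diagonal_iff.1
    ((Subgroup.mem_normalizer_iff.1 (E7.ok.nW_normalizer (F := L) w1 h1) _).1
      (E7.ok.mem_diagonal_iff.2 ⟨c2, rfl⟩))
  refine ⟨c1 * c3, ?_⟩
  rw [map_mul, hc3, E7.ok.nW_append]
  group

theorem InT.diag {g : GL chevE7.Idx L} (hg : g ∈ chevE7.diagonalSubgroup L) : InT L [] g := by
  obtain ⟨c, rfl⟩ := E7.ok.mem_diagonal_iff.1 hg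
  exact ⟨c, by rw [E7.ok.nW_nil, mul_one]⟩

theorem InT.word (w : List ℕ) : InT L w (E7.ok.nW w) := ⟨1, by rw [map_one, one_mul]⟩

/-- The twist of a torus by the reflection in such a root. -/
theorem exists_reflect_twist {q : ℕ} (hq : 2 ≤ q) (hL : Fintype.card L = q ^ 12) {σ : L →+* L}
    (hσ : ∀ x, σ x = x ^ q) {y : GL chevE7.Idx L} (hy : y ∈ chevE7.group L) {l : List ℕ} (hl : WordOk E7.pk l)
    {cd : Fin E7.pk.rank → Lˣ} (hrel : y⁻¹ * gmap chevE7 σ y = E7.ok.hHom cd * E7.ok.nW l)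
    {a : ℕ} (ha : a ∈ V1) {b : List ℕ} {i : ℕ} (hb : WordOk E7.pk b) (hi : i < E7.pk.rank)
    (hbi : wl E7.pk b (E7.pk.sim i) = a)
    (hw3 : wl E7.pk l (wl E7.pk l (wl E7.pk l a)) = a)
    (h1V : wl E7.pk l a ∈ V1) (h2V : wl E7.pk l (wl E7.pk l a) ∈ V1)
    (o1 : orB a (wl E7.pk l a) = true) (o2 : orB a (wl E7.pk l (wl E7.pk l a)) = true) :
    ∃ y' ∈ chevE7.group L, ∃ cd' : Fin E7.pk.rank → Lˣ,
      y'⁻¹ * gmap chevE7 σ y' = E7.ok.hHom cd' * E7.ok.nW (b ++ [i] ++ b.reverse ++ l) := by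
  classical
  have h := E7.ok
  set Θ : GL chevE7.Idx L →* GL chevE7.Idx L :=
    ((MulAut.conj y⁻¹).toMonoidHom.comp (gmap chevE7 σ)).comp (MulAut.conj y).toMonoidHom with hΘ
  have hΘ1 : ∀ g, Θ g = y⁻¹ * gmap chevE7 σ (y * g * y⁻¹) * y := fun g => by
    simp [hΘ, mul_assoc]
  have hΘn : ∀ g, Θ g = E7.ok.hHom cd * E7.ok.nW l * gmap chevE7 σ g * (E7.ok.hHom cd * E7.ok.nW l)⁻¹ := fun g => by
    rw [hΘ1, map_mul, map_mul, map_inv, ← hrel]
    group
  have hΘpow : ∀ (n : ℕ) (g : GL chevE7.Idx L),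
      y * (Θ^[n] g) * y⁻¹ = (gmap chevE7 σ)^[n] (y * g * y⁻¹) := by
    intro n
    induction n with
    | zero => intro g; rfl
    | succ n ih =>
      intro g
      rw [Function.iterate_succ_apply', Function.iterate_succ_apply', ← ih, hΘ1]
      group
  have hσ12 : ∀ g : GL chevE7.Idx L, (gmap chevE7 σ)^[12] g = g := by
    intro g
    have hpow : ∀ n : ℕ, ∀ u v, (Units.val ((⇑(gmap chevE7 σ))^[n] g)) u v =
        (Units.val g) u v ^ q ^ n := by
      intro n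
      induction n with
      | zero => intro u v; simp
      | succ n ih =>
        intro u v
        rw [Function.iterate_succ_apply', coe_gmap, Matrix.map_apply, ih, hσ, ← pow_mul, pow_succ]
    apply Units.ext
    ext u v
    rw [hpow, ← hL, FiniteField.pow_card]
  -- one step on root subgroups
  have hstep : ∀ r < E7.pk.nroots, ∃ c : L, c ≠ 0 ∧
      (∀ t, Θ (E7.ok.xG r t) = E7.ok.xG (wl E7.pk l r) (c * t ^ q)) ∧
      ∀ t, Θ (E7.ok.xG (E7.pk.ng r) t) = E7.ok.xG (E7.pk.ng (wl E7.pk l r)) (c⁻¹ * t ^ q) := by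
    intro r hr
    obtain ⟨e, hee, hx⟩ := h.nW_xG (F := L) l hl r hr
    have he : e ≠ 0 := fun e0 => by simp [e0] at hee
    have hlt := h.wl_lt l hl r hr
    have hinv : e⁻¹ = e := inv_eq_of_mul_eq_one_right hee
    have hng : hchar E7.pk cd (E7.pk.ng (wl E7.pk l r)) = (hchar E7.pk cd (wl E7.pk l r))⁻¹ :=
      (h.isChar_hchar cd).neg _ hlt
    have h0 : hchar E7.pk cd (wl E7.pk l r) ≠ 0 := (h.isChar_hchar cd).ne _ hlt
    refine ⟨hchar E7.pk cd (wl E7.pk l r) * e, mul_ne_zero h0 he, fun t => ?_, fun t => ?_⟩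
    · rw [hΘn, h.gmap_xG σ hr, hσ, show ∀ A B C : GL chevE7.Idx L, A * B * C * (A * B)⁻¹ = A * (B * C * B⁻¹) * A⁻¹ from
        fun A B C => by group, (hx _).1, h.hHom_xG cd hlt, mul_assoc]
    · rw [hΘn, h.gmap_xG σ (Ok.ng_lt hr), hσ, show ∀ A B C : GL chevE7.Idx L, A * B * C * (A * B)⁻¹ = A * (B * C * B⁻¹) * A⁻¹ from
        fun A B C => by group, (hx _).2, h.hHom_xG cd (Ok.ng_lt hlt), hng, mul_inv, hinv, mul_assoc]
  have haV := (mem_V1.1 ha).1
  have h1V' := (mem_V1.1 h1V).1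
  have h2V' := (mem_V1.1 h2V).1
  obtain ⟨c0, hc0, p0, m0⟩ := hstep a haV
  obtain ⟨c1, hc1, p1, m1⟩ := hstep _ h1V'
  obtain ⟨c2, hc2, p2, m2⟩ := hstep _ h2V'
  rw [hw3] at p2 m2
  set C := c2 * c1 ^ q * c0 ^ (q * q) with hC
  have hC0 : C ≠ 0 := mul_ne_zero (mul_ne_zero hc2 (pow_ne_zero _ hc1)) (pow_ne_zero _ hc0)
  set Q := q ^ 3 with hQ
  have hp3 : ∀ t, Θ (Θ (Θ (E7.ok.xG a t))) = E7.ok.xG a (C * t ^ Q) := fun t => by
    rw [p0, p1, p2]
    congr 1
    rw [hC, hQ]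
    ring
  have hm3 : ∀ t, Θ (Θ (Θ (E7.ok.xG (E7.pk.ng a) t))) = E7.ok.xG (E7.pk.ng a) (C⁻¹ * t ^ Q) := fun t => by
    rw [m0, m1, m2]
    congr 1
    rw [hC, hQ]
    simp only [mul_inv, ← inv_pow, mul_pow, ← pow_mul]
    ring
  -- the norm condition
  have hnorm : C * C ^ Q * C ^ (Q * Q) * C ^ (Q * Q * Q) = 1 := by
    have h12 : Θ^[12] (E7.ok.xG a 1) = E7.ok.xG a 1 := by
      have := hΘpow 12 (E7.ok.xG a (1 : L))
      rw [hσ12] at this
      exact mul_left_cancel (mul_right_cancel this)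
    simp only [Function.iterate_succ_apply', Function.iterate_zero_apply] at h12
    rw [hp3, hp3, hp3, hp3] at h12
    have e := h.xG_inj_param haV h12
    rw [one_pow, mul_one] at e
    rw [← e]
    simp only [mul_pow, ← pow_mul]
    ring
  obtain ⟨k, hk⟩ : ∃ k : Lˣ, C * (k : L) ^ Q = k := by
    have hQ2 : 2 ≤ Q := le_trans hq (Nat.le_self_pow (by norm_num) q)
    obtain ⟨k, hk⟩ := exists_pow_eq (G := Lˣ) (d := Q - 1) (e := 1 + Q + Q * Q + Q * Q * Q) (by
      rw [Nat.card_eq_fintype_card, Fintype.card_units, hL, show q ^ 12 = Q ^ 4 by rw [hQ, ← pow_mul]]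
      obtain ⟨j, hj⟩ : ∃ j, Q = j + 1 := ⟨Q - 1, by omega⟩
      rw [hj, Nat.add_sub_cancel]
      exact Nat.sub_eq_of_eq_add (by ring)) (x := (Units.mk0 C hC0)⁻¹) (by
      rw [inv_pow, inv_eq_one]
      refine Units.ext ?_
      rw [Units.val_pow_eq_pow_val, Units.val_mk0, Units.val_one, pow_add, pow_add, pow_add, pow_one]
      exact hnorm)
    refine ⟨k, ?_⟩
    have := congrArg Units.val hk
    rw [Units.val_pow_eq_pow_val, Units.val_inv_eq_inv_val, Units.val_mk0] at this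
    rw [show Q = (Q - 1) + 1 by omega, pow_succ, ← mul_assoc, this, mul_inv_cancel₀ hC0, one_mul]
  -- the root subgroup
  obtain ⟨φi, -, hU, hLo⟩ := h.exists_sl2 (F := L) ckRefl_E7 (r := E7.pk.sim i) (h.sim_lt hi)
  obtain ⟨e, hee, hx⟩ := h.nW_xG (F := L) b hb _ (h.sim_lt hi)
  rw [hbi] at hx
  have he0 : e ≠ 0 := fun e0 => by simp [e0] at hee
  obtain ⟨resc, hrU, hrL⟩ := exists_rescale (Units.mk0 e he0 * k)
  set ψ : SL(2, L) →* GL chevE7.Idx L :=
    ((MulAut.conj (E7.ok.nW b)).toMonoidHom.comp φi).comp resc with hψ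
  have hψU : ∀ t, ψ (sU t) = E7.ok.xG a ((k : L) * t) := fun t => by
    show E7.ok.nW b * φi (resc (sU t)) * (E7.ok.nW b)⁻¹ = _
    rw [hrU, hU, (hx _).1, Units.val_mul, Units.val_mk0, ← mul_assoc, ← mul_assoc, hee, one_mul]
  have hψL : ∀ t, ψ (sL t) = E7.ok.xG (E7.pk.ng a) ((k⁻¹ : Lˣ) * t) := fun t => by
    show E7.ok.nW b * φi (resc (sL t)) * (E7.ok.nW b)⁻¹ = _
    rw [hrL, hLo, (hx _).2, mul_inv, Units.val_mul, Units.val_inv_eq_inv_val, Units.val_mk0, ← mul_assoc,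
      ← mul_assoc, inv_eq_of_mul_eq_one_right hee, hee, one_mul]
  let F3 : L →+* L := (σ.comp σ).comp σ
  have hF3 : ∀ x, F3 x = x ^ Q := fun x => by
    show σ (σ (σ x)) = _
    rw [hσ, hσ, hσ, ← pow_mul, ← pow_mul, hQ]
    ring
  have hTh : ((Θ.comp Θ).comp Θ).comp ψ = ψ.comp (Matrix.SpecialLinearGroup.map F3) := by
    refine sl2_ext (fun t => ?_) fun t => ?_
    · show Θ (Θ (Θ (ψ (sU t)))) = ψ (Matrix.SpecialLinearGroup.map F3 (sU t))
      rw [hψU, hp3, show Matrix.SpecialLinearGroup.map F3 (sU t) = sU (F3 t) by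
        apply Subtype.ext; show (sU t : SL(2, L)).1.map F3 = _; ext i j
        fin_cases i <;> fin_cases j <;> simp [sU], hψU, hF3, mul_pow, ← mul_assoc, hk]
    · show Θ (Θ (Θ (ψ (sL t)))) = ψ (Matrix.SpecialLinearGroup.map F3 (sL t))
      rw [hψL, hm3, show Matrix.SpecialLinearGroup.map F3 (sL t) = sL (F3 t) by
        apply Subtype.ext; show (sL t : SL(2, L)).1.map F3 = _; ext i j
        fin_cases i <;> fin_cases j <;> simp [sL], hψL, hF3, mul_pow, ← mul_assoc,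
        Units.val_inv_eq_inv_val, inv_pow, ← mul_inv, hk]
  -- commutation
  have hcomm : ∀ c ∈ V1, orB a c = true → ∀ M : SL(2, L), ∀ t,
      Commute (ψ M) (E7.ok.xG c t) ∧ Commute (ψ M) (E7.ok.xG (E7.pk.ng c) t) := by
    intro c hc ho M t
    have h4 := List.all_eq_true.1 ckOrb4 a ha
    simp only [List.all_eq_true, List.mem_filter, Bool.and_eq_true] at h4
    obtain ⟨⟨⟨o00, o10⟩, o01⟩, o11⟩ := h4 c ⟨hc, ho⟩
    constructor
    · exact sl2_commute (fun u => by rw [hψU]; exact h.commute_xG ckComm_E7 o00 _ _)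
        (fun u => by rw [hψL]; exact h.commute_xG ckComm_E7 o10 _ _) M
    · exact sl2_commute (fun u => by rw [hψU]; exact h.commute_xG ckComm_E7 o01 _ _)
        (fun u => by rw [hψL]; exact h.commute_xG ckComm_E7 o11 _ _) M
  have hc01 : ∀ M N : SL(2, L), Commute (ψ M) (Θ (ψ N)) := fun M N =>
    (sl2_commute (f := Θ.comp ψ) (fun u => by
        rw [MonoidHom.comp_apply, hψU, p0]; exact ((hcomm _ h1V o1 M _).1).symm)
      (fun u => by rw [MonoidHom.comp_apply, hψL, m0]; exact ((hcomm _ h1V o1 M _).2).symm) N).symm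
  have hc02 : ∀ M N : SL(2, L), Commute (ψ M) (Θ (Θ (ψ N))) := fun M N =>
    (sl2_commute (f := (Θ.comp Θ).comp ψ) (fun u => by
        rw [MonoidHom.comp_apply, MonoidHom.comp_apply, hψU, p0, p1]; exact ((hcomm _ h2V o2 M _).1).symm)
      (fun u => by
        rw [MonoidHom.comp_apply, MonoidHom.comp_apply, hψL, m0, m1]; exact ((hcomm _ h2V o2 M _).2).symm) N).symm
  obtain ⟨B, hB⟩ := exists_sl2_lang hq hL F3 hF3
  set p := ψ B with hp
  set c := p * Θ p * Θ (Θ p) with hc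
  have hψG : ∀ M, ψ M ∈ chevE7.group L := fun M =>
    sl2_induction (p := fun M => ψ M ∈ chevE7.group L) (by rw [map_one]; exact one_mem _)
      (fun t M e => by rw [map_mul, hψU]; exact mul_mem (h.mem_group_of_xG _ _) e)
      (fun M e => by
        rw [map_mul, sW_eq, map_mul, map_mul, hψU, hψL]
        exact mul_mem (mul_mem (mul_mem (h.mem_group_of_xG _ _) (h.mem_group_of_xG _ _)) (h.mem_group_of_xG _ _)) e) M
  have hΘG : ∀ g ∈ chevE7.group L, Θ g ∈ chevE7.group L := fun g hg => by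
    rw [hΘ1]
    exact mul_mem (mul_mem (inv_mem hy) (h.map_group_le σ ⟨_, mul_mem (mul_mem hy hg) (inv_mem hy), rfl⟩)) hy
  have hcΘ : c⁻¹ * Θ c = ψ sW := by
    have h3 : Θ (Θ (Θ p)) = p * ψ sW := by
      have e := DFunLike.congr_fun hTh B
      simp only [MonoidHom.comp_apply] at e
      rw [hp, e, hB, map_mul]
    have e01 : Commute p⁻¹ (Θ p) := (hc01 B B).inv_left
    have e02 : Commute p⁻¹ (Θ (Θ p)) := (hc02 B B).inv_left
    rw [hc, map_mul, map_mul, h3, mul_inv_rev, mul_inv_rev]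
    calc (Θ (Θ p))⁻¹ * ((Θ p)⁻¹ * p⁻¹) * (Θ p * Θ (Θ p) * (p * ψ sW))
        = (Θ (Θ p))⁻¹ * ((Θ p)⁻¹ * (p⁻¹ * Θ p)) * Θ (Θ p) * (p * ψ sW) := by group
      _ = (Θ (Θ p))⁻¹ * ((Θ p)⁻¹ * (Θ p * p⁻¹)) * Θ (Θ p) * (p * ψ sW) := by rw [e01.eq]
      _ = (Θ (Θ p))⁻¹ * (p⁻¹ * Θ (Θ p)) * (p * ψ sW) := by group
      _ = (Θ (Θ p))⁻¹ * (Θ (Θ p) * p⁻¹) * (p * ψ sW) := by rw [e02.eq]
      _ = ψ sW := by group
  refine ⟨y * c, mul_mem hy (mul_mem (mul_mem (hψG B) (hΘG _ (hψG B))) (hΘG _ (hΘG _ (hψG B)))), ?_⟩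
  have hgy : (y * c)⁻¹ * gmap chevE7 σ (y * c) = ψ sW * (E7.ok.hHom cd * E7.ok.nW l) := by
    rw [← hcΘ, hΘ1]
    simp only [map_mul, map_inv, ← hrel]
    group
  rw [hgy]
  show InT L (b ++ [i] ++ b.reverse ++ l) _
  have hw : WordOk E7.pk [i] := by simpa [WordOk] using hi
  have hbr : WordOk E7.pk b.reverse := fun x hx => hb x (List.mem_reverse.1 hx)
  have hbi' : WordOk E7.pk (b ++ [i]) := fun x hx => (List.mem_append.1 hx).elim (hb x) (hw x)
  refine InT.mul (fun x hx => (List.mem_append.1 hx).elim (hbi' x) (hbr x)) ?_ ⟨cd, rfl⟩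
  have hs : ψ sW = E7.ok.nW b * E7.ok.nt (E7.pk.sim i) (e * k) * (E7.ok.nW b)⁻¹ := by
    show E7.ok.nW b * φi (resc sW) * (E7.ok.nW b)⁻¹ = _
    congr 2
    rw [sW_eq, map_mul, map_mul, map_mul, map_mul, hrU, hrL, hU, hLo, Ok.nt]
    simp [mul_inv, mul_comm]
  rw [hs]
  refine InT.mul hbi' (InT.mul hb (InT.word b) ?_) ?_
  · rw [h.nt_eq_ht_mul]
    have := InT.mul (w1 := []) (fun x hx => absurd hx List.not_mem_nil)
      (InT.diag (h.ht_mem (h.sim_lt hi) (mul_ne_zero he0 k.ne_zero)))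
      (InT.word (L := L) [i])
    rw [show E7.ok.nW [i] = E7.ok.nG i by rw [E7.ok.nW_cons, E7.ok.nW_nil, mul_one]] at this
    exact this
  · have hd : E7.ok.nW b * E7.ok.nW b.reverse ∈ chevE7.diagonalSubgroup L := by
      rw [← h.nW_append]
      refine h.nW_mem_diagonal (fun x hx => (List.mem_append.1 hx).elim (hb x) (hbr x)) fun r hr => ?_
      have := h.wl_reverse b.reverse hbr r hr
      rw [List.reverse_reverse] at this
      rwa [wl_append]
    obtain ⟨cb, hcb⟩ := E7.ok.mem_diagonal_iff.1 hd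
    obtain ⟨c3, hc3⟩ := E7.ok.mem_diagonal_iff.1
      ((Subgroup.mem_normalizer_iff.1 (E7.ok.nW_normalizer (F := L) b.reverse hbr) _).1
        (E7.ok.mem_diagonal_iff.2 ⟨cb⁻¹, rfl⟩))
    refine ⟨c3, ?_⟩
    rw [hc3, map_inv, hcb]
    group

end Cfsg.Agent.Chev.CyclTorus
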